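import Cfsg.Agent.H87.McKay.Coset
import Cfsg.Agent.H12.Glauberman
import Cfsg.Agent.H2.FPFSubgroup

/-!
# The Glauberman correspondence and extensions

Wrappers of the correspondence for subgroups of one group, and the criterion: with `S` a
`p`-group, `E` an abelian-modulo-`C` group of operators, `θ` extends to `M E` iff its
correspondent extends to `E`.
-/

set_option autoImplicit false
set_option linter.unusedSectionVars false
set_option linter.unusedVariables false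
set_option linter.style.haveILetI false

open Cfsg
open scoped ComplexConjugate

namespace H87.McKay

attribute [local instance high] Fintype.ofFinite

universe u v

variable {G : Type u} [Group G] [Finite G] {p : ℕ} [hp : Fact p.Prime]

/-- `θ'` is the correspondent of `θ`. -/
def GCor (p : ℕ) {M C : Subgroup G} (θ : M → ℂ) (θ' : C → ℂ) : Prop := ¬ p ∣ mlt θ θ'

section Wrap

variable {S : Type v} [Group S] {M C : Subgroup G} {φ : S →* MulAut M}

theorem mult_eq (hCM : C ≤ M) (θ : IrrCharacter M) (β : IrrCharacter C) :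
    H12.Glauberman.mult (C.subgroupOf M) θ (lift hCM β) = mlt (θ : M → ℂ) (β : C → ℂ) :=
  H12.Glauberman.mult_eq_of_classInner _ (classInner_lift hCM θ β)

theorem fix_iff (hC : ∀ m : M, (m : G) ∈ C ↔ ∀ s, φ s m = m) :
    ∀ m : M, m ∈ C.subgroupOf M ↔ ∀ s, φ s m = m := fun m => hC m

variable (hS : IsPGroup p S) (hM : ¬ p ∣ Nat.card M) (hCM : C ≤ M)
  (hC : ∀ m : M, (m : G) ∈ C ↔ ∀ s, φ s m = m)
include hS hM hCM hC

theorem gl_exists {θ : IrrCharacter M} (hθ : H12.Glauberman.Inv φ (θ : M → ℂ)) :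
    ∃ β : IrrCharacter C, GCor p (θ : M → ℂ) (β : C → ℂ) := by
  obtain ⟨β', hβ', -⟩ := H12.Glauberman.existsUnique_mult hS hM (fix_iff hC) hθ
  refine ⟨(H12.irrCongr (Subgroup.subgroupOfEquivOfLe hCM)).symm β', ?_⟩
  rw [GCor, ← mult_eq hCM]
  rw [lift, Equiv.apply_symm_apply]
  exact hβ'

theorem gl_unique {θ : IrrCharacter M} (hθ : H12.Glauberman.Inv φ (θ : M → ℂ))
    {β β' : IrrCharacter C} (h : GCor p (θ : M → ℂ) (β : C → ℂ))
    (h' : GCor p (θ : M → ℂ) (β' : C → ℂ)) : β = β' := by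
  rw [GCor, ← mult_eq hCM] at h h'
  exact (H12.irrCongr (Subgroup.subgroupOfEquivOfLe hCM)).injective
    ((H12.Glauberman.existsUnique_mult hS hM (fix_iff hC) hθ).unique h h')

theorem gl_injective {θ θ' : IrrCharacter M} (hθ : H12.Glauberman.Inv φ (θ : M → ℂ))
    (hθ' : H12.Glauberman.Inv φ (θ' : M → ℂ)) {β : IrrCharacter C}
    (h : GCor p (θ : M → ℂ) (β : C → ℂ)) (h' : GCor p (θ' : M → ℂ) (β : C → ℂ)) : θ = θ' := by
  rw [GCor, ← mult_eq hCM] at h h'
  exact H12.Glauberman.mult_injective hS hM (fix_iff hC) hθ hθ' h h'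

theorem gl_surjective (β : IrrCharacter C) :
    ∃ θ : IrrCharacter M, H12.Glauberman.Inv φ (θ : M → ℂ) ∧ GCor p (θ : M → ℂ) (β : C → ℂ) := by
  obtain ⟨θ, h1, h2⟩ := H12.Glauberman.mult_surjective hS hM (fix_iff hC) (lift hCM β)
  rw [mult_eq hCM] at h2
  exact ⟨θ, h1, h2⟩

theorem gl_dvd {θ : IrrCharacter M} (hθ : H12.Glauberman.Inv φ (θ : M → ℂ))
    {β β' : IrrCharacter C} (h : GCor p (θ : M → ℂ) (β : C → ℂ)) (hne : β' ≠ β) :
    p ∣ mlt (θ : M → ℂ) (β' : C → ℂ) := by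
  by_contra hc
  exact hne (gl_unique hS hM hCM hC hθ hc h)

/-- Transport of multiplicities through the correspondence. -/
theorem gl_chain {A : Subgroup G} (hAC : A ≤ C) {θ : IrrCharacter M}
    (hθ : H12.Glauberman.Inv φ (θ : M → ℂ)) {β : IrrCharacter C}
    (h : GCor p (θ : M → ℂ) (β : C → ℂ)) (α : IrrCharacter A) :
    (mlt (θ : M → ℂ) (α : A → ℂ) : ZMod p) =
      (mlt (θ : M → ℂ) (β : C → ℂ) : ZMod p) * (mlt (β : C → ℂ) (α : A → ℂ) : ZMod p) := by
  rw [mlt_trans hAC hCM, Nat.cast_sum, Finset.sum_eq_single β]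
  · push_cast; rfl
  · intro γ _ hne
    rw [Nat.cast_mul, (ZMod.natCast_eq_zero_iff _ _).2 (gl_dvd hS hM hCM hC hθ h hne), zero_mul]
  · simp

end Wrap

theorem GCor.cast_ne_zero {M C : Subgroup G} {θ : M → ℂ} {θ' : C → ℂ} (h : GCor p θ θ') :
    (mlt θ θ' : ZMod p) ≠ 0 := fun h0 => h ((ZMod.natCast_eq_zero_iff _ _).1 h0)

omit hp in
theorem gcor_tw {M C : Subgroup G} {x : G} (hxM : x ∈ Subgroup.normalizer (M : Set G))
    (hxC : x ∈ Subgroup.normalizer (C : Set G)) (hCM : C ≤ M) {θ : IrrCharacter M}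
    {β : IrrCharacter C} (h : GCor p (θ : M → ℂ) (β : C → ℂ)) :
    GCor p (tw hxM θ : M → ℂ) (tw hxC β : C → ℂ) := by
  rw [GCor, mlt_tw hxC hxM hCM]
  exact h

/-! ### Subgroups acting by conjugation -/

section Conj

variable {S M : Subgroup G} (hSM : S ≤ Subgroup.normalizer (M : Set G))

/-- The conjugation action. -/
noncomputable def cj : S →* MulAut M :=
  H12.Glauberman.conjHom M S fun s hs g hg => (Subgroup.mem_normalizer_iff.1 (hSM hs) g).1 hg

theorem cj_apply (s : S) (m : M) : ((cj hSM s m : M) : G) = s * m * (s : G)⁻¹ := rfl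

theorem inv_cj (θ : IrrCharacter M) :
    H12.Glauberman.Inv (cj hSM) (θ : M → ℂ) ↔ S ≤ st (θ : M → ℂ) := by
  constructor
  · intro h s hs
    refine ⟨hSM hs, fun a ha => ?_⟩
    rw [cf_apply _ ((Subgroup.mem_normalizer_iff.1 (hSM hs) a).1 ha), cf_apply _ ha]
    exact h ⟨s, hs⟩ ⟨a, ha⟩
  · intro h s m
    have := (h s.2).2 m m.2
    rw [cf_coe, ← cj_apply hSM s m, cf_coe] at this
    exact this

theorem fix_cj (m : M) : (m : G) ∈ M ⊓ Subgroup.centralizer (S : Set G) ↔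
    ∀ s, cj hSM s m = m := by
  constructor
  · rintro ⟨-, h⟩ s
    refine Subtype.ext ?_
    rw [cj_apply, Subgroup.mem_centralizer_iff.1 h s s.2, mul_inv_cancel_right]
  · intro h
    refine ⟨m.2, Subgroup.mem_centralizer_iff.2 fun s hs => ?_⟩
    have := congrArg Subtype.val (h ⟨s, hs⟩)
    rw [cj_apply] at this
    exact mul_inv_eq_iff_eq_mul.1 this

theorem st_inv_tw {θ : IrrCharacter M} (hS : S ≤ st (θ : M → ℂ)) {x : G}
    (hxM : x ∈ Subgroup.normalizer (M : Set G)) (hxS : x ∈ Subgroup.normalizer (S : Set G)) :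
    S ≤ st (tw hxM θ : M → ℂ) := fun s hs => by
  refine ⟨st_le _ (hS hs), fun a ha => ?_⟩
  rw [tw_apply hxM θ ((Subgroup.mem_normalizer_iff.1 (st_le _ (hS hs)) a).1 ha), tw_apply hxM θ ha,
    show x * (s * a * s⁻¹) * x⁻¹ = (x * s * x⁻¹) * (x * a * x⁻¹) * (x * s * x⁻¹)⁻¹ by group]
  exact (hS ((Subgroup.mem_normalizer_iff.1 hxS s).1 hs)).2 _
    ((Subgroup.mem_normalizer_iff.1 hxM a).1 ha)

theorem mem_normalizer_inf_centralizer {x : G} (hxM : x ∈ Subgroup.normalizer (M : Set G))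
    (hxS : x ∈ Subgroup.normalizer (S : Set G)) :
    x ∈ Subgroup.normalizer ((M ⊓ Subgroup.centralizer (S : Set G) : Subgroup G) : Set G) := by
  refine Subgroup.mem_normalizer_fintype fun c hc => ⟨(Subgroup.mem_normalizer_iff.1 hxM c).1 hc.1,
    Subgroup.mem_centralizer_iff.2 fun s hs => ?_⟩
  have hs' : x⁻¹ * s * x ∈ S := (Subgroup.mem_normalizer_iff''.1 hxS s).1 hs
  have h := Subgroup.mem_centralizer_iff.1 hc.2 _ hs'
  calc s * (x * c * x⁻¹) = x * (x⁻¹ * s * x * c) * x⁻¹ := by group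
    _ = x * (c * (x⁻¹ * s * x)) * x⁻¹ := by rw [h]
    _ = x * c * x⁻¹ * s := by group

variable {C : Subgroup G} (hC : C = M ⊓ Subgroup.centralizer (S : Set G))
include hC hSM

theorem sg_C_le : C ≤ M := hC ▸ inf_le_left

variable (hS : IsPGroup p S) (hM : ¬ p ∣ Nat.card M)
include hS hM

theorem sg_exists {θ : IrrCharacter M} (hθ : S ≤ st (θ : M → ℂ)) :
    ∃ β : IrrCharacter C, GCor p (θ : M → ℂ) (β : C → ℂ) := by
  subst hC
  exact gl_exists hS hM inf_le_left (fix_cj hSM) ((inv_cj hSM θ).2 hθ)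

theorem sg_unique {θ : IrrCharacter M} (hθ : S ≤ st (θ : M → ℂ)) {β β' : IrrCharacter C}
    (h : GCor p (θ : M → ℂ) (β : C → ℂ)) (h' : GCor p (θ : M → ℂ) (β' : C → ℂ)) : β = β' := by
  subst hC
  exact gl_unique hS hM inf_le_left (fix_cj hSM) ((inv_cj hSM θ).2 hθ) h h'

theorem sg_injective {θ θ' : IrrCharacter M} (hθ : S ≤ st (θ : M → ℂ)) (hθ' : S ≤ st (θ' : M → ℂ))
    {β : IrrCharacter C} (h : GCor p (θ : M → ℂ) (β : C → ℂ))
    (h' : GCor p (θ' : M → ℂ) (β : C → ℂ)) : θ = θ' := by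
  subst hC
  exact gl_injective hS hM inf_le_left (fix_cj hSM) ((inv_cj hSM θ).2 hθ) ((inv_cj hSM θ').2 hθ')
    h h'

theorem sg_surjective (β : IrrCharacter C) :
    ∃ θ : IrrCharacter M, S ≤ st (θ : M → ℂ) ∧ GCor p (θ : M → ℂ) (β : C → ℂ) := by
  subst hC
  obtain ⟨θ, h1, h2⟩ := gl_surjective hS hM inf_le_left (fix_cj hSM) β
  exact ⟨θ, (inv_cj hSM θ).1 h1, h2⟩

/-- The correspondence commutes with operators. -/
theorem sg_st_iff {θ : IrrCharacter M} (hθ : S ≤ st (θ : M → ℂ)) {β : IrrCharacter C}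
    (h : GCor p (θ : M → ℂ) (β : C → ℂ)) {x : G} (hxM : x ∈ Subgroup.normalizer (M : Set G))
    (hxS : x ∈ Subgroup.normalizer (S : Set G)) : x ∈ st (θ : M → ℂ) ↔ x ∈ st (β : C → ℂ) := by
  have hxC : x ∈ Subgroup.normalizer (C : Set G) := hC ▸ mem_normalizer_inf_centralizer hxM hxS
  have h1 := gcor_tw hxM hxC (sg_C_le hSM hC) h
  rw [← tw_eq_iff hxM, ← tw_eq_iff hxC]
  constructor
  · intro e
    rw [e] at h1
    exact sg_unique hSM hC hS hM hθ h1 h
  · intro e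
    rw [e] at h1
    exact sg_injective hSM hC hS hM (st_inv_tw hθ hxM hxS) hθ h1 h

theorem sg_chain {A : Subgroup G} (hAC : A ≤ C) {θ : IrrCharacter M} (hθ : S ≤ st (θ : M → ℂ))
    {β : IrrCharacter C} (h : GCor p (θ : M → ℂ) (β : C → ℂ)) (α : IrrCharacter A) :
    (mlt (θ : M → ℂ) (α : A → ℂ) : ZMod p) =
      (mlt (θ : M → ℂ) (β : C → ℂ) : ZMod p) * (mlt (β : C → ℂ) (α : A → ℂ) : ZMod p) := by
  subst hC
  exact gl_chain hS hM inf_le_left (fix_cj hSM) hAC ((inv_cj hSM θ).2 hθ) h α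

end Conj

/-! ### Products `M E` -/

section Prod

variable {A D : Subgroup G}

omit hp in
/-- A character over `θ` without stabiliser among the linear characters of `D/A` is an extension. -/
theorem extends_of_free (h : A ≤ D) {θ : IrrCharacter A} (hst : D ≤ st (θ : A → ℂ))
    (hab : ∀ a ∈ D, ∀ b ∈ D, a * b * a⁻¹ * b⁻¹ ∈ A) {η : IrrCharacter D}
    (hη : mlt (η : D → ℂ) (θ : A → ℂ) ≠ 0)
    (hfree : ∀ f : D →* ℂˣ, (∀ d : D, (d : G) ∈ A → f d = 1) → lm f η = η → f = 1) :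
    Extends (η : D → ℂ) (θ : A → ℂ) := by
  classical
  haveI := normal_of_le (hst.trans (st_le _))
  have hcomm : ∀ a b : D ⧸ A.subgroupOf D, a * b = b * a := fun a b => by
    obtain ⟨a, rfl⟩ := QuotientGroup.mk_surjective a
    obtain ⟨b, rfl⟩ := QuotientGroup.mk_surjective b
    rw [← QuotientGroup.mk_mul, ← QuotientGroup.mk_mul, QuotientGroup.eq]
    show ((a * b)⁻¹ * (b * a) : D).1 ∈ A
    have := hab _ (inv_mem b.2) _ (inv_mem a.2)
    simpa [mul_assoc] using this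
  have hlin : ∀ β : IrrCharacter (D ⧸ A.subgroupOf D), ∃ f : D →* ℂˣ,
      (∀ d : D, (d : G) ∈ A → f d = 1) ∧
      ∀ d : D, (β : D ⧸ A.subgroupOf D → ℂ) d = f d := fun β => by
    obtain ⟨f, hf⟩ := H12.exists_monoidHom_of_apply_one_eq_one (H12.isCharacter_irr β)
      (H12.irr_apply_one_of_comm hcomm β)
    refine ⟨f.comp (QuotientGroup.mk' _), fun d hd => ?_, fun d => (congrFun hf _).symm⟩
    rw [MonoidHom.comp_apply, QuotientGroup.mk'_apply,
      (QuotientGroup.eq_one_iff (N := A.subgroupOf D) d).2 hd, map_one]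
  choose f hfA hf using hlin
  have hinj : Function.Injective fun β => lm (f β) η := by
    intro β γ he
    have e1 : lm ((f γ)⁻¹ * f β) η = η := by
      refine irr_ext fun g hg => ?_
      have e := congrArg (fun χ : IrrCharacter D => cf (χ : D → ℂ) g) he
      simp only [lm_apply _ _ hg] at e ⊢
      rw [MonoidHom.mul_apply, MonoidHom.inv_apply, Units.val_mul, mul_assoc, e, ← mul_assoc,
        Units.inv_mul, one_mul]
    have e2' := hfree _ (fun d hd => by simp [hfA β d hd, hfA γ d hd]) e1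
    have e2 : f β = f γ := MonoidHom.ext fun d => by
      have h := DFunLike.congr_fun e2' d
      rw [MonoidHom.mul_apply, MonoidHom.inv_apply, MonoidHom.one_apply, inv_mul_eq_one] at h
      exact h.symm
    refine Subtype.ext (funext fun q => ?_)
    obtain ⟨d, rfl⟩ := QuotientGroup.mk_surjective q
    rw [hf β d, hf γ d, e2]
  have hm : ∀ β, mlt (lm (f β) η : D → ℂ) (θ : A → ℂ) = mlt (η : D → ℂ) (θ : A → ℂ) := fun β => by
    rw [mlt, mlt, ip_congr (f := cf (lm (f β) η : D → ℂ)) (g := cf (η : D → ℂ))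
      (fun a ha => by rw [lm_apply _ _ (h ha), hfA β ⟨a, h ha⟩ ha]; simp) (fun _ _ => rfl)]
  have hle : ∑ β : IrrCharacter (D ⧸ A.subgroupOf D),
      mlt (η : D → ℂ) (θ : A → ℂ) * mlt (η : D → ℂ) (θ : A → ℂ) ≤ A.relIndex D := by
    rw [← sum_mlt_sq h hst]
    calc _ = ∑ χ ∈ Finset.univ.image fun β => lm (f β) η,
          mlt (χ : D → ℂ) (θ : A → ℂ) * mlt (χ : D → ℂ) (θ : A → ℂ) := by
            rw [Finset.sum_image fun x _ y _ e => hinj e]
            simp [hm]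
      _ ≤ _ := Finset.sum_le_sum_of_subset (Finset.subset_univ _)
  have hn : Fintype.card (IrrCharacter (D ⧸ A.subgroupOf D)) = A.relIndex D := by
    rw [Subgroup.relIndex, Subgroup.index_eq_card, ← H12.sum_degree_sq_nat]
    rw [Finset.sum_congr rfl fun β _ => ?_, Finset.sum_const, Finset.card_univ, smul_eq_mul,
      mul_one]
    have h1 := H12.irr_apply_one_of_comm hcomm β
    rw [H12.irr_apply_one] at h1
    rw [show H12.degree (β : D ⧸ A.subgroupOf D → ℂ) = 1 by exact_mod_cast h1, one_pow]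
  rw [Finset.sum_const, Finset.card_univ, hn, smul_eq_mul] at hle
  have hpos : 0 < A.relIndex D := Nat.pos_of_ne_zero Subgroup.index_ne_zero_of_finite
  have ha : mlt (η : D → ℂ) (θ : A → ℂ) = 1 := by
    have h0 := Nat.pos_of_ne_zero hη
    have : mlt (η : D → ℂ) (θ : A → ℂ) * mlt (η : D → ℂ) (θ : A → ℂ) ≤ 1 :=
      Nat.le_of_mul_le_mul_left (by simpa using hle) hpos
    nlinarith
  intro a haA
  rw [res_eq_mul h hst η hη haA, ha, Nat.cast_one, one_mul]

end Prod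

section Step

variable {S S0 M E C : Subgroup G}

/-- One step: the operators act on an irreducible section. -/
theorem ext_step (hS : IsPGroup p S) (hM : ¬ p ∣ Nat.card M) (hE : ¬ p ∣ Nat.card E)
    (hSM : S ≤ Subgroup.normalizer (M : Set G)) (hEM : E ≤ Subgroup.normalizer (M : Set G))
    (hES : E ≤ Subgroup.normalizer (S : Set G))
    (hC : C = M ⊓ Subgroup.centralizer (S : Set G)) (hEMC : E ⊓ M = C)
    (hEab : ∀ a ∈ E, ∀ b ∈ E, a * b * a⁻¹ * b⁻¹ ∈ C)
    (hS0S : S0 ≤ S) (hES0 : E ≤ Subgroup.normalizer (S0 : Set G))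
    (hS0n : S ≤ Subgroup.normalizer (S0 : Set G))
    (hcomm : ∀ a ∈ S, ∀ b ∈ S, a * b * a⁻¹ * b⁻¹ ∈ S0)
    (hS0M : ∀ t ∈ S0, ∀ m ∈ M, t * m = m * t)
    (hmax : ∀ T : Subgroup G, S0 ≤ T → T ≤ S → E ≤ Subgroup.normalizer (T : Set G) → T = S0 ∨ T = S)
    {θ : IrrCharacter M} (hθS : S ≤ st (θ : M → ℂ)) (hθE : E ≤ st (θ : M → ℂ))
    {θ' : IrrCharacter C} (hθ' : GCor p (θ : M → ℂ) (θ' : C → ℂ)) :
    ExtTo (θ : M → ℂ) (M ⊔ E) ↔ ExtTo (θ' : C → ℂ) E := by
  classical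
  have hCM : C ≤ M := hC ▸ inf_le_left
  have hCE : C ≤ E := hEMC ▸ inf_le_left
  have hCS : ∀ c ∈ C, ∀ s ∈ S, s * c = c * s := fun c hc s hs => by
    rw [hC] at hc
    exact Subgroup.mem_centralizer_iff.1 hc.2 s hs
  -- the operators acting trivially on the section
  let E0 : Subgroup G :=
    { carrier := {e | e ∈ E ∧ ∀ s ∈ S, e * s * e⁻¹ * s⁻¹ ∈ S0}
      one_mem' := ⟨E.one_mem, fun s hs => by simp⟩
      mul_mem' := by
        rintro e e' ⟨he, h1⟩ ⟨he', h2⟩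
        refine ⟨mul_mem he he', fun s hs => ?_⟩
        rw [show e * e' * s * (e * e')⁻¹ * s⁻¹ =
          e * (e' * s * e'⁻¹ * s⁻¹) * e⁻¹ * (e * s * e⁻¹ * s⁻¹) by group]
        exact mul_mem ((Subgroup.mem_normalizer_iff.1 (hES0 he) _).1 (h2 s hs)) (h1 s hs)
      inv_mem' := by
        rintro e ⟨he, h1⟩
        refine ⟨inv_mem he, fun s hs => ?_⟩
        rw [show e⁻¹ * s * e⁻¹⁻¹ * s⁻¹ = e⁻¹ * (e * s * e⁻¹ * s⁻¹)⁻¹ * e⁻¹⁻¹ by group]
        exact (Subgroup.mem_normalizer_iff.1 (hES0 (inv_mem he)) _).1 (inv_mem (h1 s hs)) }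
  have hE0E : E0 ≤ E := fun e h => h.1
  have hCE0 : C ≤ E0 := fun c hc => ⟨hCE hc, fun s hs => by
    rw [show c * s * c⁻¹ * s⁻¹ = 1 by rw [← hCS c hc s hs]; group]
    exact one_mem _⟩
  have hgen : ∃ x ∈ E, E ≤ E0 ⊔ Subgroup.zpowers x := by
    rcases eq_or_ne S0 S with he | hne
    · refine ⟨1, E.one_mem, fun e heE => Subgroup.mem_sup_left ⟨heE, fun s hs => ?_⟩⟩
      rw [he]
      exact mul_mem ((Subgroup.mem_normalizer_iff.1 (hES heE) s).1 hs) (inv_mem hs)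
    haveI hn : (S0.subgroupOf S).Normal := normal_of_le hS0n
    letI : CommGroup (S ⧸ S0.subgroupOf S) :=
      { (inferInstance : Group (S ⧸ S0.subgroupOf S)) with
        mul_comm := fun a b => by
          obtain ⟨a, rfl⟩ := QuotientGroup.mk_surjective a
          obtain ⟨b, rfl⟩ := QuotientGroup.mk_surjective b
          rw [← QuotientGroup.mk_mul, ← QuotientGroup.mk_mul, QuotientGroup.eq,
            Subgroup.mem_subgroupOf]
          have := hcomm _ (inv_mem b.2) _ (inv_mem a.2)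
          simpa [mul_assoc] using this }
    haveI : Nontrivial (S ⧸ S0.subgroupOf S) := by
      rw [QuotientGroup.nontrivial_iff]
      exact fun h => hne (le_antisymm hS0S (Subgroup.subgroupOf_eq_top.1 h))
    let cE := cj hES
    have hmapS : ∀ e : E, (S0.subgroupOf S).map (cE e).toMonoidHom = S0.subgroupOf S := fun e => by
      ext y
      constructor
      · rintro ⟨z, hz, rfl⟩
        exact (Subgroup.mem_normalizer_iff.1 (hES0 e.2) _).1 hz
      · intro hy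
        refine ⟨(cE e).symm y, ?_, (cE e).apply_symm_apply y⟩
        show (((cE e).symm y : S) : G) ∈ S0
        refine (Subgroup.mem_normalizer_iff.1 (hES0 e.2) _).2 ?_
        have h0 := congrArg Subtype.val ((cE e).apply_symm_apply y)
        rw [cj_apply] at h0
        rw [h0]
        exact hy
    let σ : E →* MulAut (S ⧸ S0.subgroupOf S) :=
      MonoidHom.mk' (fun e => QuotientGroup.congr _ _ (cE e) (hmapS e)) fun a b =>
        MulEquiv.ext fun x => by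
          obtain ⟨y, rfl⟩ := QuotientGroup.mk_surjective x
          rw [MulAut.mul_apply]
          show ((cE (a * b) y : S) : S ⧸ S0.subgroupOf S) = ((cE a (cE b y) : S) : S ⧸ _)
          rw [map_mul]; rfl
    have hker : ∀ (e : E) (s : S), σ e (s : S ⧸ S0.subgroupOf S) = s ↔
        (e : G) * s * (e : G)⁻¹ * (s : G)⁻¹ ∈ S0 := fun e s => by
      show ((cE e s : S) : S ⧸ S0.subgroupOf S) = _ ↔ _
      rw [QuotientGroup.eq_iff_div_mem, div_eq_mul_inv, Subgroup.mem_subgroupOf]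
      rfl
    have hEc : ∀ a b : E, (a : G) * b ∈ E := fun a b => mul_mem a.2 b.2
    have hcomm' : ∀ a b : σ.range, a * b = b * a := by
      rintro ⟨_, a, rfl⟩ ⟨_, b, rfl⟩
      refine Subtype.ext (MulEquiv.ext fun x => ?_)
      obtain ⟨s, rfl⟩ := QuotientGroup.mk_surjective x
      show (σ a * σ b) _ = (σ b * σ a) _
      rw [← map_mul, ← map_mul, show a * b = ⟨_, hCE (hEab a a.2 b b.2)⟩ * (b * a) from
        Subtype.ext (by push_cast; group), map_mul, MulAut.mul_apply]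
      obtain ⟨t, ht⟩ := QuotientGroup.mk_surjective (σ (b * a) (s : S ⧸ S0.subgroupOf S))
      rw [← ht, hker]
      exact (hCE0 (hEab a a.2 b b.2)).2 t t.2
    have hfpf : ∀ f : σ.range, f ≠ 1 → ∀ v : S ⧸ S0.subgroupOf S, f • v = v → v = 1 := by
      rintro ⟨_, a, rfl⟩ hf v hv
      obtain ⟨s, rfl⟩ := QuotientGroup.mk_surjective v
      let T : Subgroup G :=
        { carrier := {t | ∃ ht : t ∈ S, σ a ((⟨t, ht⟩ : S) : S ⧸ S0.subgroupOf S) =
              ((⟨t, ht⟩ : S) : S ⧸ S0.subgroupOf S)}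
          one_mem' := ⟨S.one_mem, by
            rw [show ((⟨1, S.one_mem⟩ : S)) = 1 from rfl, QuotientGroup.mk_one, map_one]⟩
          mul_mem' := by
            rintro t t' ⟨h1, h1'⟩ ⟨h2, h2'⟩
            refine ⟨mul_mem h1 h2, ?_⟩
            rw [show (⟨t * t', mul_mem h1 h2⟩ : S) = ⟨t, h1⟩ * ⟨t', h2⟩ from rfl,
              QuotientGroup.mk_mul, map_mul, h1', h2']
          inv_mem' := by
            rintro t ⟨h1, h1'⟩
            refine ⟨inv_mem h1, ?_⟩
            rw [show (⟨t⁻¹, inv_mem h1⟩ : S) = ⟨t, h1⟩⁻¹ from rfl, QuotientGroup.mk_inv, map_inv,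
              h1'] }
      have hTS : T ≤ S := fun t h => h.elim fun ht _ => ht
      have hST : S0 ≤ T := fun t ht => ⟨hS0S ht, (hker a ⟨t, hS0S ht⟩).2
        (mul_mem ((Subgroup.mem_normalizer_iff.1 (hES0 a.2) t).1 ht) (inv_mem ht))⟩
      have hTn : E ≤ Subgroup.normalizer (T : Set G) := fun b hb => by
        refine Subgroup.mem_normalizer_fintype fun t h => ?_
        obtain ⟨ht, ht'⟩ := h
        refine ⟨(Subgroup.mem_normalizer_iff.1 (hES hb) t).1 ht, ?_⟩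
        have e : ((⟨b * t * b⁻¹, (Subgroup.mem_normalizer_iff.1 (hES hb) t).1 ht⟩ : S) :
            S ⧸ S0.subgroupOf S) = σ ⟨b, hb⟩ ((⟨t, ht⟩ : S) : S ⧸ S0.subgroupOf S) := rfl
        rw [e, ← MulAut.mul_apply]
        have := congrArg (fun f : σ.range => (f : MulAut (S ⧸ S0.subgroupOf S)))
          (hcomm' ⟨_, a, rfl⟩ ⟨_, ⟨b, hb⟩, rfl⟩)
        rw [show σ a * σ ⟨b, hb⟩ = σ ⟨b, hb⟩ * σ a from this, MulAut.mul_apply, ht']
      rcases hmax T hST hTS hTn with hT | hT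
      · have : (s : G) ∈ T := ⟨s.2, hv⟩
        rw [hT] at this
        exact (QuotientGroup.eq_one_iff _).2 this
      · exfalso
        apply hf
        refine Subtype.ext (MulEquiv.ext fun x => ?_)
        obtain ⟨t, rfl⟩ := QuotientGroup.mk_surjective x
        have : (t : G) ∈ T := hT.symm ▸ t.2
        obtain ⟨_, h⟩ := this
        exact h
    obtain ⟨⟨_, x, rfl⟩, hx⟩ := (H2.isCyclic_of_fpf_comm (M := S ⧸ S0.subgroupOf S) hfpf
      hcomm').exists_generator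
    refine ⟨x, x.2, fun e he => ?_⟩
    obtain ⟨k, hk⟩ := hx ⟨_, ⟨e, he⟩, rfl⟩
    have hk' : σ x ^ k = σ ⟨e, he⟩ := by simpa using congrArg Subtype.val hk
    have he0 : e * ((x : G) ^ k)⁻¹ ∈ E0 := by
      refine ⟨mul_mem he (inv_mem (zpow_mem x.2 k)), fun s hs => ?_⟩
      have h1 : σ (⟨e, he⟩ * (x ^ k)⁻¹) = 1 := by
        rw [map_mul, map_inv, map_zpow, hk', mul_inv_cancel]
      have h2 := (hker (⟨e, he⟩ * (x ^ k)⁻¹) ⟨s, hs⟩).1 (by rw [h1]; rfl)
      simpa using h2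
    have e1 : e = e * ((x : G) ^ k)⁻¹ * (x : G) ^ k := by group
    rw [e1]
    exact Subgroup.mul_mem_sup he0 (zpow_mem (Subgroup.mem_zpowers (x : G)) k)
  obtain ⟨x, hxE, hEgen⟩ := hgen
  -- the action on `M E0`
  have hE0M : E0 ≤ Subgroup.normalizer (M : Set G) := hE0E.trans hEM
  have hdec : ∀ y ∈ M ⊔ E0, ∃ m ∈ M, ∃ e ∈ E0, m * e = y := fun y hy => by
    have hy' : y ∈ ((M ⊔ E0 : Subgroup G) : Set G) := hy
    rw [Subgroup.coe_mul_of_right_le_normalizer_left _ _ hE0M] at hy'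
    obtain ⟨m, hm, e, he, h⟩ := hy'
    exact ⟨m, hm, e, he, h⟩
  choose mOf hmOf eOf heOf hdecEq using hdec
  have hMY : M ≤ M ⊔ E0 := le_sup_left
  have hEY : E0 ≤ M ⊔ E0 := le_sup_right
  have hdiff : ∀ {m m' e e' : G}, m ∈ M → m' ∈ M → e ∈ E0 → e' ∈ E0 → m * e = m' * e' →
      m'⁻¹ * m ∈ C ∧ e' * e⁻¹ = m'⁻¹ * m := by
    intro m m' e e' hm hm' he he' h
    have h' : e' * e⁻¹ = m'⁻¹ * m := by
      rw [eq_inv_mul_iff_mul_eq, ← mul_assoc, ← h, mul_inv_cancel_right]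
    refine ⟨hEMC ▸ Subgroup.mem_inf.2 ⟨h' ▸ hE0E (E0.mul_mem he' (E0.inv_mem he)), M.mul_mem (M.inv_mem hm') hm⟩, h'⟩
  have hcj : ∀ s ∈ S, ∀ m ∈ M, s * m * s⁻¹ ∈ M := fun s hs m hm =>
    (Subgroup.mem_normalizer_iff.1 (hSM hs) m).1 hm
  let act : S → ↥(M ⊔ E0) → ↥(M ⊔ E0) := fun s y =>
    ⟨(s : G) * mOf y y.2 * (s : G)⁻¹ * eOf y y.2,
      mul_mem (hMY (hcj s s.2 _ (hmOf y y.2))) (hEY (heOf y y.2))⟩
  have hact : ∀ (s : S) (y : ↥(M ⊔ E0)) {m e : G}, m ∈ M → e ∈ E0 → m * e = y →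
      (act s y : G) = s * m * (s : G)⁻¹ * e := by
    intro s y m e hm he h
    obtain ⟨hc, h'⟩ := hdiff (hmOf y y.2) hm (heOf y y.2) he ((hdecEq y y.2).trans h.symm)
    show (s : G) * mOf y y.2 * (s : G)⁻¹ * eOf y y.2 = _
    have e2 : e = (m⁻¹ * mOf y y.2) * eOf y y.2 := by rw [← h', inv_mul_cancel_right]
    have hsc := hCS _ hc s s.2
    rw [e2]
    calc (s : G) * mOf y y.2 * (s : G)⁻¹ * eOf y y.2
        = (s : G) * m * ((m⁻¹ * mOf y y.2) * (s : G)⁻¹) * eOf y y.2 := by group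
      _ = (s : G) * m * ((s : G)⁻¹ * (m⁻¹ * mOf y y.2)) * eOf y y.2 := by
          congr 2
          rw [eq_inv_mul_iff_mul_eq, ← mul_assoc, hsc, mul_inv_cancel_right]
      _ = _ := by group
  have hactmul : ∀ s y y', act s (y * y') = act s y * act s y' := by
    intro s y y'
    apply Subtype.ext
    have hm' : eOf y y.2 * mOf y' y'.2 * (eOf y y.2)⁻¹ ∈ M :=
      (Subgroup.mem_normalizer_iff.1 (hE0M (heOf y y.2)) _).1 (hmOf y' y'.2)
    rw [hact s (y * y') (m := mOf y y.2 * (eOf y y.2 * mOf y' y'.2 * (eOf y y.2)⁻¹))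
      (e := eOf y y.2 * eOf y' y'.2) (mul_mem (hmOf y y.2) hm')
      (mul_mem (heOf y y.2) (heOf y' y'.2)) (by
        push_cast
        conv_rhs => rw [← hdecEq y y.2, ← hdecEq y' y'.2]
        group)]
    show _ = (s : G) * mOf y y.2 * (s : G)⁻¹ * eOf y y.2 *
      ((s : G) * mOf y' y'.2 * (s : G)⁻¹ * eOf y' y'.2)
    have ht := (heOf y y.2).2 s s.2
    have hmem : (s : G) * (eOf y y.2 * mOf y' y'.2 * (eOf y y.2)⁻¹) * (s : G)⁻¹ ∈ M :=
      hcj s s.2 _ hm'
    have hfix := hS0M _ ht _ hmem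
    have key : eOf y y.2 * ((s : G) * mOf y' y'.2 * (s : G)⁻¹) * (eOf y y.2)⁻¹ =
        (s : G) * (eOf y y.2 * mOf y' y'.2 * (eOf y y.2)⁻¹) * (s : G)⁻¹ := by
      calc eOf y y.2 * ((s : G) * mOf y' y'.2 * (s : G)⁻¹) * (eOf y y.2)⁻¹
          = (eOf y y.2 * s * (eOf y y.2)⁻¹ * (s : G)⁻¹) *
              ((s : G) * (eOf y y.2 * mOf y' y'.2 * (eOf y y.2)⁻¹) * (s : G)⁻¹) *
              (eOf y y.2 * s * (eOf y y.2)⁻¹ * (s : G)⁻¹)⁻¹ := by group
        _ = _ := by rw [hfix, mul_inv_cancel_right]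
    calc (s : G) * (mOf y y.2 * (eOf y y.2 * mOf y' y'.2 * (eOf y y.2)⁻¹)) * (s : G)⁻¹ *
          (eOf y y.2 * eOf y' y'.2)
        = (s : G) * mOf y y.2 * (s : G)⁻¹ *
            ((s : G) * (eOf y y.2 * mOf y' y'.2 * (eOf y y.2)⁻¹) * (s : G)⁻¹) *
            (eOf y y.2 * eOf y' y'.2) := by group
      _ = _ := by rw [← key]; group
  have hactone : ∀ y, act 1 y = y := fun y => Subtype.ext (by
    rw [hact 1 y (hmOf y y.2) (heOf y y.2) (hdecEq y y.2)]
    simp [hdecEq y y.2])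
  have hactcomp : ∀ s t y, act (s * t) y = act s (act t y) := fun s t y => Subtype.ext (by
    rw [hact (s * t) y (hmOf y y.2) (heOf y y.2) (hdecEq y y.2),
      hact s (act t y) (hcj t t.2 _ (hmOf y y.2)) (heOf y y.2) rfl]
    push_cast
    group)
  let φ : S →* MulAut ↥(M ⊔ E0) := MonoidHom.mk'
    (fun s =>
      { toFun := act s
        invFun := act s⁻¹
        left_inv := fun y => by rw [← hactcomp, inv_mul_cancel, hactone]
        right_inv := fun y => by rw [← hactcomp, mul_inv_cancel, hactone]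
        map_mul' := hactmul s })
    (fun s t => MulEquiv.ext (hactcomp s t))
  have hfixY : ∀ y : ↥(M ⊔ E0), (y : G) ∈ E0 ↔ ∀ s, φ s y = y := by
    intro y
    constructor
    · intro hy s
      refine Subtype.ext ?_
      rw [show φ s y = act s y from rfl, hact s y M.one_mem hy (one_mul _)]
      simp
    · intro h
      rw [← hdecEq y y.2]
      refine mul_mem (hCE0 ?_) (heOf y y.2)
      rw [hC]
      refine ⟨hmOf y y.2, Subgroup.mem_centralizer_iff.2 fun s hs => ?_⟩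
      have := congrArg Subtype.val (h ⟨s, hs⟩)
      rw [show φ ⟨s, hs⟩ y = act ⟨s, hs⟩ y from rfl,
        hact ⟨s, hs⟩ y (hmOf y y.2) (heOf y y.2) (hdecEq y y.2)] at this
      conv_rhs at this => rw [← hdecEq y y.2]
      exact mul_inv_eq_iff_eq_mul.1 (mul_right_cancel this)
  have hY : ¬ p ∣ Nat.card ↥(M ⊔ E0) := by
    intro hdvd
    have hcov : ∀ t ∈ M ⊔ E0, ∃ h ∈ M, ∃ k ∈ E0, h * k = t := fun t ht =>
      ⟨_, hmOf t ht, _, heOf t ht, hdecEq t ht⟩
    have h1 : p ∣ Nat.card M * Nat.card E0 := by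
      rw [← card_mul_fibre hMY hEY hcov]
      exact hdvd.mul_left _
    rcases hp.out.dvd_mul.1 h1 with h | h
    · exact hM h
    · exact hE (h.trans (Subgroup.card_dvd_of_le hE0E))
  have hME : M ⊔ E0 ≤ M ⊔ E := sup_le_sup_left hE0E _
  have hYst : M ⊔ E0 ≤ st (θ : M → ℂ) := sup_le (le_st θ) (hE0E.trans hθE)
  have hEst' : E ≤ st (θ' : C → ℂ) := fun e he =>
    (sg_st_iff hSM hC hS hM hθS hθ' (hEM he) (hES he)).1 (hθE he)
  have hE0st : E0 ≤ st (θ' : C → ℂ) := hE0E.trans hEst'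
  have habY : ∀ a ∈ M ⊔ E0, ∀ b ∈ M ⊔ E0, a * b * a⁻¹ * b⁻¹ ∈ M := by
    intro a ha b hb
    have hMn : (M.subgroupOf (M ⊔ E0)).Normal := normal_of_le (hYst.trans (st_le _))
    rw [← hdecEq a ha, ← hdecEq b hb]
    have n1 := hE0M (heOf a ha)
    have n2 := hE0M (heOf b hb)
    have hm := hmOf a ha
    have hm' := hmOf b hb
    generalize mOf a ha = m at hm
    generalize mOf b hb = m' at hm'
    have he := heOf a ha
    have he' := heOf b hb
    generalize eOf a ha = e at n1 he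
    generalize eOf b hb = e' at n2 he'
    rw [show m * e * (m' * e') * (m * e)⁻¹ * (m' * e')⁻¹ =
      m * (e * m' * e⁻¹) * (e * e' * e⁻¹ * e'⁻¹) * (e' * m⁻¹ * e'⁻¹) * m'⁻¹ by group]
    exact mul_mem (mul_mem (mul_mem (mul_mem hm ((Subgroup.mem_normalizer_iff.1 n1 _).1 hm'))
      (hCM (hEab _ (hE0E he) _ (hE0E he')))) ((Subgroup.mem_normalizer_iff.1 n2 _).1 (inv_mem hm)))
      (inv_mem hm')
  have habE : ∀ a ∈ E0, ∀ b ∈ E0, a * b * a⁻¹ * b⁻¹ ∈ C := fun a ha b hb =>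
    hEab a (hE0E ha) b (hE0E hb)
  -- linear characters
  let res : (↥(M ⊔ E0) →* ℂˣ) → (E0 →* ℂˣ) := fun f => f.comp (Subgroup.inclusion hEY)
  have hext : ∀ g : E0 →* ℂˣ, (∀ e : E0, (e : G) ∈ C → g e = 1) →
      ∃ f : ↥(M ⊔ E0) →* ℂˣ, (∀ y : ↥(M ⊔ E0), (y : G) ∈ M → f y = 1) ∧ res f = g := by
    intro g hg
    have hval : ∀ (y : ↥(M ⊔ E0)) {m e : G} (hm : m ∈ M) (he : e ∈ E0), m * e = y →
        g ⟨eOf y y.2, heOf y y.2⟩ = g ⟨e, he⟩ := by
      intro y m e hm he h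
      obtain ⟨hc, h'⟩ := hdiff (hmOf y y.2) hm (heOf y y.2) he ((hdecEq y y.2).trans h.symm)
      have : g (⟨e, he⟩ * ⟨eOf y y.2, heOf y y.2⟩⁻¹) = 1 := hg _ (by
        push_cast
        rw [h']; exact hc)
      rw [map_mul, map_inv, mul_inv_eq_one] at this
      exact this.symm
    refine ⟨MonoidHom.mk' (fun y => g ⟨eOf y y.2, heOf y y.2⟩) fun y y' => ?_, fun y hy => ?_, ?_⟩
    · rw [hval (y * y') (m := mOf y y.2 * (eOf y y.2 * mOf y' y'.2 * (eOf y y.2)⁻¹))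
        (e := eOf y y.2 * eOf y' y'.2)
        (mul_mem (hmOf y y.2) ((Subgroup.mem_normalizer_iff.1 (hE0M (heOf y y.2)) _).1 (hmOf y' y'.2)))
        (mul_mem (heOf y y.2) (heOf y' y'.2)) (by
          push_cast
          conv_rhs => rw [← hdecEq y y.2, ← hdecEq y' y'.2]
          group), ← map_mul]
      rfl
    · rw [MonoidHom.mk'_apply, hval y hy E0.one_mem (mul_one _)]
      exact hg _ C.one_mem
    · ext e
      exact congrArg Units.val (hval ⟨e, hEY e.2⟩ M.one_mem e.2 (one_mul _))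
  have hGlm : ∀ (f : ↥(M ⊔ E0) →* ℂˣ) (η : IrrCharacter ↥(M ⊔ E0)) (η' : IrrCharacter E0),
      GCor p (η : ↥(M ⊔ E0) → ℂ) (η' : E0 → ℂ) →
      GCor p (lm f η : ↥(M ⊔ E0) → ℂ) (lm (res f) η' : E0 → ℂ) := by
    intro f η η' h
    have e : mlt (lm f η : ↥(M ⊔ E0) → ℂ) (lm (res f) η' : E0 → ℂ) =
        mlt (η : ↥(M ⊔ E0) → ℂ) (η' : E0 → ℂ) := by
      have : ip E0 (cf (lm f η : ↥(M ⊔ E0) → ℂ)) (cf (lm (res f) η' : E0 → ℂ)) =
          ip E0 (cf (η : ↥(M ⊔ E0) → ℂ)) (cf (η' : E0 → ℂ)) := by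
        rw [ip, ip, H12.classInner_def, H12.classInner_def]
        congr 1
        refine Finset.sum_congr rfl fun d _ => ?_
        rw [lm_apply f η (hEY d.2), lm_apply (res f) η' d.2, map_mul,
          show (res f ⟨(d : G), d.2⟩ : ℂˣ) = f ⟨d, hEY d.2⟩ from rfl]
        have hu : (f ⟨(d : G), hEY d.2⟩ : ℂ) * conj ((f ⟨(d : G), hEY d.2⟩ : ℂ)) = 1 := by
          rw [H12.conj_eq_inv_of_pow_eq_one (n := Nat.card ↥(M ⊔ E0)) Nat.card_pos.ne'
            (by rw [← Units.val_pow_eq_pow_val, ← map_pow, pow_card_eq_one', map_one, Units.val_one]),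
            mul_inv_cancel₀ (Units.ne_zero _)]
        calc _ = ((f ⟨(d : G), hEY d.2⟩ : ℂ) * conj ((f ⟨(d : G), hEY d.2⟩ : ℂ))) *
              (cf (η : ↥(M ⊔ E0) → ℂ) d * conj (cf (η' : E0 → ℂ) d)) := by ring
          _ = _ := by rw [hu, one_mul]
      rw [mlt, this, ← mlt]
    rw [GCor, e]
    exact h
  -- a correspondent lies over the correspondent
  have hover : ∀ (η : IrrCharacter ↥(M ⊔ E0)) (η' : IrrCharacter E0),
      H12.Glauberman.Inv φ (η : ↥(M ⊔ E0) → ℂ) → GCor p (η : ↥(M ⊔ E0) → ℂ) (η' : E0 → ℂ) →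
      ¬ p ∣ mlt (η : ↥(M ⊔ E0) → ℂ) (θ : M → ℂ) → mlt (η' : E0 → ℂ) (θ' : C → ℂ) ≠ 0 := by
    intro η η' hη hcor ha hz
    have h1 := gl_chain hS hY hEY hfixY hCE0 hη hcor θ'
    rw [hz, Nat.cast_zero, mul_zero] at h1
    have hne : mlt (η : ↥(M ⊔ E0) → ℂ) (θ : M → ℂ) ≠ 0 := fun h => ha (by rw [h]; exact dvd_zero p)
    have h2 : mlt (η : ↥(M ⊔ E0) → ℂ) (θ' : C → ℂ) =
        mlt (η : ↥(M ⊔ E0) → ℂ) (θ : M → ℂ) * mlt (θ : M → ℂ) (θ' : C → ℂ) := by
      rw [mlt_trans hCM hMY, Finset.sum_eq_single θ]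
      · intro ψ _ hψ
        rw [mlt_eq_zero_of_inv hMY hYst η hne hψ, zero_mul]
      · simp
    rw [h2, ZMod.natCast_eq_zero_iff, hp.out.dvd_mul] at h1
    exact h1.elim ha hθ'
  have hxY : x ∈ Subgroup.normalizer ((M ⊔ E0 : Subgroup G) : Set G) := by
    refine Subgroup.mem_normalizer_fintype fun y hy => ?_
    rw [← hdecEq y hy, show x * (mOf y hy * eOf y hy) * x⁻¹ = (x * mOf y hy * x⁻¹) *
      (x * eOf y hy * x⁻¹ * (eOf y hy)⁻¹) * eOf y hy by group]
    exact mul_mem (mul_mem (hMY ((Subgroup.mem_normalizer_iff.1 (hEM hxE) _).1 (hmOf y hy)))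
      (hMY (hCM (hEab x hxE _ (hE0E (heOf y hy)))))) (hEY (heOf y hy))
  have hxE0 : x ∈ Subgroup.normalizer (E0 : Set G) := by
    refine Subgroup.mem_normalizer_fintype fun e he => ?_
    rw [show x * e * x⁻¹ = (x * e * x⁻¹ * e⁻¹) * e by group]
    exact mul_mem (hCE0 (hEab x hxE e (hE0E he))) he
  have hinvtw : ∀ η : IrrCharacter ↥(M ⊔ E0), H12.Glauberman.Inv φ (η : ↥(M ⊔ E0) → ℂ) →
      H12.Glauberman.Inv φ (tw hxY η : ↥(M ⊔ E0) → ℂ) := by
    intro η hη s y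
    have hxs : x * s * x⁻¹ ∈ S := (Subgroup.mem_normalizer_iff.1 (hES hxE) _).1 s.2
    rw [← cf_coe (tw hxY η : ↥(M ⊔ E0) → ℂ) (φ s y), ← cf_coe (tw hxY η : ↥(M ⊔ E0) → ℂ) y,
      tw_apply hxY η (φ s y).2, tw_apply hxY η y.2]
    have hxy : x * (y : G) * x⁻¹ ∈ M ⊔ E0 := (Subgroup.mem_normalizer_iff.1 hxY _).1 y.2
    have e : x * (φ s y : G) * x⁻¹ = (φ ⟨_, hxs⟩ ⟨_, hxy⟩ : G) := by
      rw [show φ s y = act s y from rfl, show φ ⟨_, hxs⟩ ⟨_, hxy⟩ = act ⟨_, hxs⟩ ⟨_, hxy⟩ from rfl,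
        hact s y (hmOf y y.2) (heOf y y.2) (hdecEq y y.2),
        hact ⟨_, hxs⟩ ⟨_, hxy⟩ (m := x * mOf y y.2 * x⁻¹ * (x * eOf y y.2 * x⁻¹ * (eOf y y.2)⁻¹))
          (e := eOf y y.2)
          (mul_mem ((Subgroup.mem_normalizer_iff.1 (hEM hxE) _).1 (hmOf y y.2))
            (hCM (hEab x hxE _ (hE0E (heOf y y.2))))) (heOf y y.2)
          (by show _ = x * (y : G) * x⁻¹
              rw [show x * (y : G) * x⁻¹ = x * (mOf y y.2 * eOf y y.2) * x⁻¹ by
                rw [hdecEq y y.2]]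
              group)]
      have hc := hCS _ (hEab x hxE _ (hE0E (heOf y y.2))) _ hxs
      generalize mOf y y.2 = m
      generalize eOf y y.2 = e at hc
      calc x * ((s : G) * m * (s : G)⁻¹ * e) * x⁻¹
          = x * s * x⁻¹ * (x * m * x⁻¹) * (x * s * x⁻¹)⁻¹ * (x * e * x⁻¹ * e⁻¹) * e := by group
        _ = x * s * x⁻¹ * (x * m * x⁻¹) * ((x * s * x⁻¹)⁻¹ * (x * e * x⁻¹ * e⁻¹)) * e := by group
        _ = x * s * x⁻¹ * (x * m * x⁻¹) * ((x * e * x⁻¹ * e⁻¹) * (x * s * x⁻¹)⁻¹) * e := by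
            congr 2
            rw [inv_mul_eq_iff_eq_mul, ← mul_assoc, hc, mul_inv_cancel_right]
        _ = _ := by group
    rw [e, cf_coe, cf_apply _ hxy]
    exact hη _ _
  constructor
  · rintro ⟨χ, hχ⟩
    have hEst : M ⊔ E ≤ st (θ : M → ℂ) := sup_le (le_st θ) hθE
    obtain ⟨η, hη, hηχ⟩ := res_of_extends hMY hME hEst hχ
    have hηinv : H12.Glauberman.Inv φ (η : ↥(M ⊔ E0) → ℂ) := by
      -- the operators move extensions by linear characters, hence fix them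
      have hmove : ∀ s : S, ∃ f : ↥(M ⊔ E0) →* ℂˣ, (∀ d : ↥(M ⊔ E0), (d : G) ∈ M → f d = 1) ∧
          H12.irrCongr (φ s) η = lm f η := by
        intro s
        refine gallagher_abelian hMY (hYst.trans (st_le _)) habY hη _ ?_
        have : Extends (H12.irrCongr (φ s) η : ↥(M ⊔ E0) → ℂ) (θ : M → ℂ) := fun a ha => by
          rw [cf_apply _ (hMY ha), H12.irrCongr_apply, ← cf_coe (η : ↥(M ⊔ E0) → ℂ),
            show φ s ⟨a, hMY ha⟩ = act s ⟨a, hMY ha⟩ from rfl,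
            hact s ⟨a, hMY ha⟩ ha E0.one_mem (mul_one _), mul_one, hη _ (hcj s s.2 a ha),
            (hθS s.2).2 a ha]
        rw [mlt_of_extends hMY this]
        exact one_ne_zero
      choose f hfM hf using hmove
      have hfφ : ∀ s t y, f t (φ s y) = f t y := by
        intro s t y
        have hm := hmOf y y.2
        have e1 : φ s y = ⟨(s : G) * mOf y y.2 * (s : G)⁻¹, hMY (hcj s s.2 _ hm)⟩ *
            ⟨eOf y y.2, hEY (heOf y y.2)⟩ := rfl
        have e2 : y = ⟨mOf y y.2, hMY hm⟩ * ⟨eOf y y.2, hEY (heOf y y.2)⟩ :=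
          Subtype.ext (hdecEq y y.2).symm
        conv_rhs => rw [e2]
        rw [e1, map_mul, map_mul, hfM t ⟨_, hMY (hcj s s.2 _ hm)⟩ (hcj s s.2 _ hm),
          hfM t ⟨_, hMY hm⟩ hm]
      have hmul : ∀ s t, f (s * t) = f s * f t := by
        intro s t
        have hd : lm ((f t)⁻¹ * (f s)⁻¹ * f (s * t)) η = η := by
          refine Subtype.ext (funext fun y => ?_)
          show (((f t)⁻¹ * (f s)⁻¹ * f (s * t)) y : ℂˣ) * (η : ↥(M ⊔ E0) → ℂ) y = _
          have h1 : (η : ↥(M ⊔ E0) → ℂ) (φ (s * t) y) = (f (s * t) y : ℂ) * (η : _ → ℂ) y :=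
            congrFun (congrArg Subtype.val (hf (s * t))) y
          have h2 : (η : ↥(M ⊔ E0) → ℂ) (φ t y) = (f t y : ℂ) * (η : _ → ℂ) y :=
            congrFun (congrArg Subtype.val (hf t)) y
          have h3 : (η : ↥(M ⊔ E0) → ℂ) (φ s (φ t y)) =
              (f s (φ t y) : ℂ) * (η : _ → ℂ) (φ t y) :=
            congrFun (congrArg Subtype.val (hf s)) (φ t y)
          rw [map_mul, MulAut.mul_apply, h3, hfφ, h2] at h1
          simp only [MonoidHom.mul_apply, MonoidHom.inv_apply, Units.val_mul]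
          rw [mul_assoc, ← h1, mul_assoc]
          simp
        have := lm_injective hMY (hYst.trans (st_le _)) hη
          (fun d hd => by simp [hfM _ d hd]) hd
        refine MonoidHom.ext fun y => ?_
        have h := DFunLike.congr_fun this y
        simp only [MonoidHom.mul_apply, MonoidHom.inv_apply, MonoidHom.one_apply] at h
        rw [← _root_.mul_inv_rev, inv_mul_eq_one] at h
        simpa [MonoidHom.mul_apply] using h.symm
      have hfone : ∀ s, f s = 1 := by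
        intro s
        obtain ⟨k, hk⟩ := hS s
        refine MonoidHom.ext fun y => ?_
        let F : S →* (↥(M ⊔ E0) →* ℂˣ) := MonoidHom.mk' f hmul
        have h1 : (f s y) ^ (p ^ k) = 1 := by
          rw [← MonoidHom.pow_apply, show f s = F s from rfl, ← map_pow, hk, map_one,
            MonoidHom.one_apply]
        have h2 : (f s y) ^ Nat.card ↥(M ⊔ E0) = 1 := by rw [← map_pow, pow_card_eq_one', map_one]
        have h3 := pow_gcd_eq_one.mpr ⟨h1, h2⟩
        rwa [((hp.out.coprime_iff_not_dvd.2 hY).pow_left k : Nat.Coprime _ _), pow_one] at h3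
      intro s y
      have := congrFun (congrArg Subtype.val (hf s)) y
      rw [hfone s] at this
      simpa [lm, H12.InvConst.mulHom_apply, H12.irrCongr_apply] using this
    obtain ⟨η', hη'⟩ := gl_exists hS hY hEY hfixY hηinv
    have hov := hover η η' hηinv hη' (by
      rw [mlt_of_extends hMY hη]; exact hp.out.not_dvd_one)
    have hη'ext : Extends (η' : E0 → ℂ) (θ' : C → ℂ) := by
      refine extends_of_free hCE0 hE0st habE hov fun g hg hfix => ?_
      obtain ⟨f, hf, rfl⟩ := hext g hg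
      have h1 := hGlm f η η' hη'
      rw [hfix] at h1
      have hinv' : H12.Glauberman.Inv φ (lm f η : ↥(M ⊔ E0) → ℂ) := fun s y => by
        show (f (φ s y) : ℂ) * _ = (f y : ℂ) * _
        rw [hηinv s y]
        congr 2
        have hm := hmOf y y.2
        have e1 : φ s y = ⟨(s : G) * mOf y y.2 * (s : G)⁻¹, hMY (hcj s s.2 _ hm)⟩ *
            ⟨eOf y y.2, hEY (heOf y y.2)⟩ := rfl
        have e2 : y = ⟨mOf y y.2, hMY hm⟩ * ⟨eOf y y.2, hEY (heOf y y.2)⟩ :=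
          Subtype.ext (hdecEq y y.2).symm
        conv_rhs => rw [e2]
        rw [e1, map_mul, map_mul, hf ⟨_, hMY (hcj s s.2 _ hm)⟩ (hcj s s.2 _ hm), hf ⟨_, hMY hm⟩ hm]
      have h2 := lm_injective hMY (hYst.trans (st_le _)) hη hf
        (gl_injective hS hY hEY hfixY hinv' hηinv h1 hη')
      subst h2
      rfl
    have hxη : tw hxY η = η := irr_ext fun y hy => by
      rw [tw_apply hxY η hy, ← hηχ _ ((Subgroup.mem_normalizer_iff.1 hxY y).1 hy), ← hηχ y hy,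
        cf_conj χ (Subgroup.mem_sup_right hxE) (hME hy)]
    have hxη' : tw hxE0 η' = η' := by
      have h1 := gcor_tw hxY hxE0 hEY hη'
      rw [hxη] at h1
      exact gl_unique hS hY hEY hfixY hηinv h1 hη'
    obtain ⟨Ψ, hΨ⟩ := exists_extend_cyclic (θ := η') hE0E (fun e he => by
      have : E0 ⊔ Subgroup.zpowers x ≤ st (η' : E0 → ℂ) :=
        sup_le (le_st η') (Subgroup.zpowers_le.2 ((tw_eq_iff hxE0 η').1 hxη'))
      exact this (hEgen he)) hEgen hxE
    exact ⟨Ψ, fun c hc => by rw [hΨ c (hCE0 hc), hη'ext c hc]⟩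
  · rintro ⟨Ψ, hΨ⟩
    obtain ⟨η', hη', hη'Ψ⟩ := res_of_extends hCE0 hE0E hEst' hΨ
    -- an invariant character over `θ`
    have hex : ∃ η : IrrCharacter ↥(M ⊔ E0), H12.Glauberman.Inv φ (η : ↥(M ⊔ E0) → ℂ) ∧
        ¬ p ∣ mlt (η : ↥(M ⊔ E0) → ℂ) (θ : M → ℂ) := by
      by_contra hcon
      push Not at hcon
      letI := H12.Glauberman.irrAction φ
      have hk : H12.Glauberman.Cong p (∑ η : IrrCharacter ↥(M ⊔ E0),
          ((mlt (η : ↥(M ⊔ E0) → ℂ) (θ : M → ℂ) * mlt (η : ↥(M ⊔ E0) → ℂ) (θ : M → ℂ) : ℕ) : ℂ))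
          ((0 : ℕ) : ℂ) := by
        rw [Nat.cast_zero]
        refine H12.Glauberman.cong_sum_zero_of_fixed hS _
          (fun η => H12.Glauberman.isIntegral_nat _) (fun s η => ?_) (fun η hη => ?_)
        · have e : mlt ((s • η : IrrCharacter ↥(M ⊔ E0)) : ↥(M ⊔ E0) → ℂ) (θ : M → ℂ) =
              mlt (η : ↥(M ⊔ E0) → ℂ) (θ : M → ℂ) := by
            have : ip M (cf ((s • η : IrrCharacter ↥(M ⊔ E0)) : ↥(M ⊔ E0) → ℂ)) (cf (θ : M → ℂ)) =
                ip M (cf (η : ↥(M ⊔ E0) → ℂ)) (cf (θ : M → ℂ)) := by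
              rw [ip, ip, H12.classInner_def, H12.classInner_def]
              congr 1
              have hs' := inv_mem s.2
              refine Fintype.sum_bijective (fun a : M => (⟨(s : G)⁻¹ * a * (s : G)⁻¹⁻¹,
                hcj _ hs' _ a.2⟩ : M)) (Finite.injective_iff_bijective.1 fun a b hab =>
                Subtype.ext (by simpa using congrArg Subtype.val hab)) _ _ fun a => ?_
              rw [cf_apply _ (hMY a.2)]
              show (η : ↥(M ⊔ E0) → ℂ) (φ s⁻¹ ⟨(a : G), hMY a.2⟩) * _ = _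
              rw [← cf_coe (η : ↥(M ⊔ E0) → ℂ), show φ s⁻¹ ⟨(a : G), hMY a.2⟩ =
                act s⁻¹ ⟨(a : G), hMY a.2⟩ from rfl,
                hact s⁻¹ ⟨(a : G), hMY a.2⟩ a.2 E0.one_mem (mul_one _), mul_one]
              congr 1
              show _ = conj (cf (θ : M → ℂ) ((s : G)⁻¹ * a * (s : G)⁻¹⁻¹))
              rw [(hθS hs').2 a a.2]
            rw [mlt, this, ← mlt]
          rw [e]
        · have hinv : H12.Glauberman.Inv φ (η : ↥(M ⊔ E0) → ℂ) := fun s y => by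
            have := congrArg (fun ψ : IrrCharacter ↥(M ⊔ E0) => (ψ : ↥(M ⊔ E0) → ℂ) y) (hη s⁻¹)
            rw [← this]
            show _ = (η : ↥(M ⊔ E0) → ℂ) (φ s⁻¹⁻¹ y)
            rw [inv_inv]
          have := H12.Glauberman.cong_natCast_mul_zero (p := p)
            (n := mlt (η : ↥(M ⊔ E0) → ℂ) (θ : M → ℂ) * mlt (η : ↥(M ⊔ E0) → ℂ) (θ : M → ℂ))
            (c := (1 : ℂ)) (dvd_mul_of_dvd_left (hcon η hinv) _) isIntegral_one
          simpa using this
      have hk2 : H12.Glauberman.Cong p ((M.relIndex (M ⊔ E0) : ℕ) : ℂ) ((0 : ℕ) : ℂ) := by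
        rw [← sum_mlt_sq hMY hYst]
        push_cast at hk ⊢
        exact hk
      have hk3 := H12.Glauberman.Cong.zmod_eq_nat hk2
      rw [Nat.cast_zero, ZMod.natCast_eq_zero_iff] at hk3
      exact hY (hk3.trans ((Subgroup.index_dvd_card _).trans dvd_rfl))
    obtain ⟨η1, hη1, ha⟩ := hex
    obtain ⟨η1', hη1'⟩ := gl_exists hS hY hEY hfixY hη1
    have hov := hover η1 η1' hη1 hη1' ha
    obtain ⟨g, hg, hg'⟩ := gallagher_abelian hCE0 (hE0st.trans (st_le _)) habE hη' η1' hov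
    obtain ⟨f, hfM, rfl⟩ := hext g hg
    let η : IrrCharacter ↥(M ⊔ E0) := lm f⁻¹ η1
    have hfinv : ∀ (f' : ↥(M ⊔ E0) →* ℂˣ), (∀ y : ↥(M ⊔ E0), (y : G) ∈ M → f' y = 1) →
        ∀ ψ : IrrCharacter ↥(M ⊔ E0), H12.Glauberman.Inv φ (ψ : ↥(M ⊔ E0) → ℂ) →
          H12.Glauberman.Inv φ (lm f' ψ : ↥(M ⊔ E0) → ℂ) := by
      intro f' hf' ψ hψ s y
      show (f' (φ s y) : ℂ) * _ = (f' y : ℂ) * _
      rw [hψ s y]
      congr 2
      have hm := hmOf y y.2
      have e1 : φ s y = ⟨(s : G) * mOf y y.2 * (s : G)⁻¹, hMY (hcj s s.2 _ hm)⟩ *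
          ⟨eOf y y.2, hEY (heOf y y.2)⟩ := rfl
      have e2 : y = ⟨mOf y y.2, hMY hm⟩ * ⟨eOf y y.2, hEY (heOf y y.2)⟩ :=
        Subtype.ext (hdecEq y y.2).symm
      conv_rhs => rw [e2]
      rw [e1, map_mul, map_mul, hf' ⟨_, hMY (hcj s s.2 _ hm)⟩ (hcj s s.2 _ hm),
        hf' ⟨_, hMY hm⟩ hm]
    have hη : H12.Glauberman.Inv φ (η : ↥(M ⊔ E0) → ℂ) :=
      hfinv f⁻¹ (fun y hy => by rw [MonoidHom.inv_apply, hfM y hy, inv_one]) η1 hη1
    have hcor : GCor p (η : ↥(M ⊔ E0) → ℂ) (η' : E0 → ℂ) := by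
      have h1 := hGlm f⁻¹ η1 η1' hη1'
      have e : lm (res f⁻¹) η1' = η' := by
        rw [hg']
        refine Subtype.ext (funext fun d => ?_)
        show ((res f⁻¹ d : ℂˣ) : ℂ) * (((res f d : ℂˣ) : ℂ) * (η' : E0 → ℂ) d) = _
        rw [← mul_assoc, ← Units.val_mul]
        show (((f⁻¹ (Subgroup.inclusion hEY d)) * f (Subgroup.inclusion hEY d) : ℂˣ) : ℂ) * _ = _
        rw [MonoidHom.inv_apply, inv_mul_cancel, Units.val_one, one_mul]
      rwa [e] at h1
    have hηθ : mlt (η : ↥(M ⊔ E0) → ℂ) (θ : M → ℂ) ≠ 0 := by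
      rw [mlt, ip_congr (f := cf (η : ↥(M ⊔ E0) → ℂ)) (g := cf (η1 : ↥(M ⊔ E0) → ℂ))
        (fun a ha' => by rw [lm_apply _ _ (hMY ha'), MonoidHom.inv_apply, hfM _ ha']; simp)
        (fun _ _ => rfl), ← mlt]
      exact fun h => ha (by rw [h]; exact dvd_zero p)
    have hηext : Extends (η : ↥(M ⊔ E0) → ℂ) (θ : M → ℂ) := by
      refine extends_of_free hMY hYst habY hηθ fun f' hf' hfix => ?_
      have h1 := hGlm f' η η' hcor
      rw [hfix] at h1
      have h2 := gl_unique hS hY hEY hfixY hη h1 hcor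
      have hres : ∀ e : E0, (e : G) ∈ C → res f' e = 1 := fun e he => hf' _ (hCM he)
      have h3 := lm_injective hCE0 (hE0st.trans (st_le _)) hη' hres h2
      refine MonoidHom.ext fun y => ?_
      rw [show y = ⟨mOf y y.2, hMY (hmOf y y.2)⟩ * ⟨eOf y y.2, hEY (heOf y y.2)⟩ from
        Subtype.ext (hdecEq y y.2).symm, map_mul, hf' ⟨_, hMY (hmOf y y.2)⟩ (hmOf y y.2), one_mul]
      exact DFunLike.congr_fun h3 ⟨eOf y y.2, heOf y y.2⟩
    have hxη' : tw hxE0 η' = η' := irr_ext fun e he => by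
      rw [tw_apply hxE0 η' he, ← hη'Ψ _ ((Subgroup.mem_normalizer_iff.1 hxE0 e).1 he),
        ← hη'Ψ e he, cf_conj Ψ hxE (hE0E he)]
    have hxη : tw hxY η = η := by
      have h1 := gcor_tw hxY hxE0 hEY hcor
      rw [hxη'] at h1
      exact gl_injective hS hY hEY hfixY (hinvtw η hη) hη h1 hcor
    have hYgen : M ⊔ E ≤ (M ⊔ E0) ⊔ Subgroup.zpowers x :=
      sup_le (le_sup_left.trans le_sup_left)
        (hEgen.trans (sup_le_sup_right le_sup_right _))
    obtain ⟨χ, hχ⟩ := exists_extend_cyclic (θ := η) hME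
      (hYgen.trans (sup_le (le_st η) (Subgroup.zpowers_le.2 ((tw_eq_iff hxY η).1 hxη))))
      hYgen (Subgroup.mem_sup_right hxE)
    exact ⟨χ, fun m hm => by rw [hχ m (hMY hm), hηext m hm]⟩

end Step

/-- The extension criterion. -/
theorem ext_iff_aux (n : ℕ) : ∀ {S M E C : Subgroup G}, Nat.card S = n → IsPGroup p S →
    ¬ p ∣ Nat.card M → ¬ p ∣ Nat.card E → S ≤ Subgroup.normalizer (M : Set G) →
    E ≤ Subgroup.normalizer (M : Set G) → E ≤ Subgroup.normalizer (S : Set G) →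
    C = M ⊓ Subgroup.centralizer (S : Set G) → E ⊓ M = C →
    (∀ a ∈ E, ∀ b ∈ E, a * b * a⁻¹ * b⁻¹ ∈ C) →
    ∀ {θ : IrrCharacter M}, S ≤ st (θ : M → ℂ) → E ≤ st (θ : M → ℂ) →
    ∀ {θ' : IrrCharacter C}, GCor p (θ : M → ℂ) (θ' : C → ℂ) →
      (ExtTo (θ : M → ℂ) (M ⊔ E) ↔ ExtTo (θ' : C → ℂ) E) := by
  induction n using Nat.strong_induction_on with
  | _ n ih =>
    intro S M E C hn hS hM hE hSM hEM hES hC hEMC hEab θ hθS hθE θ' hθ'
    classical
    by_cases hbot : S = ⊥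
    · subst hbot
      have hCM : C = M := by
        rw [hC, inf_eq_left]
        intro m _
        exact Subgroup.mem_centralizer_iff.2 fun s hs => by
          rw [Subgroup.mem_bot.1 hs, one_mul, mul_one]
      subst hCM
      have e : θ = θ' := by
        by_contra hne
        apply hθ'
        rw [mlt_self, if_neg hne]
        exact dvd_zero p
      subst e
      rw [sup_eq_right.2 (hEMC ▸ inf_le_left)]
    haveI : Group.IsNilpotent S := hS.isNilpotent
    haveI : Nontrivial S := (Subgroup.nontrivial_iff_ne_bot S).2 hbot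
    have hD : ⁅S, S⁆ < S := by
      refine lt_of_le_of_ne (Subgroup.commutator_le_self S) fun he => ?_
      have h1 := Group.IsSolvable.commutator_lt_top_of_nontrivial (↥S)
      rw [← Subgroup.map_subtype_commutator] at he
      refine h1.ne (Subgroup.map_injective S.subtype_injective ?_)
      rw [he, ← MonoidHom.range_eq_map, Subgroup.range_subtype]
    have hDn : ∀ x ∈ Subgroup.normalizer (S : Set G),
        x ∈ Subgroup.normalizer ((⁅S, S⁆ : Subgroup G) : Set G) := by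
      intro x hx
      refine Subgroup.mem_normalizer_fintype fun y hy => ?_
      have hm : S.map (MulAut.conj x).toMonoidHom ≤ S := by
        rintro _ ⟨a, ha, rfl⟩
        exact (Subgroup.mem_normalizer_iff.1 hx a).1 ha
      have h1 : MulAut.conj x y ∈ (⁅S, S⁆ : Subgroup G).map (MulAut.conj x).toMonoidHom :=
        ⟨y, hy, rfl⟩
      rw [Subgroup.map_commutator] at h1
      exact Subgroup.commutator_mono hm hm h1
    have hnS : ∀ T : Subgroup G, ⁅S, S⁆ ≤ T → T ≤ S → S ≤ Subgroup.normalizer (T : Set G) := by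
      intro T hDT hTS s hs
      refine Subgroup.mem_normalizer_fintype fun t ht => ?_
      rw [show s * t * s⁻¹ = (s * t * s⁻¹ * t⁻¹) * t by group]
      exact mul_mem (hDT (Subgroup.commutator_mem_commutator hs (hTS ht))) ht
    obtain ⟨S0, ⟨hDS0, hS0lt, hES0⟩, hmax⟩ := (Set.toFinite {T : Subgroup G |
      ⁅S, S⁆ ≤ T ∧ T < S ∧ E ≤ Subgroup.normalizer (T : Set G)}).exists_maximal
      ⟨⁅S, S⁆, le_rfl, hD, fun x hx => hDn x (hES hx)⟩
    have hS0S := hS0lt.le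
    have hS0n := hnS S0 hDS0 hS0S
    set M1 : Subgroup G := M ⊓ Subgroup.centralizer (S0 : Set G) with hM1def
    have hCM : C ≤ M := hC ▸ inf_le_left
    have hCE : C ≤ E := hEMC ▸ inf_le_left
    have hCM1 : C ≤ M1 := by
      rw [hC]
      exact inf_le_inf_left _ (Subgroup.centralizer_le hS0S)
    have hM1M : M1 ≤ M := inf_le_left
    have hEM1 : E ≤ Subgroup.normalizer (M1 : Set G) := fun x hx =>
      mem_normalizer_inf_centralizer (hEM hx) (hES0 hx)
    have hSM1 : S ≤ Subgroup.normalizer (M1 : Set G) := fun x hx =>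
      mem_normalizer_inf_centralizer (hSM hx) (hS0n hx)
    have hdec : ∀ y ∈ M1 ⊔ E, ∃ m ∈ M1, ∃ e ∈ E, m * e = y := fun y hy => by
      have hy' : y ∈ ((M1 ⊔ E : Subgroup G) : Set G) := hy
      rw [Subgroup.coe_mul_of_right_le_normalizer_left _ _ hEM1] at hy'
      exact hy'
    have hE1 : ¬ p ∣ Nat.card ↥(M1 ⊔ E) := by
      intro hdvd
      have h1 : p ∣ Nat.card M1 * Nat.card E := by
        rw [← card_mul_fibre le_sup_left le_sup_right hdec]
        exact hdvd.mul_left _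
      rcases hp.out.dvd_mul.1 h1 with h | h
      · exact hM (h.trans (Subgroup.card_dvd_of_le hM1M))
      · exact hE h
    have hE1M : M1 ⊔ E ≤ Subgroup.normalizer (M : Set G) :=
      sup_le (hM1M.trans Subgroup.le_normalizer) hEM
    have hE1S0 : M1 ⊔ E ≤ Subgroup.normalizer (S0 : Set G) := by
      refine sup_le (fun m hm => Subgroup.mem_normalizer_fintype fun t ht => ?_) hES0
      rw [← Subgroup.mem_centralizer_iff.1 hm.2 t ht, mul_inv_cancel_right]
      exact ht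
    have hE1MC : (M1 ⊔ E) ⊓ M = M1 := by
      refine le_antisymm ?_ (le_inf le_sup_left hM1M)
      rintro y ⟨hy, hyM⟩
      obtain ⟨m, hm, e, he, rfl⟩ := hdec y hy
      have hem : e ∈ M := (M.mul_mem_cancel_left (hM1M hm)).1 hyM
      exact mul_mem hm (hCM1 (hEMC ▸ Subgroup.mem_inf.2 ⟨he, hem⟩))
    have hE1ab : ∀ a ∈ M1 ⊔ E, ∀ b ∈ M1 ⊔ E, a * b * a⁻¹ * b⁻¹ ∈ M1 := by
      intro a ha b hb
      obtain ⟨m, hm, e, he, rfl⟩ := hdec a ha
      obtain ⟨m', hm', e', he', rfl⟩ := hdec b hb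
      rw [show m * e * (m' * e') * (m * e)⁻¹ * (m' * e')⁻¹ =
        m * (e * m' * e⁻¹) * (e * e' * e⁻¹ * e'⁻¹) * (e' * m⁻¹ * e'⁻¹) * m'⁻¹ by group]
      exact mul_mem (mul_mem (mul_mem (mul_mem hm
        ((Subgroup.mem_normalizer_iff.1 (hEM1 he) _).1 hm')) (hCM1 (hEab _ he _ he')))
        ((Subgroup.mem_normalizer_iff.1 (hEM1 he') _).1 (inv_mem hm))) (inv_mem hm')
    have hlt : Nat.card S0 < n := hn ▸ lt_of_le_of_ne (Subgroup.card_le_of_le hS0S) fun he =>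
      hS0lt.ne (Subgroup.eq_of_le_of_card_ge hS0S he.ge)
    have hS0p : IsPGroup p S0 := hS.to_le hS0S
    have hS0M := hS0S.trans hSM
    have hθS0 := hS0S.trans hθS
    obtain ⟨θ1, hθ1⟩ := sg_exists hS0M hM1def hS0p hM hθS0
    have h1 := ih _ hlt rfl hS0p hM hE1 hS0M hE1M hE1S0 hM1def hE1MC hE1ab hθS0
      (sup_le (hM1M.trans (le_st θ)) hθE) hθ1
    rw [← sup_assoc, sup_eq_left.2 hM1M] at h1
    have hθ1' : GCor p (θ1 : M1 → ℂ) (θ' : C → ℂ) := fun hd => GCor.cast_ne_zero hθ' (by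
      rw [sg_chain hS0M hM1def hS0p hM hCM1 hθS0 hθ1 θ',
        (ZMod.natCast_eq_zero_iff _ _).2 hd, mul_zero])
    have hθ1S : S ≤ st (θ1 : M1 → ℂ) := fun x hx =>
      (sg_st_iff hS0M hM1def hS0p hM hθS0 hθ1 (hSM hx) (hS0n hx)).1 (hθS hx)
    have hθ1E : E ≤ st (θ1 : M1 → ℂ) := fun x hx =>
      (sg_st_iff hS0M hM1def hS0p hM hθS0 hθ1 (hEM hx) (hES0 hx)).1 (hθE hx)
    have h2 := ext_step (S0 := S0) hS (fun h => hM (h.trans (Subgroup.card_dvd_of_le hM1M))) hE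
      hSM1 hEM1 hES (C := C) (by
        rw [hC, hM1def, inf_assoc, inf_eq_right.2 (Subgroup.centralizer_le hS0S)])
      (le_antisymm (hEMC ▸ inf_le_inf_left _ hM1M) (le_inf hCE hCM1)) hEab hS0S hES0 hS0n
      (fun a ha b hb => hDS0 (Subgroup.commutator_mem_commutator ha hb))
      (fun t ht m hm => Subgroup.mem_centralizer_iff.1 hm.2 t ht)
      (fun T hT hTS hTn => by
        rcases hTS.eq_or_lt with h | h
        · exact Or.inr h
        · exact Or.inl (le_antisymm (hmax ⟨hDS0.trans hT, h, hTn⟩ hT) hT))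
      hθ1S hθ1E hθ1'
    exact h1.trans h2

/-- The extension criterion. -/
theorem ext_iff {S M E C : Subgroup G} (hS : IsPGroup p S)
    (hM : ¬ p ∣ Nat.card M) (hE : ¬ p ∣ Nat.card E) (hSM : S ≤ Subgroup.normalizer (M : Set G))
    (hEM : E ≤ Subgroup.normalizer (M : Set G)) (hES : E ≤ Subgroup.normalizer (S : Set G))
    (hC : C = M ⊓ Subgroup.centralizer (S : Set G)) (hEMC : E ⊓ M = C)
    (hEab : ∀ a ∈ E, ∀ b ∈ E, a * b * a⁻¹ * b⁻¹ ∈ C)
    {θ : IrrCharacter M} (hθS : S ≤ st (θ : M → ℂ)) (hθE : E ≤ st (θ : M → ℂ))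
    {θ' : IrrCharacter C} (hθ' : GCor p (θ : M → ℂ) (θ' : C → ℂ)) :
    ExtTo (θ : M → ℂ) (M ⊔ E) ↔ ExtTo (θ' : C → ℂ) E :=
  ext_iff_aux (Nat.card S) rfl hS hM hE hSM hEM hES hC hEMC hEab hθS hθE hθ'

end H87.McKay
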