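import Cfsg.Agent.H87.McKay.Coset
import Cfsg.Agent.S0887
import Cfsg.Agent.H10.PSolvable

/-!
# Counting characters of degree prime to `p` through the constituents fixed by a Sylow subgroup
-/

set_option autoImplicit false
set_option linter.unusedSectionVars false
set_option linter.unusedVariables false
set_option linter.style.haveILetI false

open Cfsg
open scoped ComplexConjugate Pointwise

namespace H87.McKay

attribute [local instance high] Fintype.ofFinite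

universe u

/-- Double counting when the related points of each element form one class. -/
theorem card_eq_sum_div {X Θ : Type*} [Finite X] [Finite Θ] (R : X → Θ → Prop) (O : Θ → Θ → Prop)
    (hex : ∀ x, ∃ θ, R x θ) (horb : ∀ x θ, R x θ → ∀ θ', R x θ' ↔ O θ θ') :
    (Nat.card X : ℚ) = ∑ θ : Θ, (Nat.card {x // R x θ} : ℚ) / Nat.card {θ' // O θ θ'} := by
  classical
  have hx : ∀ x : X, ∑ θ : Θ, (if R x θ then (1 : ℚ) / Nat.card {θ' // O θ θ'} else 0) = 1 := by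
    intro x
    obtain ⟨θ0, h0⟩ := hex x
    have hc : ∀ θ, R x θ → Nat.card {θ' // O θ θ'} = Nat.card {θ' // R x θ'} := fun θ h =>
      Nat.card_congr (Equiv.subtypeEquivRight fun θ' => (horb x θ h θ').symm)
    have hne : (Nat.card {θ' // R x θ'} : ℚ) ≠ 0 := by
      haveI : Nonempty {θ' // R x θ'} := ⟨⟨θ0, h0⟩⟩
      exact_mod_cast Nat.card_pos.ne'
    calc ∑ θ : Θ, (if R x θ then (1 : ℚ) / Nat.card {θ' // O θ θ'} else 0)
        = ∑ θ : Θ, (if R x θ then (1 : ℚ) / Nat.card {θ' // R x θ'} else 0) := by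
          refine Finset.sum_congr rfl fun θ _ => ?_
          split_ifs with h
          · rw [hc θ h]
          · rfl
      _ = 1 := by
          rw [← Finset.sum_filter, Finset.sum_const, nsmul_eq_mul]
          rw [show (Finset.univ.filter fun θ => R x θ).card = Nat.card {θ' // R x θ'} by
            rw [Nat.card_eq_fintype_card, Fintype.card_subtype]]
          field_simp
  calc (Nat.card X : ℚ) = ∑ x : X, (1 : ℚ) := by simp [Nat.card_eq_fintype_card]
    _ = ∑ x : X, ∑ θ : Θ, (if R x θ then (1 : ℚ) / Nat.card {θ' // O θ θ'} else 0) := by simp only [hx]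
    _ = _ := by
        rw [Finset.sum_comm]
        refine Finset.sum_congr rfl fun θ _ => ?_
        rw [← Finset.sum_filter, Finset.sum_const, nsmul_eq_mul, mul_one_div,
          show (Finset.univ.filter fun x => R x θ).card = Nat.card {x // R x θ} by
            rw [Nat.card_eq_fintype_card, Fintype.card_subtype]]

variable {G : Type u} [Group G] [Finite G] {p : ℕ} [hp : Fact p.Prime]
variable {A B D L M X T S : Subgroup G}

/-- The number of characters of degree prime to `p` over `θ`. -/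
noncomputable def cnt (p : ℕ) (X : Subgroup G) {A : Subgroup G} (θ : A → ℂ) : ℕ :=
  Nat.card {χ : IrrCharacter X // ¬ p ∣ H12.degree (χ : X → ℂ) ∧ mlt (χ : X → ℂ) θ ≠ 0}

/-! ### Degrees -/

theorem cast_degree {D : Subgroup G} (χ : IrrCharacter D) :
    (H12.degree (χ : D → ℂ) : ℂ) = cf (χ : D → ℂ) 1 := by
  rw [cf_apply _ D.one_mem]
  exact (H12.irr_apply_one χ).symm

theorem degree_tw {x : G} (hx : x ∈ Subgroup.normalizer (A : Set G)) (θ : IrrCharacter A) :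
    H12.degree (tw hx θ : A → ℂ) = H12.degree (θ : A → ℂ) := by
  have h := tw_apply hx θ A.one_mem
  rw [show x * 1 * x⁻¹ = 1 by group, ← cast_degree, ← cast_degree] at h
  exact_mod_cast h

theorem degree_dvd (h : A ≤ D) (hD : D ≤ Subgroup.normalizer (A : Set G)) (χ : IrrCharacter D)
    {θ : IrrCharacter A} (hne : mlt (χ : D → ℂ) (θ : A → ℂ) ≠ 0) :
    H12.degree (θ : A → ℂ) ∣ H12.degree (χ : D → ℂ) ∧
      H12.degree (χ : D → ℂ) / H12.degree (θ : A → ℂ) ∣ A.relIndex D := by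
  haveI := normal_of_le hD
  refine Cfsg.Agent.S0887.result (A.subgroupOf D) (χ : D → ℂ) χ.2 (lift h θ : A.subgroupOf D → ℂ)
    (lift h θ).2 (by rw [classInner_lift]; exact_mod_cast hne) _ _ (H12.irr_apply_one χ) ?_
  rw [lift_apply, cast_degree]
  rfl

theorem not_dvd_degree_of_le (h : A ≤ D) (hD : D ≤ Subgroup.normalizer (A : Set G))
    (χ : IrrCharacter D) {θ : IrrCharacter A} (hne : mlt (χ : D → ℂ) (θ : A → ℂ) ≠ 0)
    (hp' : ¬ p ∣ H12.degree (χ : D → ℂ)) : ¬ p ∣ H12.degree (θ : A → ℂ) := fun hd =>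
  hp' (hd.trans (degree_dvd h hD χ hne).1)

theorem not_dvd_degree_of_index (h : A ≤ D) (hD : D ≤ Subgroup.normalizer (A : Set G))
    (hi : ¬ p ∣ A.relIndex D) (χ : IrrCharacter D) {θ : IrrCharacter A}
    (hne : mlt (χ : D → ℂ) (θ : A → ℂ) ≠ 0) (hp' : ¬ p ∣ H12.degree (θ : A → ℂ)) :
    ¬ p ∣ H12.degree (χ : D → ℂ) := by
  obtain ⟨⟨c, hc⟩, h2⟩ := degree_dvd h hD χ hne
  rw [hc, Nat.mul_div_cancel_left _ (H12.irr_degree_pos θ)] at h2
  rw [hc, hp.out.dvd_mul]
  rintro (h' | h')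
  · exact hp' h'
  · exact hi (h'.trans h2)

theorem degree_dvd_card_sub {D : Subgroup G} (χ : IrrCharacter D) :
    H12.degree (χ : D → ℂ) ∣ Nat.card D := H12.irr_degree_dvd_card χ

/-- A constituent of the same degree is the restriction. -/
theorem extends_of_degree_eq (h : A ≤ D) (χ : IrrCharacter D) {θ : IrrCharacter A}
    (hne : mlt (χ : D → ℂ) (θ : A → ℂ) ≠ 0)
    (he : H12.degree (χ : D → ℂ) = H12.degree (θ : A → ℂ)) :
    Extends (χ : D → ℂ) (θ : A → ℂ) := by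
  classical
  have h1 := res_eq_sum h χ A.one_mem
  rw [← cast_degree] at h1
  simp only [← cast_degree] at h1
  have h2 : H12.degree (χ : D → ℂ) =
      ∑ φ : IrrCharacter A, mlt (χ : D → ℂ) (φ : A → ℂ) * H12.degree (φ : A → ℂ) := by
    exact_mod_cast h1
  rw [← Finset.add_sum_erase _ _ (Finset.mem_univ θ), he] at h2
  have hpos := H12.irr_degree_pos θ
  have hm1 : 1 ≤ mlt (χ : D → ℂ) (θ : A → ℂ) := Nat.one_le_iff_ne_zero.2 hne
  have hle : H12.degree (θ : A → ℂ) ≤ mlt (χ : D → ℂ) (θ : A → ℂ) * H12.degree (θ : A → ℂ) :=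
    Nat.le_mul_of_pos_left _ hm1
  have hz : ∑ φ ∈ Finset.univ.erase θ,
      mlt (χ : D → ℂ) (φ : A → ℂ) * H12.degree (φ : A → ℂ) = 0 := by omega
  have hm : mlt (χ : D → ℂ) (θ : A → ℂ) = 1 := by
    have : mlt (χ : D → ℂ) (θ : A → ℂ) * H12.degree (θ : A → ℂ) = 1 * H12.degree (θ : A → ℂ) := by
      omega
    exact Nat.eq_of_mul_eq_mul_right hpos this
  intro a ha
  rw [res_eq_sum h χ ha, Finset.sum_eq_single θ, hm, Nat.cast_one, one_mul]
  · intro φ _ hφ
    have := (Finset.sum_eq_zero_iff.1 hz) φ (Finset.mem_erase.2 ⟨hφ, Finset.mem_univ φ⟩)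
    rcases Nat.mul_eq_zero.1 this with h' | h'
    · simp [h']
    · exact absurd h' (H12.irr_degree_pos φ).ne'
  · simp

/-! ### Twisting -/

theorem tw_tw {a b : G} (ha : a ∈ Subgroup.normalizer (A : Set G))
    (hb : b ∈ Subgroup.normalizer (A : Set G)) (θ : IrrCharacter A) :
    tw ha (tw hb θ) = tw (mul_mem hb ha) θ := irr_ext fun g hg => by
  rw [tw_apply ha _ hg, tw_apply hb _ ((Subgroup.mem_normalizer_iff.1 ha g).1 hg),
    tw_apply (mul_mem hb ha) _ hg]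
  congr 1
  group

theorem tw_congr {a b : G} (h : a = b) (ha : a ∈ Subgroup.normalizer (A : Set G))
    (hb : b ∈ Subgroup.normalizer (A : Set G)) (θ : IrrCharacter A) : tw ha θ = tw hb θ := by
  subst h; rfl

theorem mlt_tw_self (h : A ≤ D) {x : G} (hx : x ∈ D) (hxA : x ∈ Subgroup.normalizer (A : Set G))
    (χ : IrrCharacter D) (θ : IrrCharacter A) :
    mlt (χ : D → ℂ) (tw hxA θ : A → ℂ) = mlt (χ : D → ℂ) (θ : A → ℂ) := by
  have h1 := mlt_tw hxA (Subgroup.le_normalizer hx) h χ θ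
  rwa [(tw_eq_iff (Subgroup.le_normalizer hx) χ).2 (le_st χ hx)] at h1

theorem st_tw_iff {x : G} (hx : x ∈ Subgroup.normalizer (A : Set G)) (θ : IrrCharacter A) {s : G} :
    s ∈ st (tw hx θ : A → ℂ) ↔ x * s * x⁻¹ ∈ st (θ : A → ℂ) := by
  have key : ∀ {y : G} (hy : y ∈ Subgroup.normalizer (A : Set G)) (φ : IrrCharacter A) {t : G},
      y * t * y⁻¹ ∈ st (φ : A → ℂ) → t ∈ st (tw hy φ : A → ℂ) := by
    intro y hy φ t ⟨h1, h2⟩
    have ht : t ∈ Subgroup.normalizer (A : Set G) := by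
      rw [show t = y⁻¹ * (y * t * y⁻¹) * y by group]
      exact mul_mem (mul_mem (inv_mem hy) h1) hy
    refine ⟨ht, fun a ha => ?_⟩
    rw [tw_apply hy φ ((Subgroup.mem_normalizer_iff.1 ht a).1 ha), tw_apply hy φ ha,
      ← h2 _ ((Subgroup.mem_normalizer_iff.1 hy a).1 ha)]
    congr 1
    group
  refine ⟨fun h => ?_, key hx θ⟩
  have h1 := key (inv_mem hx) (tw hx θ) (t := x * s * x⁻¹)
    (by rw [show x⁻¹ * (x * s * x⁻¹) * x⁻¹⁻¹ = s by group]; exact h)
  rwa [tw_tw, tw_congr (mul_inv_cancel x) _ (one_mem _),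
    (tw_eq_iff (one_mem _) θ).2 (one_mem _)] at h1

theorem exists_between (hAB : A ≤ B) (hBD : B ≤ D) (χ : IrrCharacter D) {θ : IrrCharacter A}
    (h : mlt (χ : D → ℂ) (θ : A → ℂ) ≠ 0) :
    ∃ φ : IrrCharacter B, mlt (χ : D → ℂ) (φ : B → ℂ) ≠ 0 ∧ mlt (φ : B → ℂ) (θ : A → ℂ) ≠ 0 := by
  rw [mlt_trans hAB hBD] at h
  obtain ⟨φ, -, hφ⟩ := Finset.exists_ne_zero_of_sum_ne_zero h
  exact ⟨φ, left_ne_zero_of_mul hφ, right_ne_zero_of_mul hφ⟩

theorem mlt_ne_zero_trans (hAB : A ≤ B) (hBD : B ≤ D) (χ : IrrCharacter D) {φ : IrrCharacter B}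
    {θ : IrrCharacter A} (h1 : mlt (χ : D → ℂ) (φ : B → ℂ) ≠ 0)
    (h2 : mlt (φ : B → ℂ) (θ : A → ℂ) ≠ 0) : mlt (χ : D → ℂ) (θ : A → ℂ) ≠ 0 := by
  rw [mlt_trans hAB hBD]
  intro h0
  exact mul_ne_zero h1 h2 ((Finset.sum_eq_zero_iff.1 h0) φ (Finset.mem_univ φ))

/-- All constituents lie over an invariant character. -/
theorem over_of_invariant (hAB : A ≤ B) (hBD : B ≤ D) {ν : IrrCharacter A}
    (hst : D ≤ st (ν : A → ℂ)) (χ : IrrCharacter D) (h : mlt (χ : D → ℂ) (ν : A → ℂ) ≠ 0)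
    {φ : IrrCharacter B} (hφ : mlt (χ : D → ℂ) (φ : B → ℂ) ≠ 0) :
    mlt (φ : B → ℂ) (ν : A → ℂ) ≠ 0 := by
  obtain ⟨ν', hν'⟩ := exists_mlt_ne_zero hAB φ
  have h1 := mlt_ne_zero_trans hAB hBD χ hφ hν'
  by_cases he : ν' = ν
  · exact he ▸ hν'
  · exact absurd (mlt_eq_zero_of_inv (hAB.trans hBD) hst χ h he) h1

/-! ### Sylow subgroups of subgroups -/

/-- `S` is a Sylow `p`-subgroup of `X`. -/
structure IsSyl (p : ℕ) (S X : Subgroup G) : Prop where
  le : S ≤ X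
  pgroup : IsPGroup p S
  index : ¬ p ∣ S.relIndex X

theorem IsSyl.mono (h : IsSyl p S X) (hST : S ≤ T) (hTX : T ≤ X) : IsSyl p S T :=
  ⟨hST, h.pgroup, fun hd => h.index (hd.trans ⟨_, (Subgroup.relIndex_mul_relIndex S T X hST hTX).symm⟩)⟩

theorem IsSyl.index_le (h : IsSyl p S X) (hST : S ≤ T) (hTX : T ≤ X) : ¬ p ∣ T.relIndex X :=
  fun hd => h.index (hd.trans (Subgroup.relIndex_dvd_of_le_left X hST))

/-- Sylow's theorem inside `X`. -/
theorem IsSyl.conj {S' : Subgroup G} (h : IsSyl p S X) (h' : IsSyl p S' X) :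
    ∃ x ∈ X, ∀ s : G, s ∈ S' ↔ x * s * x⁻¹ ∈ S := by
  let mk : ∀ {U : Subgroup G}, IsSyl p U X → Sylow p X := fun {U} hU =>
    (hU.pgroup.of_equiv (Subgroup.subgroupOfEquivOfLe hU.le).symm).toSylow hU.index
  obtain ⟨x, hx⟩ := MulAction.exists_smul_eq X (mk h') (mk h)
  refine ⟨x, x.2, fun s => ?_⟩
  have hU : ∀ {U : Subgroup G} (hU : IsSyl p U X) (y : X), y ∈ (mk hU : Subgroup X) ↔ (y : G) ∈ U :=
    fun hU y => Iff.rfl
  have hcoe : MulAut.conj x • ((mk h' : Sylow p X) : Subgroup X) = (mk h : Subgroup X) := by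
    rw [← hx]; rfl
  constructor
  · intro hs
    have := Subgroup.smul_mem_pointwise_smul (⟨s, h'.le hs⟩ : X) (MulAut.conj x)
      ((mk h' : Sylow p X) : Subgroup X) ((hU h' _).2 hs)
    rw [hcoe] at this
    exact this
  · intro hs
    have hsX : s ∈ X := by
      rw [show s = (x : G)⁻¹ * ((x : G) * s * (x : G)⁻¹) * x by group]
      exact mul_mem (mul_mem (inv_mem x.2) (h.le hs)) x.2
    have h2 : (MulAut.conj x • (⟨s, hsX⟩ : X)) ∈ MulAut.conj x • ((mk h' : Sylow p X) : Subgroup X) := by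
      rw [hcoe]; exact hs
    exact (hU h' ⟨s, hsX⟩).1 (Subgroup.smul_mem_pointwise_smul_iff.1 h2)

theorem IsSyl.exists_of_not_dvd (h : IsSyl p S X) (hTX : T ≤ X) (hT : ¬ p ∣ T.relIndex X) :
    ∃ x ∈ X, ∀ s ∈ S, x * s * x⁻¹ ∈ T := by
  obtain ⟨P⟩ : Nonempty (Sylow p T) := inferInstance
  have hP : IsSyl p ((P : Subgroup T).map T.subtype) X := by
    refine ⟨(Subgroup.map_subtype_le _).trans hTX,
      P.isPGroup'.of_equiv (Subgroup.equivMapOfInjective _ _ T.subtype_injective), ?_⟩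
    rw [← Subgroup.relIndex_mul_relIndex _ T X (Subgroup.map_subtype_le _) hTX, hp.out.dvd_mul]
    rintro (hd | hd)
    · refine P.not_dvd_index ?_
      rwa [show ((P : Subgroup T).map T.subtype).relIndex T = (P : Subgroup T).index by
        rw [Subgroup.relIndex, Subgroup.subgroupOf, Subgroup.comap_map_eq_self_of_injective T.subtype_injective]] at hd
    · exact hT hd
  obtain ⟨x, hx, hx'⟩ := hP.conj h
  exact ⟨x, hx, fun s hs => Subgroup.map_subtype_le _ ((hx' s).1 hs)⟩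

theorem IsSyl.frattini (h : IsSyl p S X) (hST : S ≤ T) (hTX : T ≤ X) {x : G} (hx : x ∈ X)
    (hxS : ∀ s ∈ S, x * s * x⁻¹ ∈ T) :
    ∃ t ∈ T, t * x ∈ Subgroup.normalizer (S : Set G) := by
  let S' : Subgroup G := S.map (MulAut.conj x).toMonoidHom
  have hcard : Nat.card S' = Nat.card S :=
    Subgroup.card_map_of_injective (MulAut.conj x).injective
  have hS'T : S' ≤ T := by
    rintro _ ⟨s, hs, rfl⟩
    exact hxS s hs
  have hST' := h.mono hST hTX
  have hS' : IsSyl p S' T := by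
    refine ⟨hS'T, h.pgroup.map _, fun hd => hST'.index ?_⟩
    have h1 := Subgroup.card_mul_index (S'.subgroupOf T)
    have h2 := Subgroup.card_mul_index (S.subgroupOf T)
    rw [Nat.card_congr (Subgroup.subgroupOfEquivOfLe hS'T).toEquiv, hcard, ← Subgroup.relIndex] at h1
    rw [Nat.card_congr (Subgroup.subgroupOfEquivOfLe hST).toEquiv, ← Subgroup.relIndex] at h2
    rwa [Nat.eq_of_mul_eq_mul_left Nat.card_pos (h2.trans h1.symm)]
  obtain ⟨t, ht, ht'⟩ := hST'.conj hS'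
  refine ⟨t, ht, Subgroup.mem_normalizer_fintype fun s hs => ?_⟩
  have := (ht' (x * s * x⁻¹)).1 ⟨s, hs, rfl⟩
  rw [show t * x * s * (t * x)⁻¹ = t * (x * s * x⁻¹) * t⁻¹ by group]
  exact this

/-- A subgroup of order prime to `p` lies in a normal subgroup of `p`-power index. -/
theorem le_of_coprime {W : Subgroup G} (hAM : A ≤ M) (hWM : W ≤ M)
    (hMW : M ≤ Subgroup.normalizer (W : Set G)) (hA : ¬ p ∣ Nat.card A)
    {k : ℕ} (hk : W.relIndex M = p ^ k) : A ≤ W := by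
  haveI := normal_of_le hMW
  have hd : W.relIndex A ∣ W.relIndex M := by
    have h1 := H10.relIndex_dvd_relIndex_of_le_right (W.subgroupOf M) (M := A.subgroupOf M) (L := ⊤)
      le_top
    rwa [Subgroup.relIndex_subgroupOf hAM, Subgroup.relIndex_top_right] at h1
  rw [hk] at hd
  obtain ⟨i, -, hi⟩ := (Nat.dvd_prime_pow hp.out).1 hd
  refine Subgroup.relIndex_eq_one.1 ?_
  rw [hi]
  rcases Nat.eq_zero_or_pos i with rfl | hi0
  · exact pow_zero p
  · exact absurd ((dvd_pow_self p hi0.ne').trans (hi ▸ Subgroup.index_dvd_card (W.subgroupOf A))) hA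

/-! ### The orbit count -/

/-- Conjugate under `N_X(S)`. -/
def SConj (S X : Subgroup G) {M : Subgroup G} (θ θ' : IrrCharacter M) : Prop :=
  ∃ n, ∃ hn : n ∈ Subgroup.normalizer (M : Set G),
    n ∈ X ∧ n ∈ Subgroup.normalizer (S : Set G) ∧ tw hn θ = θ'

theorem sconj_congr {X' : Subgroup G} (h : X ⊓ Subgroup.normalizer (S : Set G) =
    X' ⊓ Subgroup.normalizer (S : Set G)) (θ θ' : IrrCharacter M) :
    SConj S X θ θ' ↔ SConj S X' θ θ' := by
  constructor <;> rintro ⟨n, hn, h1, h2, h3⟩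
  · exact ⟨n, hn, (h ▸ Subgroup.mem_inf.2 ⟨h1, h2⟩ : n ∈ X' ⊓ _).1, h2, h3⟩
  · exact ⟨n, hn, (h.symm ▸ Subgroup.mem_inf.2 ⟨h1, h2⟩ : n ∈ X ⊓ _).1, h2, h3⟩

open scoped Classical in
/-- The characters over `ν` grouped by their constituents fixed by `S`. -/
theorem cnt_sum (hLM : L ≤ M) (hMX : M ≤ X) (hXM : X ≤ Subgroup.normalizer (M : Set G))
    (hS : IsSyl p S X) {ν : IrrCharacter L} (hν : X ≤ st (ν : L → ℂ)) :
    (cnt p X (ν : L → ℂ) : ℚ) =
      ∑ θ : {θ : IrrCharacter M // S ≤ st (θ : M → ℂ) ∧ mlt (θ : M → ℂ) (ν : L → ℂ) ≠ 0},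
        (cnt p X (θ.1 : M → ℂ) : ℚ) /
          Nat.card {θ' : {θ : IrrCharacter M // S ≤ st (θ : M → ℂ) ∧
            mlt (θ : M → ℂ) (ν : L → ℂ) ≠ 0} // SConj S X θ.1 θ'.1} := by
  rw [cnt, card_eq_sum_div (fun (χ : {χ : IrrCharacter X // ¬ p ∣ H12.degree (χ : X → ℂ) ∧
      mlt (χ : X → ℂ) (ν : L → ℂ) ≠ 0}) (θ : {θ : IrrCharacter M // S ≤ st (θ : M → ℂ) ∧
      mlt (θ : M → ℂ) (ν : L → ℂ) ≠ 0}) => mlt (χ.1 : X → ℂ) (θ.1 : M → ℂ) ≠ 0)
      (fun θ θ' => SConj S X θ.1 θ'.1) ?_ ?_]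
  · refine Finset.sum_congr rfl fun θ _ => ?_
    congr 2
    exact Nat.card_congr
      { toFun := fun z => ⟨z.1.1, z.1.2.1, z.2⟩
        invFun := fun w => ⟨⟨w.1, w.2.1, mlt_ne_zero_trans hLM hMX w.1 w.2.2 θ.2.2⟩, w.2.2⟩
        left_inv := fun z => rfl
        right_inv := fun w => rfl }
  · rintro ⟨χ, hχp, hχν⟩
    obtain ⟨θ0, h0, -⟩ := exists_between hLM hMX χ hχν
    set T := X ⊓ st (θ0 : M → ℂ) with hT
    have hTX : T ≤ X := inf_le_left
    have hind : ¬ p ∣ T.relIndex X := by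
      haveI := normal_of_le hXM
      intro hd
      apply hχp
      have h1 := H13.clifford_degree (M.subgroupOf X) χ.2 (lift hMX θ0).2
        (by rw [classInner_lift]; exact_mod_cast h0)
      have hTi : H13.inertia (M.subgroupOf X) (lift hMX θ0 : M.subgroupOf X → ℂ) =
          T.subgroupOf X := by
        ext y
        rw [H13.mem_inertia, Subgroup.mem_subgroupOf, hT, Subgroup.mem_inf]
        constructor
        · intro hy
          refine ⟨y.2, hXM y.2, fun a ha => ?_⟩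
          have := congrFun hy ⟨⟨a, hMX ha⟩, ha⟩
          rw [H13.twist_apply, lift_apply, lift_apply] at this
          exact this
        · rintro ⟨-, -, hy⟩
          funext n
          rw [H13.twist_apply, lift_apply, lift_apply]
          exact hy _ n.2
      rw [classInner_lift, hTi, ← Subgroup.relIndex, lift_apply, H12.irr_apply_one,
        show (((1 : M.subgroupOf X) : X) : G) = 1 from rfl, ← cast_degree] at h1
      have h2 : H12.degree (χ : X → ℂ) =
          mlt (χ : X → ℂ) (θ0 : M → ℂ) * T.relIndex X * H12.degree (θ0 : M → ℂ) := by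
        exact_mod_cast h1
      rw [h2]
      exact dvd_mul_of_dvd_left (dvd_mul_of_dvd_right hd _) _
    obtain ⟨x, hx, hxT⟩ := hS.exists_of_not_dvd hTX hind
    have h1 : mlt (χ : X → ℂ) (tw (hXM hx) θ0 : M → ℂ) ≠ 0 := by
      rw [mlt_tw_self hMX hx]; exact h0
    exact ⟨⟨tw (hXM hx) θ0, fun s hs => (st_tw_iff (hXM hx) θ0).2 (hxT s hs).2,
      over_of_invariant hLM hMX hν χ hχν h1⟩, h1⟩
  · rintro ⟨χ, hχp, hχν⟩ ⟨θ, hθS, hθν⟩ hθ ⟨θ', hθS', hθν'⟩
    constructor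
    · intro hθ'
      obtain ⟨x, hx, rfl⟩ := exists_conj hMX hXM χ hθ hθ'
      obtain ⟨t, ht, htn⟩ := hS.frattini (T := X ⊓ st (θ : M → ℂ)) (le_inf hS.le hθS) inf_le_left hx
        fun s hs => ⟨X.mul_mem (X.mul_mem hx (hS.le hs)) (X.inv_mem hx),
          (st_tw_iff (hXM hx) θ).1 (hθS' hs)⟩
      refine ⟨t * x, mul_mem (hXM ht.1) (hXM hx), mul_mem ht.1 hx, htn, ?_⟩
      show tw (mul_mem (hXM ht.1) (hXM hx)) θ = tw (hXM hx) θ
      rw [← tw_tw (hXM hx) (hXM ht.1) θ, (tw_eq_iff (hXM ht.1) θ).2 ht.2]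
    · rintro ⟨n, hn, hnX, -, rfl⟩
      show mlt (χ : X → ℂ) (tw hn θ : M → ℂ) ≠ 0
      rw [mlt_tw_self hMX hnX]
      exact hθ

end H87.McKay
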