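import Cfsg.Agent.H13.Gallagher
import Cfsg.Agent.H13.Correspondence
import Cfsg.Agent.H15.Extension
import Cfsg.Agent.H12.Transport
import Cfsg.Agent.H12.InvConstituents
import Cfsg.Agent.H12.Integral

/-!
# Characters of subgroups of one ambient group

Characters of a subgroup are read as functions on the ambient group, so that restriction
is free; Clifford, Gallagher and cyclic extension are restated in that language.
-/

set_option autoImplicit false
set_option linter.unusedSectionVars false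
set_option linter.unusedVariables false
set_option linter.style.haveILetI false

open Cfsg
open scoped ComplexConjugate

namespace H87.McKay

attribute [local instance high] Fintype.ofFinite

universe u

variable {G : Type u} [Group G] [Finite G]

/-- A function on a subgroup read on the ambient group. -/
noncomputable def cf {D : Subgroup G} (f : D → ℂ) : G → ℂ := extendByZero D f

theorem cf_coe {D : Subgroup G} (f : D → ℂ) (d : D) : cf f (d : G) = f d :=
  Subtype.val_injective.extend_apply _ _ d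

theorem cf_apply {D : Subgroup G} (f : D → ℂ) {g : G} (h : g ∈ D) : cf f g = f ⟨g, h⟩ :=
  cf_coe f ⟨g, h⟩

theorem irr_ext {D : Subgroup G} {χ χ' : IrrCharacter D}
    (h : ∀ g ∈ D, cf (χ : D → ℂ) g = cf (χ' : D → ℂ) g) : χ = χ' :=
  Subtype.ext (funext fun d => by rw [← cf_coe (χ : D → ℂ) d, h d d.2, cf_coe])

theorem cf_conj {D : Subgroup G} (χ : IrrCharacter D) {d : G} (hd : d ∈ D) {x : G} (hx : x ∈ D) :
    cf (χ : D → ℂ) (d * x * d⁻¹) = cf (χ : D → ℂ) x := by
  rw [cf_apply _ (mul_mem (mul_mem hd hx) (inv_mem hd)), cf_apply _ hx]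
  exact H12.irr_isClassFunction χ ⟨x, hx⟩ ⟨d, hd⟩

/-- The inner product on a subgroup. -/
noncomputable def ip (D : Subgroup G) (f f' : G → ℂ) : ℂ :=
  classInner (fun d : D => f d) (fun d : D => f' d)

theorem ip_cf {D : Subgroup G} (f f' : D → ℂ) : ip D (cf f) (cf f') = classInner f f' := by
  simp only [ip, cf_coe]

theorem ip_congr {D : Subgroup G} {f g f' g' : G → ℂ} (h : ∀ d ∈ D, f d = g d)
    (h' : ∀ d ∈ D, f' d = g' d) : ip D f f' = ip D g g' := by
  simp only [ip, h _ (Subtype.prop _), h' _ (Subtype.prop _)]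

/-- The multiplicity of `θ` in the restriction of `f`. -/
noncomputable def mlt {A D : Subgroup G} (f : D → ℂ) (θ : A → ℂ) : ℕ :=
  ⌊(ip A (cf f) (cf θ)).re⌋₊

variable {A D : Subgroup G}

theorem isCharacter_res (h : A ≤ D) {χ : D → ℂ} (hχ : IsCharacter D χ) :
    IsCharacter A (fun a : A => cf χ a) := by
  have e : (fun a : A => cf χ a) = χ ∘ Subgroup.inclusion h :=
    funext fun a => cf_apply χ (h a.2)
  rw [e]
  exact H12.IsCharacter.comp hχ _

theorem mlt_spec (h : A ≤ D) (χ : IrrCharacter D) (θ : IrrCharacter A) :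
    ip A (cf (χ : D → ℂ)) (cf (θ : A → ℂ)) = (mlt (χ : D → ℂ) (θ : A → ℂ) : ℂ) := by
  obtain ⟨m, hm⟩ := H12.IsCharacter.classInner_nat (isCharacter_res h (H12.isCharacter_irr χ))
    (H12.isCharacter_irr θ)
  have e : ip A (cf (χ : D → ℂ)) (cf (θ : A → ℂ)) = (m : ℂ) := by
    rw [← hm]
    simp only [ip, cf_coe]
  rw [mlt, e]
  simp

theorem mlt_ne_zero_iff (h : A ≤ D) (χ : IrrCharacter D) (θ : IrrCharacter A) :
    mlt (χ : D → ℂ) (θ : A → ℂ) ≠ 0 ↔ ip A (cf (χ : D → ℂ)) (cf (θ : A → ℂ)) ≠ 0 := by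
  rw [mlt_spec h, Nat.cast_ne_zero]

theorem res_eq_sum (h : A ≤ D) (χ : IrrCharacter D) {a : G} (ha : a ∈ A) :
    cf (χ : D → ℂ) a =
      ∑ θ : IrrCharacter A, (mlt (χ : D → ℂ) (θ : A → ℂ) : ℂ) * cf (θ : A → ℂ) a := by
  have hc := H12.IsCharacter.isClassFunction (isCharacter_res h (H12.isCharacter_irr χ))
  have e := H12.classFunction_apply_eq_sum hc ⟨a, ha⟩
  refine e.trans (Finset.sum_congr rfl fun θ _ => ?_)
  rw [← mlt_spec h, cf_apply _ ha]
  simp only [ip, cf_coe]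

theorem mlt_self (χ χ' : IrrCharacter D) [Decidable (χ = χ')] :
    mlt (χ : D → ℂ) (χ' : D → ℂ) = if χ = χ' then 1 else 0 := by
  rw [mlt, ip_cf]
  split_ifs with h
  · subst h; simp [H12.classInner_irr_self]
  · simp [H12.classInner_irr_ne h]

theorem exists_mlt_ne_zero (h : A ≤ D) (χ : IrrCharacter D) :
    ∃ θ : IrrCharacter A, mlt (χ : D → ℂ) (θ : A → ℂ) ≠ 0 := by
  by_contra hcon
  push Not at hcon
  have h1 := res_eq_sum h χ A.one_mem
  simp only [hcon, Nat.cast_zero, zero_mul, Finset.sum_const_zero, cf_apply _ D.one_mem] at h1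
  exact H12.irr_apply_one_ne_zero χ h1

/-- The stabiliser of a character of a subgroup. -/
def st {A : Subgroup G} (θ : A → ℂ) : Subgroup G where
  carrier := {x | x ∈ Subgroup.normalizer (A : Set G) ∧ ∀ a ∈ A, cf θ (x * a * x⁻¹) = cf θ a}
  one_mem' := ⟨Subgroup.one_mem _, fun a _ => by simp⟩
  mul_mem' := by
    rintro x y ⟨hx, hx'⟩ ⟨hy, hy'⟩
    refine ⟨mul_mem hx hy, fun a ha => ?_⟩
    rw [show x * y * a * (x * y)⁻¹ = x * (y * a * y⁻¹) * x⁻¹ by group,
      hx' _ ((Subgroup.mem_normalizer_iff.1 hy a).1 ha), hy' a ha]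
  inv_mem' := by
    rintro x ⟨hx, hx'⟩
    refine ⟨inv_mem hx, fun a ha => ?_⟩
    have hb : x⁻¹ * a * x⁻¹⁻¹ ∈ A := (Subgroup.mem_normalizer_iff.1 (inv_mem hx) a).1 ha
    rw [← hx' _ hb]
    congr 1
    group

theorem mem_st {θ : A → ℂ} {x : G} : x ∈ st θ ↔
    x ∈ Subgroup.normalizer (A : Set G) ∧ ∀ a ∈ A, cf θ (x * a * x⁻¹) = cf θ a := Iff.rfl

theorem st_le (θ : A → ℂ) : st θ ≤ Subgroup.normalizer (A : Set G) := fun _ h => h.1

theorem le_st (θ : IrrCharacter A) : A ≤ st (θ : A → ℂ) := fun _ hx =>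
  ⟨Subgroup.le_normalizer hx, fun _ ha => cf_conj θ hx ha⟩

theorem conj_mem' (hD : D ≤ Subgroup.normalizer (A : Set G)) {d a : G} (hd : d ∈ D) (ha : a ∈ A) :
    d * a * d⁻¹ ∈ A :=
  (Subgroup.mem_normalizer_iff.1 (hD hd) a).1 ha

/-- The conjugate of a character. -/
noncomputable def tw {x : G} (hx : x ∈ Subgroup.normalizer (A : Set G)) (θ : IrrCharacter A) :
    IrrCharacter A :=
  H12.irrCongr
    ({ toFun := fun a => ⟨x * a * x⁻¹, (Subgroup.mem_normalizer_iff.1 hx a).1 a.2⟩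
       invFun := fun a => ⟨x⁻¹ * a * x⁻¹⁻¹, (Subgroup.mem_normalizer_iff.1 (inv_mem hx) a).1 a.2⟩
       left_inv := fun a => Subtype.ext (by simp [mul_assoc])
       right_inv := fun a => Subtype.ext (by simp [mul_assoc])
       map_mul' := fun a b => Subtype.ext (by simp [mul_assoc]) } : A ≃* A) θ

theorem tw_apply {x : G} (hx : x ∈ Subgroup.normalizer (A : Set G)) (θ : IrrCharacter A) {a : G}
    (ha : a ∈ A) : cf (tw hx θ : A → ℂ) a = cf (θ : A → ℂ) (x * a * x⁻¹) := by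
  rw [cf_apply _ ha, cf_apply _ ((Subgroup.mem_normalizer_iff.1 hx a).1 ha)]
  rfl

theorem tw_eq_iff {x : G} (hx : x ∈ Subgroup.normalizer (A : Set G)) (θ : IrrCharacter A) :
    tw hx θ = θ ↔ x ∈ st (θ : A → ℂ) :=
  ⟨fun h => ⟨hx, fun a ha => by rw [← tw_apply hx θ ha, h]⟩,
    fun h => irr_ext fun a ha => by rw [tw_apply hx θ ha, h.2 a ha]⟩

theorem mlt_tw {x : G} (hxA : x ∈ Subgroup.normalizer (A : Set G))
    (hxD : x ∈ Subgroup.normalizer (D : Set G)) (h : A ≤ D) (χ : IrrCharacter D)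
    (θ : IrrCharacter A) :
    mlt (tw hxD χ : D → ℂ) (tw hxA θ : A → ℂ) = mlt (χ : D → ℂ) (θ : A → ℂ) := by
  have key : ip A (cf (tw hxD χ : D → ℂ)) (cf (tw hxA θ : A → ℂ)) =
      ip A (cf (χ : D → ℂ)) (cf (θ : A → ℂ)) := by
    rw [ip_congr (fun d hd => tw_apply hxD χ (h hd)) (fun d hd => tw_apply hxA θ hd), ip, ip,
      H12.classInner_def, H12.classInner_def]
    congr 1
    refine Fintype.sum_bijective
      (fun a : A => (⟨x * a * x⁻¹, (Subgroup.mem_normalizer_iff.1 hxA a).1 a.2⟩ : A)) ?_ _ _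
      fun a => rfl
    refine Finite.injective_iff_bijective.1 fun a b hab => Subtype.ext ?_
    simpa using congrArg Subtype.val hab
  rw [mlt, key, ← mlt]

/-- `θ` seen on the normal subgroup `A.subgroupOf D`. -/
noncomputable def lift (h : A ≤ D) (θ : IrrCharacter A) : IrrCharacter (A.subgroupOf D) :=
  H12.irrCongr (Subgroup.subgroupOfEquivOfLe h) θ

theorem lift_apply (h : A ≤ D) (θ : IrrCharacter A) (n : A.subgroupOf D) :
    (lift h θ : A.subgroupOf D → ℂ) n = cf (θ : A → ℂ) ((n : D) : G) :=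
  (cf_coe (θ : A → ℂ) (Subgroup.subgroupOfEquivOfLe h n)).symm

theorem classInner_lift (h : A ≤ D) (χ : IrrCharacter D) (θ : IrrCharacter A) :
    classInner (fun n : A.subgroupOf D => (χ : D → ℂ) n) (lift h θ : A.subgroupOf D → ℂ) =
      (mlt (χ : D → ℂ) (θ : A → ℂ) : ℂ) := by
  rw [← mlt_spec h, ip, ← H12.classInner_comp_equiv (Subgroup.subgroupOfEquivOfLe h)]
  congr 1
  · funext n
    exact (cf_coe (χ : D → ℂ) (n : D)).symm
  · funext n
    exact lift_apply h θ n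

theorem normal_of_le (hD : D ≤ Subgroup.normalizer (A : Set G)) : (A.subgroupOf D).Normal :=
  ⟨fun n hn d => conj_mem' hD d.2 hn⟩

/-- Clifford: an invariant character is the only constituent. -/
theorem res_eq_mul (h : A ≤ D) {θ : IrrCharacter A} (hst : D ≤ st (θ : A → ℂ)) (χ : IrrCharacter D)
    (hne : mlt (χ : D → ℂ) (θ : A → ℂ) ≠ 0) {a : G} (ha : a ∈ A) :
    cf (χ : D → ℂ) a = (mlt (χ : D → ℂ) (θ : A → ℂ) : ℂ) * cf (θ : A → ℂ) a := by
  haveI := normal_of_le (hst.trans (st_le _))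
  have htw : ∀ x : D, H13.twist (A.subgroupOf D) x (lift h θ : A.subgroupOf D → ℂ) =
      (lift h θ : A.subgroupOf D → ℂ) := fun x => by
    funext n
    rw [H13.twist_apply, lift_apply, lift_apply]
    exact (hst x.2).2 _ n.2
  have hres := H13.clifford_res (A.subgroupOf D) χ.2 (lift h θ).2
    (by rw [classInner_lift]; exact_mod_cast hne) {lift h θ} (fun ψ => by
      rw [Finset.mem_singleton]
      exact ⟨fun e => ⟨1, by rw [htw, e]⟩, fun ⟨x, hx⟩ => Subtype.ext (by rw [← hx, htw])⟩)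
  have h1 := congrFun hres ⟨⟨a, h ha⟩, ha⟩
  rw [Pi.smul_apply, Finset.sum_singleton, classInner_lift, lift_apply, smul_eq_mul] at h1
  rw [cf_apply _ (h ha)]
  exact h1

theorem mlt_eq_zero_of_inv (h : A ≤ D) {θ : IrrCharacter A} (hst : D ≤ st (θ : A → ℂ))
    (χ : IrrCharacter D) (hne : mlt (χ : D → ℂ) (θ : A → ℂ) ≠ 0) {θ' : IrrCharacter A}
    (hne' : θ' ≠ θ) : mlt (χ : D → ℂ) (θ' : A → ℂ) = 0 := by
  have key : ip A (cf (χ : D → ℂ)) (cf (θ' : A → ℂ)) = 0 := by
    rw [ip_congr (fun a ha => res_eq_mul h hst χ hne ha) (fun _ _ => rfl), ip,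
      show (fun d : A => (mlt (χ : D → ℂ) (θ : A → ℂ) : ℂ) * cf (θ : A → ℂ) d) =
        (mlt (χ : D → ℂ) (θ : A → ℂ) : ℂ) • (θ : A → ℂ) by funext d; simp [cf_coe],
      H12.classInner_smul_left]
    simp only [cf_coe]
    rw [H12.classInner_irr_ne hne'.symm, mul_zero]
  by_contra hc
  exact (mlt_ne_zero_iff h χ θ').1 hc key

theorem degree_eq (h : A ≤ D) {θ : IrrCharacter A} (hst : D ≤ st (θ : A → ℂ)) (χ : IrrCharacter D)
    (hne : mlt (χ : D → ℂ) (θ : A → ℂ) ≠ 0) :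
    H12.degree (χ : D → ℂ) = mlt (χ : D → ℂ) (θ : A → ℂ) * H12.degree (θ : A → ℂ) := by
  have := res_eq_mul h hst χ hne A.one_mem
  rw [cf_apply _ D.one_mem, cf_apply _ A.one_mem] at this
  have e : ((H12.degree (χ : D → ℂ) : ℕ) : ℂ) =
      ((mlt (χ : D → ℂ) (θ : A → ℂ) * H12.degree (θ : A → ℂ) : ℕ) : ℂ) := by
    push_cast
    rw [← H12.irr_apply_one, ← H12.irr_apply_one]
    exact this
  exact_mod_cast e

/-- Clifford: any two constituents are conjugate. -/
theorem exists_conj (h : A ≤ D) (hD : D ≤ Subgroup.normalizer (A : Set G)) (χ : IrrCharacter D)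
    {θ φ : IrrCharacter A} (hθ : mlt (χ : D → ℂ) (θ : A → ℂ) ≠ 0)
    (hφ : mlt (χ : D → ℂ) (φ : A → ℂ) ≠ 0) :
    ∃ d, ∃ hd : d ∈ D, tw (hD hd) θ = φ := by
  haveI := normal_of_le hD
  by_contra hcon
  push Not at hcon
  have h0 := H13.classInner_res_eq_zero_of_not_conj (A.subgroupOf D) χ.2 (lift h θ).2 (lift h φ).2
    (by rw [classInner_lift]; exact_mod_cast hθ) fun x hx => hcon x x.2 (irr_ext fun a ha => by
      have := congrFun hx ⟨⟨a, h ha⟩, ha⟩
      rw [H13.twist_apply, lift_apply, lift_apply] at this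
      rw [tw_apply _ _ ha]
      exact this)
  rw [classInner_lift] at h0
  exact hφ (by exact_mod_cast h0)

/-- `η` extends `θ`. -/
def Extends {A D : Subgroup G} (η : D → ℂ) (θ : A → ℂ) : Prop := ∀ a ∈ A, cf η a = cf θ a

/-- Some irreducible character of `D` extends `θ`. -/
def ExtTo {A : Subgroup G} (θ : A → ℂ) (D : Subgroup G) : Prop :=
  ∃ η : IrrCharacter D, Extends (η : D → ℂ) θ

theorem mlt_of_extends (h : A ≤ D) {η : IrrCharacter D} {θ : IrrCharacter A}
    (hη : Extends (η : D → ℂ) (θ : A → ℂ)) : mlt (η : D → ℂ) (θ : A → ℂ) = 1 := by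
  rw [mlt, ip_congr hη (fun _ _ => rfl), ip_cf, H12.classInner_irr_self]
  simp

theorem mem_st_of_extends {η : IrrCharacter D} {θ : IrrCharacter A} (h : A ≤ D)
    (hD : D ≤ Subgroup.normalizer (A : Set G)) (hη : Extends (η : D → ℂ) (θ : A → ℂ)) :
    D ≤ st (θ : A → ℂ) := fun d hd => ⟨hD hd, fun a ha => by
  rw [← hη _ (conj_mem' hD hd ha), ← hη a ha, cf_conj η hd (h ha)]⟩

/-- Multiplication by a linear character. -/
noncomputable def lm (f : D →* ℂˣ) (η : IrrCharacter D) : IrrCharacter D := H12.InvConst.mulHom f η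

theorem lm_apply (f : D →* ℂˣ) (η : IrrCharacter D) {g : G} (hg : g ∈ D) :
    cf (lm f η : D → ℂ) g = (f ⟨g, hg⟩ : ℂ) * cf (η : D → ℂ) g := by
  rw [cf_apply _ hg, cf_apply _ hg]
  rfl

theorem gallagher [(A.subgroupOf D).Normal] (h : A ≤ D) {η : IrrCharacter D}
    {θ : IrrCharacter A} (hη : Extends (η : D → ℂ) (θ : A → ℂ)) (φ : IrrCharacter D)
    (hφ : mlt (φ : D → ℂ) (θ : A → ℂ) ≠ 0) :
    ∃ β : IrrCharacter (D ⧸ A.subgroupOf D), ∀ d : D, (φ : D → ℂ) d =
      (H13.inflateIrr (A.subgroupOf D) β : D → ℂ) d * (η : D → ℂ) d := by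
  have hres : (fun n : A.subgroupOf D => (η : D → ℂ) n) = (lift h θ : A.subgroupOf D → ℂ) :=
    funext fun n => by rw [lift_apply, ← hη ((n : D) : G) n.2]; exact (cf_coe _ _).symm
  obtain ⟨β, hβ⟩ := H13.gallagher_exists (A.subgroupOf D) (H12.isCharacter_irr η)
    (by rw [hres]; exact (lift h θ).2) φ.2 (by
      rw [hres, classInner_lift]
      exact_mod_cast hφ)
  exact ⟨β, fun d => congrFun hβ d⟩

/-- With abelian quotient, all characters over `θ` differ from an extension by linear characters. -/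
theorem gallagher_abelian (h : A ≤ D) (hD : D ≤ Subgroup.normalizer (A : Set G))
    (hab : ∀ a ∈ D, ∀ b ∈ D, a * b * a⁻¹ * b⁻¹ ∈ A) {η : IrrCharacter D}
    {θ : IrrCharacter A} (hη : Extends (η : D → ℂ) (θ : A → ℂ)) (φ : IrrCharacter D)
    (hφ : mlt (φ : D → ℂ) (θ : A → ℂ) ≠ 0) :
    ∃ f : D →* ℂˣ, (∀ d : D, (d : G) ∈ A → f d = 1) ∧ φ = lm f η := by
  haveI := normal_of_le hD
  obtain ⟨β, hβ⟩ := gallagher h hη φ hφ
  have hcomm : ∀ a b : D ⧸ A.subgroupOf D, a * b = b * a := fun a b => by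
    obtain ⟨a, rfl⟩ := QuotientGroup.mk_surjective a
    obtain ⟨b, rfl⟩ := QuotientGroup.mk_surjective b
    rw [← QuotientGroup.mk_mul, ← QuotientGroup.mk_mul, QuotientGroup.eq]
    show ((a * b)⁻¹ * (b * a) : D).1 ∈ A
    have := hab _ (inv_mem b.2) _ (inv_mem a.2)
    simpa [mul_assoc] using this
  obtain ⟨f, hf⟩ := H12.exists_monoidHom_of_apply_one_eq_one (H12.isCharacter_irr β)
    (H12.irr_apply_one_of_comm hcomm β)
  refine ⟨f.comp (QuotientGroup.mk' _), fun d hd => ?_, Subtype.ext (funext fun d => ?_)⟩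
  · rw [MonoidHom.comp_apply, QuotientGroup.mk'_apply,
      (QuotientGroup.eq_one_iff (N := A.subgroupOf D) d).2 hd, map_one]
  · rw [hβ d, H13.inflateIrr_apply, ← congrFun hf]
    rfl

theorem extends_lm {η : IrrCharacter D} {θ : IrrCharacter A} (h : A ≤ D) {f : D →* ℂˣ}
    (hf : ∀ d : D, (d : G) ∈ A → f d = 1) (hη : Extends (η : D → ℂ) (θ : A → ℂ)) :
    Extends (lm f η : D → ℂ) (θ : A → ℂ) := fun a ha => by
  rw [lm_apply f η (h ha), hf ⟨a, h ha⟩ ha, hη a ha]
  simp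

/-- A linear character fixing an extension is trivial. -/
theorem lm_injective (h : A ≤ D) (hD : D ≤ Subgroup.normalizer (A : Set G))
    {η : IrrCharacter D} {θ : IrrCharacter A} (hη : Extends (η : D → ℂ) (θ : A → ℂ))
    {f : D →* ℂˣ} (hf : ∀ d : D, (d : G) ∈ A → f d = 1) (he : lm f η = η) : f = 1 := by
  haveI := normal_of_le hD
  have hres : (fun n : A.subgroupOf D => (η : D → ℂ) n) = (lift h θ : A.subgroupOf D → ℂ) :=
    funext fun n => by rw [lift_apply, ← hη ((n : D) : G) n.2]; exact (cf_coe _ _).symm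
  let f' : (D ⧸ A.subgroupOf D) →* ℂˣ := QuotientGroup.lift _ f fun d hd => hf d hd
  have key := H13.gallagher_injective (A.subgroupOf D) (H12.isCharacter_irr η)
    (by rw [hres]; exact (lift h θ).2) (β := H12.linIrr f') (γ := H12.linIrr 1) (by
      funext d
      have := congrFun (congrArg Subtype.val he) d
      simp only [Pi.mul_apply, H13.inflateIrr_apply, H12.linIrr_apply, MonoidHom.one_apply,
        Units.val_one, one_mul]
      exact this)
  refine MonoidHom.ext fun d => ?_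
  have := DFunLike.congr_fun (H12.linIrr_injective key) (QuotientGroup.mk d)
  exact this

/-- Extension to a cyclic step. -/
theorem exists_extend_cyclic (hAD : A ≤ D) {θ : IrrCharacter A} (hst : D ≤ st (θ : A → ℂ))
    {g : G} (hgen : D ≤ A ⊔ Subgroup.zpowers g) (hg : g ∈ D) : ExtTo (θ : A → ℂ) D := by
  haveI := normal_of_le (hst.trans (st_le _))
  obtain ⟨d, ρ, hρ, hρθ⟩ := (lift hAD θ).2
  haveI := hρ
  have hnorm : Subgroup.zpowers g ≤ Subgroup.normalizer (A : Set G) :=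
    Subgroup.zpowers_le.2 (hst hg).1
  have hcyc : IsCyclic (D ⧸ A.subgroupOf D) := by
    refine ⟨⟨QuotientGroup.mk ⟨g, hg⟩, fun x => ?_⟩⟩
    obtain ⟨x, rfl⟩ := QuotientGroup.mk_surjective x
    have hx : (x : G) ∈ (((A ⊔ Subgroup.zpowers g : Subgroup G)) : Set G) := hgen x.2
    rw [Subgroup.coe_mul_of_right_le_normalizer_left _ _ hnorm] at hx
    obtain ⟨a, ha, _, ⟨k, rfl⟩, he⟩ := hx
    refine ⟨k, ?_⟩
    show (QuotientGroup.mk ⟨g, hg⟩ : D ⧸ A.subgroupOf D) ^ k = QuotientGroup.mk x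
    rw [← QuotientGroup.mk_zpow, QuotientGroup.eq, Subgroup.mem_subgroupOf]
    push_cast
    rw [← he]
    simp only
    rw [← mul_assoc]
    have := conj_mem' (hst.trans (st_le _)) (inv_mem (zpow_mem hg k)) ha
    simpa using this
  obtain ⟨χ, hχ, hχρ⟩ := H15.extends_of_cyclic (ρ := ρ) (fun x r => by
    rw [hρθ, lift_apply, lift_apply]
    have e : ((MulAut.conjNormal x r : A.subgroupOf D) : D) = x * r * x⁻¹ := by simp
    rw [e]
    exact (hst x.2).2 _ r.2) hcyc
  refine ⟨⟨χ, hχ⟩, fun a ha => ?_⟩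
  have := hχρ ⟨⟨a, hAD ha⟩, ha⟩
  rw [hρθ, lift_apply] at this
  rw [cf_apply _ (hAD ha)]
  exact this

/-- The sum of the squares of the multiplicities. -/
theorem sum_mlt_sq (h : A ≤ D) {θ : IrrCharacter A} (hst : D ≤ st (θ : A → ℂ)) :
    ∑ χ : IrrCharacter D, mlt (χ : D → ℂ) (θ : A → ℂ) * mlt (χ : D → ℂ) (θ : A → ℂ) =
      A.relIndex D := by
  haveI := normal_of_le (hst.trans (st_le _))
  have hdec := H12.classFunction_eq_sum
    (H12.indFun_isClassFunction (A.subgroupOf D) (lift h θ : A.subgroupOf D → ℂ))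
  have hcoef : ∀ χ : IrrCharacter D,
      classInner (indFun (A.subgroupOf D) (lift h θ : A.subgroupOf D → ℂ)) (χ : D → ℂ) =
        (mlt (χ : D → ℂ) (θ : A → ℂ) : ℂ) := fun χ => by
    rw [H12.classInner_indFun _ _ (H12.irr_isClassFunction χ), ← H12.conj_classInner,
      classInner_lift]
    simp
  simp only [hcoef] at hdec
  have h1 := congrFun hdec 1
  rw [H12.indFun_one, Finset.sum_apply] at h1
  simp only [Pi.smul_apply, smul_eq_mul, lift_apply, OneMemClass.coe_one, cf_apply _ A.one_mem] at h1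
  have hθ0 : (θ : A → ℂ) 1 ≠ 0 := H12.irr_apply_one_ne_zero θ
  have h2 : ∀ χ : IrrCharacter D, (mlt (χ : D → ℂ) (θ : A → ℂ) : ℂ) * (χ : D → ℂ) 1 =
      ((mlt (χ : D → ℂ) (θ : A → ℂ) * mlt (χ : D → ℂ) (θ : A → ℂ) : ℕ) : ℂ) *
        (θ : A → ℂ) 1 := fun χ => by
    by_cases hne : mlt (χ : D → ℂ) (θ : A → ℂ) = 0
    · simp [hne]
    have := res_eq_mul h hst χ hne A.one_mem
    rw [cf_apply _ D.one_mem, cf_apply _ A.one_mem] at this
    push_cast
    rw [mul_assoc]
    congr 1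
  rw [show (⟨(1 : G), A.one_mem⟩ : A) = 1 from rfl, Finset.sum_congr rfl fun χ _ => h2 χ,
    ← Finset.sum_mul, ← Nat.cast_sum] at h1
  have h3 := mul_right_cancel₀ hθ0 h1
  exact_mod_cast h3.symm

end H87.McKay
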