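import Cfsg.Agent.H87.McKay.Orbit
import Cfsg.Agent.H14.GallagherExt

/-!
# The canonical extension to a semidirect product with a `p`-group and its linear twists
-/

set_option autoImplicit false
set_option linter.unusedSectionVars false
set_option linter.unusedVariables false
set_option linter.style.haveILetI false

open Cfsg
open scoped ComplexConjugate

namespace H87.McKay

attribute [local instance high] Fintype.ofFinite

universe u

theorem detChar_comp_equiv {A B : Type u} [Group A] [Finite A] [Group B] [Finite B] (e : A ≃* B)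
    {χ : B → ℂ} (hχ : IsIrrCharacter B χ) (a : A) :
    detChar (χ ∘ e) a = detChar χ (e a) := by
  obtain ⟨d, ρ, hρ, hρχ⟩ := hχ
  haveI := hρ
  obtain ⟨d', σ, hσ, hσχ⟩ := H12.IsIrrCharacter.comp_surjective (f := e.toMonoidHom)
    (⟨d, ρ, hρ, hρχ⟩ : IsIrrCharacter B χ) e.surjective
  haveI := hσ
  have hσ' : σ.character = χ ∘ e := hσχ
  rw [H14.detChar_eq σ hσ', H14.detChar_eq ρ hρχ]
  refine (H14.det_eq_of_char_eq σ (MonoidHom.comp ρ e.toMonoidHom : Representation ℂ A (Fin d → ℂ))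
    ?_ a).symm
  funext x
  rw [hσ', Function.comp_apply, ← hρχ]
  rfl

theorem detOrder_dvd_card {A : Type u} [Group A] [Finite A] {χ : A → ℂ} (hχ : IsIrrCharacter A χ) :
    detOrder χ ∣ Nat.card A := by
  obtain ⟨f, hf⟩ := H14.detChar_hom hχ
  refine orderOf_dvd_of_pow_eq_one (funext fun a => ?_)
  rw [Pi.pow_apply, hf, Pi.one_apply, ← Units.val_pow_eq_pow_val, ← map_pow, pow_card_eq_one',
    map_one, Units.val_one]

variable {G : Type u} [Group G] [Finite G] {p : ℕ} [hp : Fact p.Prime]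
variable {M0 S : Subgroup G}

theorem sdec (hSM : S ≤ Subgroup.normalizer (M0 : Set G)) {k : G} (hk : k ∈ M0 ⊔ S) :
    ∃ m ∈ M0, ∃ s ∈ S, m * s = k := by
  have hk' : k ∈ ((M0 ⊔ S : Subgroup G) : Set G) := hk
  rw [Subgroup.coe_mul_of_right_le_normalizer_left _ _ hSM] at hk'
  exact hk'

theorem sdec_unique (hd : M0 ⊓ S = ⊥) {m m' s s' : G} (hm : m ∈ M0) (hm' : m' ∈ M0) (hs : s ∈ S)
    (hs' : s' ∈ S) (h : m * s = m' * s') : m = m' ∧ s = s' := by
  have h1 : m'⁻¹ * m = s' * s⁻¹ := by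
    rw [eq_mul_inv_iff_mul_eq, mul_assoc, h, inv_mul_cancel_left]
  have h2 : m'⁻¹ * m ∈ M0 ⊓ S :=
    Subgroup.mem_inf.2 ⟨M0.mul_mem (M0.inv_mem hm') hm, h1 ▸ S.mul_mem hs' (S.inv_mem hs)⟩
  rw [hd, Subgroup.mem_bot] at h2
  exact ⟨(inv_mul_eq_one.1 h2).symm, (mul_inv_eq_one.1 (h1 ▸ h2)).symm⟩

theorem inf_eq_bot_of_coprime (hS : IsPGroup p S) (hM : ¬ p ∣ Nat.card M0) : M0 ⊓ S = ⊥ := by
  obtain ⟨i, hi⟩ := IsPGroup.iff_card.1 (hS.to_le (inf_le_right (a := M0)))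
  rw [← Subgroup.card_eq_one]
  rcases Nat.eq_zero_or_pos i with rfl | hi0
  · rw [hi, pow_zero]
  · exact absurd ((dvd_pow_self p hi0.ne').trans
      (hi ▸ Subgroup.card_dvd_of_le (inf_le_left (b := S)))) hM

variable (hSM : S ≤ Subgroup.normalizer (M0 : Set G)) (hS : IsPGroup p S)
  (hM : ¬ p ∣ Nat.card M0)

/-- The projection to the complement. -/
noncomputable def proj : (M0 ⊔ S : Subgroup G) →* S :=
  MonoidHom.mk'
    (fun k => ⟨(sdec hSM k.2).choose_spec.2.choose, (sdec hSM k.2).choose_spec.2.choose_spec.1⟩)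
    fun a b => by
      obtain ⟨hma, hsa, hsa', ea⟩ := (sdec hSM a.2).choose_spec.1,
        (sdec hSM a.2).choose_spec.2.choose_spec.1, (sdec hSM a.2).choose_spec.2.choose_spec.1,
        (sdec hSM a.2).choose_spec.2.choose_spec.2
      obtain ⟨hmb, hsb, eb⟩ := (sdec hSM b.2).choose_spec.1,
        (sdec hSM b.2).choose_spec.2.choose_spec.1, (sdec hSM b.2).choose_spec.2.choose_spec.2
      obtain ⟨hmab, hsab, eab⟩ := (sdec hSM (a * b).2).choose_spec.1,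
        (sdec hSM (a * b).2).choose_spec.2.choose_spec.1,
        (sdec hSM (a * b).2).choose_spec.2.choose_spec.2
      refine Subtype.ext ?_
      refine (sdec_unique (inf_eq_bot_of_coprime hS hM) hmab
        (M0.mul_mem hma ((Subgroup.mem_normalizer_iff.1 (hSM hsa) _).1 hmb)) hsab
        (S.mul_mem hsa hsb) ?_).2
      rw [eab]
      push_cast
      conv_lhs => rw [← ea, ← eb]
      group

include hSM hS hM

theorem proj_eq (k : (M0 ⊔ S : Subgroup G)) {m s : G} (hm : m ∈ M0) (hs : s ∈ S)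
    (h : m * s = k) : proj hSM hS hM k = ⟨s, hs⟩ :=
  Subtype.ext ((sdec_unique (inf_eq_bot_of_coprime hS hM) (sdec hSM k.2).choose_spec.1 hm
    (sdec hSM k.2).choose_spec.2.choose_spec.1 hs
    ((sdec hSM k.2).choose_spec.2.choose_spec.2.trans h.symm)).2)

theorem proj_of_mem_left (k : (M0 ⊔ S : Subgroup G)) (h : (k : G) ∈ M0) : proj hSM hS hM k = 1 :=
  proj_eq hSM hS hM k h S.one_mem (mul_one _)

theorem proj_of_mem_right (k : (M0 ⊔ S : Subgroup G)) (h : (k : G) ∈ S) :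
    proj hSM hS hM k = ⟨k, h⟩ :=
  proj_eq hSM hS hM k M0.one_mem h (one_mul _)

theorem sup_le_normalizer : M0 ⊔ S ≤ Subgroup.normalizer (M0 : Set G) :=
  sup_le Subgroup.le_normalizer hSM

theorem relIndex_sup_pow : ∃ k, M0.relIndex (M0 ⊔ S) = p ^ k := by
  obtain ⟨k, hk⟩ := IsPGroup.iff_card.1 hS
  refine ⟨k, ?_⟩
  have h1 := card_mul_fibre (T := M0 ⊔ S) le_sup_left le_sup_right fun t ht => sdec hSM ht
  rw [inf_eq_bot_of_coprime hS hM, Subgroup.card_bot, one_mul] at h1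
  have h2 := Subgroup.card_mul_index (M0.subgroupOf (M0 ⊔ S))
  rw [Nat.card_congr (Subgroup.subgroupOfEquivOfLe (le_sup_left : M0 ≤ M0 ⊔ S)).toEquiv, h1, hk]
    at h2
  exact Nat.eq_of_mul_eq_mul_left Nat.card_pos h2

omit hSM hS hM

/-- The determinant is trivial on `S`. -/
def DetS (S : Subgroup G) {K : Subgroup G} (η : K → ℂ) : Prop :=
  ∀ k : K, (k : G) ∈ S → detChar η k = 1

include hSM hS hM

theorem can_exists {θ : IrrCharacter M0} (hθ : S ≤ st (θ : M0 → ℂ)) :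
    ∃ η : IrrCharacter (M0 ⊔ S : Subgroup G),
      (Extends (η : ↥(M0 ⊔ S) → ℂ) (θ : M0 → ℂ) ∧ DetS S (η : ↥(M0 ⊔ S) → ℂ)) ∧
      ∀ η' : IrrCharacter (M0 ⊔ S : Subgroup G), Extends (η' : ↥(M0 ⊔ S) → ℂ) (θ : M0 → ℂ) →
        DetS S (η' : ↥(M0 ⊔ S) → ℂ) → η' = η := by
  have hMK : M0 ≤ M0 ⊔ S := le_sup_left
  haveI := normal_of_le (sup_le_normalizer hSM hS hM)
  have hst : M0 ⊔ S ≤ st (θ : M0 → ℂ) := sup_le (le_st θ) hθ
  obtain ⟨j, hj⟩ := relIndex_sup_pow hSM hS hM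
  have hco : ∀ {n : ℕ}, n ∣ Nat.card M0 → Nat.Coprime (M0.relIndex (M0 ⊔ S)) n := fun {n} hn => by
    rw [hj]
    exact (hp.out.coprime_iff_not_dvd.2 fun h => hM (h.trans hn)).pow_left j
  have hcard : Nat.card (M0.subgroupOf (M0 ⊔ S)) = Nat.card M0 :=
    Nat.card_congr (Subgroup.subgroupOfEquivOfLe hMK).toEquiv
  have hd1 : (lift hMK θ : M0.subgroupOf (M0 ⊔ S) → ℂ) 1 = (H12.degree (θ : M0 → ℂ) : ℂ) := by
    rw [lift_apply, cast_degree]; rfl
  obtain ⟨χ, ⟨hχ, hres, hord⟩, huniq⟩ := H14.exists_canonical_extension (M0.subgroupOf (M0 ⊔ S))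
    (lift hMK θ : M0.subgroupOf (M0 ⊔ S) → ℂ) (lift hMK θ).2 (fun g n => by
      rw [lift_apply, lift_apply]
      exact (hst g.2).2 _ n.2) (H12.degree (θ : M0 → ℂ)) hd1
    (Nat.Coprime.mul_right (hco (hcard ▸ detOrder_dvd_card (lift hMK θ).2))
      (hco (H12.irr_degree_dvd_card θ)))
  have hext : ∀ η : IrrCharacter (M0 ⊔ S : Subgroup G),
      Extends (η : ↥(M0 ⊔ S) → ℂ) (θ : M0 → ℂ) ↔
      ∀ n : M0.subgroupOf (M0 ⊔ S), (η : ↥(M0 ⊔ S) → ℂ) n = (lift hMK θ : _ → ℂ) n := by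
    intro η
    constructor
    · intro h n
      rw [lift_apply, ← h ((n : ↥(M0 ⊔ S)) : G) n.2, cf_coe]
    · intro h a ha
      have := h ⟨⟨a, hMK ha⟩, ha⟩
      rw [lift_apply] at this
      rw [cf_apply _ (hMK ha)]
      exact this
  refine ⟨⟨χ, hχ⟩, ⟨(hext _).2 hres, fun k hk => ?_⟩, fun η' he hd' => ?_⟩
  · -- coprime order kills the `p`-group
    obtain ⟨f, hf⟩ := H14.detChar_hom hχ
    have h1 : f k ^ Nat.card M0 = 1 := by
      have h0 : detChar χ ^ Nat.card M0 = 1 := orderOf_dvd_iff_pow_eq_one.1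
        (show detOrder χ ∣ Nat.card M0 from hord ▸ hcard ▸ detOrder_dvd_card (lift hMK θ).2)
      have := congrFun h0 k
      rw [Pi.pow_apply, hf, Pi.one_apply, ← Units.val_pow_eq_pow_val] at this
      exact Units.ext this
    obtain ⟨i, hi⟩ := hS ⟨k, hk⟩
    have h2 : f k ^ p ^ i = 1 := by
      rw [← map_pow, show k ^ p ^ i = 1 from Subtype.ext (by simpa using congrArg Subtype.val hi),
        map_one]
    have h3 := pow_gcd_eq_one.mpr ⟨h1, h2⟩
    rw [(hp.out.coprime_iff_not_dvd.2 hM).symm.pow_right i, pow_one] at h3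
    simp only [hf, h3, Units.val_one]
  · refine Subtype.ext (huniq _ η'.2 ((hext η').1 he) (hco ?_))
    obtain ⟨f, hf⟩ := H14.detChar_hom η'.2
    refine orderOf_dvd_of_pow_eq_one (funext fun k => ?_)
    obtain ⟨m, hm, s, hs, hms⟩ := sdec hSM k.2
    rw [Pi.pow_apply, Pi.one_apply, hf]
    simp only
    rw [show k = (⟨m, hMK hm⟩ : ↥(M0 ⊔ S)) * ⟨s, Subgroup.mem_sup_right hs⟩ from
      Subtype.ext hms.symm, map_mul,
      show f (⟨s, Subgroup.mem_sup_right hs⟩ : ↥(M0 ⊔ S)) = 1 from Units.ext (by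
        have := hd' ⟨s, Subgroup.mem_sup_right hs⟩ hs
        rw [hf] at this
        exact this), mul_one, ← Units.val_pow_eq_pow_val, ← map_pow,
      show (⟨m, hMK hm⟩ : ↥(M0 ⊔ S)) ^ Nat.card M0 = 1 from Subtype.ext (by
        have := congrArg Subtype.val (pow_card_eq_one' (G := M0) (x := ⟨m, hm⟩))
        rw [SubgroupClass.coe_pow] at this ⊢
        exact this),
      map_one, Units.val_one]

/-- The canonical extension. -/
noncomputable def can {θ : IrrCharacter M0} (hθ : S ≤ st (θ : M0 → ℂ)) :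
    IrrCharacter (M0 ⊔ S : Subgroup G) :=
  (can_exists hSM hS hM hθ).choose

theorem can_extends {θ : IrrCharacter M0} (hθ : S ≤ st (θ : M0 → ℂ)) :
    Extends (can hSM hS hM hθ : ↥(M0 ⊔ S) → ℂ) (θ : M0 → ℂ) :=
  (can_exists hSM hS hM hθ).choose_spec.1.1

theorem can_det {θ : IrrCharacter M0} (hθ : S ≤ st (θ : M0 → ℂ)) :
    DetS S (can hSM hS hM hθ : ↥(M0 ⊔ S) → ℂ) :=
  (can_exists hSM hS hM hθ).choose_spec.1.2

theorem can_unique {θ : IrrCharacter M0} (hθ : S ≤ st (θ : M0 → ℂ))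
    {η : IrrCharacter (M0 ⊔ S : Subgroup G)} (h : Extends (η : ↥(M0 ⊔ S) → ℂ) (θ : M0 → ℂ))
    (hd : DetS S (η : ↥(M0 ⊔ S) → ℂ)) : η = can hSM hS hM hθ :=
  (can_exists hSM hS hM hθ).choose_spec.2 η h hd

/-- Central elements of `S` act trivially. -/
theorem can_mul_central {θ : IrrCharacter M0} (hθ : S ≤ st (θ : M0 → ℂ)) {x s : G}
    (hx : x ∈ M0 ⊔ S) (hs : s ∈ S) (hc : ∀ y ∈ M0 ⊔ S, y * s = s * y) :
    cf (can hSM hS hM hθ : ↥(M0 ⊔ S) → ℂ) (x * s) =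
      cf (can hSM hS hM hθ : ↥(M0 ⊔ S) → ℂ) x := by
  set η := can hSM hS hM hθ
  have hd := can_det hSM hS hM hθ
  obtain ⟨d, ρ, hρ, hρη⟩ := η.2
  haveI := hρ
  have hsK : s ∈ M0 ⊔ S := Subgroup.mem_sup_right hs
  obtain ⟨c, hcs⟩ := H12.exists_scalar_of_commute ρ (ρ ⟨s, hsK⟩) fun y => by
    rw [← map_mul, ← map_mul]
    exact congrArg ρ (Subtype.ext (hc y y.2).symm)
  have hdeg : H12.degree (η : ↥(M0 ⊔ S) → ℂ) = d := by
    rw [← hρη, H12.degree_character, Module.finrank_fin_fun]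
  have hdp : ¬ p ∣ d := by
    rw [← hdeg]
    have h2 : H12.degree (η : ↥(M0 ⊔ S) → ℂ) = H12.degree (θ : M0 → ℂ) := by
      have h1 := can_extends hSM hS hM hθ 1 M0.one_mem
      rw [← cast_degree, ← cast_degree] at h1
      exact_mod_cast h1
    rw [h2]
    exact fun h => hM (h.trans (H12.irr_degree_dvd_card θ))
  have h1 : c ^ d = 1 := by
    have := hd ⟨s, hsK⟩ hs
    rw [H14.detChar_eq ρ hρη, hcs, LinearMap.det_smul, Module.finrank_fin_fun, map_one,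
      mul_one] at this
    exact this
  obtain ⟨i, hi⟩ := hS ⟨s, hs⟩
  have hi' : (⟨s, hsK⟩ : ↥(M0 ⊔ S)) ^ p ^ i = 1 :=
    Subtype.ext (by simpa using congrArg Subtype.val hi)
  have hd0 : 0 < d := hdeg ▸ H12.irr_degree_pos η
  have h2 : c ^ p ^ i = 1 := by
    have := congrArg ρ hi'
    rw [map_pow, hcs, smul_pow, one_pow, map_one] at this
    have e := congrArg (LinearMap.trace ℂ (Fin d → ℂ)) this
    rw [map_smul, smul_eq_mul, LinearMap.trace_one, Module.finrank_fin_fun] at e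
    exact mul_right_cancel₀ (Nat.cast_ne_zero.2 hd0.ne') (e.trans (one_mul _).symm)
  have h3 := pow_gcd_eq_one.mpr ⟨h1, h2⟩
  rw [(hp.out.coprime_iff_not_dvd.2 hdp).symm.pow_right i, pow_one] at h3
  rw [h3, one_smul] at hcs
  rw [cf_apply _ (mul_mem hx hsK), cf_apply _ hx, ← hρη,
    show (⟨x * s, mul_mem hx hsK⟩ : ↥(M0 ⊔ S)) = ⟨x, hx⟩ * ⟨s, hsK⟩ from rfl]
  simp only [Representation.character, map_mul, hcs, mul_one]

/-- A twist of the canonical extension. -/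
noncomputable def psi {θ : IrrCharacter M0} (hθ : S ≤ st (θ : M0 → ℂ)) (β : S →* ℂˣ) :
    IrrCharacter (M0 ⊔ S : Subgroup G) :=
  lm (β.comp (proj hSM hS hM)) (can hSM hS hM hθ)

theorem psi_extends {θ : IrrCharacter M0} (hθ : S ≤ st (θ : M0 → ℂ)) (β : S →* ℂˣ) :
    Extends (psi hSM hS hM hθ β : ↥(M0 ⊔ S) → ℂ) (θ : M0 → ℂ) :=
  extends_lm le_sup_left (fun d hd => by
    rw [MonoidHom.comp_apply, proj_of_mem_left hSM hS hM d hd, map_one]) (can_extends hSM hS hM hθ)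

theorem psi_degree {θ : IrrCharacter M0} (hθ : S ≤ st (θ : M0 → ℂ)) (β : S →* ℂˣ) :
    H12.degree (psi hSM hS hM hθ β : ↥(M0 ⊔ S) → ℂ) = H12.degree (θ : M0 → ℂ) := by
  have h1 := psi_extends hSM hS hM hθ β 1 M0.one_mem
  rw [← cast_degree, ← cast_degree] at h1
  exact_mod_cast h1

theorem psi_not_dvd {θ : IrrCharacter M0} (hθ : S ≤ st (θ : M0 → ℂ)) (β : S →* ℂˣ) :
    ¬ p ∣ H12.degree (psi hSM hS hM hθ β : ↥(M0 ⊔ S) → ℂ) := by
  rw [psi_degree hSM hS hM hθ β]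
  exact fun h => hM (h.trans (H12.irr_degree_dvd_card θ))

/-- Every character of degree prime to `p` is a twisted canonical extension. -/
theorem psi_surjective (ψ : IrrCharacter (M0 ⊔ S : Subgroup G))
    (hψ : ¬ p ∣ H12.degree (ψ : ↥(M0 ⊔ S) → ℂ)) :
    ∃ (θ : IrrCharacter M0) (hθ : S ≤ st (θ : M0 → ℂ)) (β : S →* ℂˣ),
      psi hSM hS hM hθ β = ψ := by
  have hMK : M0 ≤ M0 ⊔ S := le_sup_left
  have hn := sup_le_normalizer hSM hS hM
  obtain ⟨θ, hne⟩ := exists_mlt_ne_zero hMK ψ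
  have hdeg : H12.degree (ψ : ↥(M0 ⊔ S) → ℂ) = H12.degree (θ : M0 → ℂ) := by
    obtain ⟨⟨c, hc⟩, h2⟩ := degree_dvd hMK hn ψ hne
    obtain ⟨j, hj⟩ := relIndex_sup_pow hSM hS hM
    rw [hc, Nat.mul_div_cancel_left _ (H12.irr_degree_pos θ), hj] at h2
    obtain ⟨i, -, rfl⟩ := (Nat.dvd_prime_pow hp.out).1 h2
    rcases Nat.eq_zero_or_pos i with rfl | hi
    · rw [hc, pow_zero, mul_one]
    · exact absurd (hc ▸ dvd_mul_of_dvd_right (dvd_pow_self p hi.ne') _) hψ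
  have hext := extends_of_degree_eq hMK ψ hne hdeg
  have hθ : S ≤ st (θ : M0 → ℂ) := le_sup_right.trans (mem_st_of_extends hMK hn hext)
  haveI := normal_of_le hn
  obtain ⟨β', hβ'⟩ := gallagher hMK (can_extends hSM hS hM hθ) ψ hne
  have hcan : H12.degree (can hSM hS hM hθ : ↥(M0 ⊔ S) → ℂ) = H12.degree (θ : M0 → ℂ) := by
    have h1 := can_extends hSM hS hM hθ 1 M0.one_mem
    rw [← cast_degree, ← cast_degree] at h1
    exact_mod_cast h1
  have hone : (β' : ↥(M0 ⊔ S) ⧸ M0.subgroupOf (M0 ⊔ S) → ℂ) 1 = 1 := by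
    have h1 := hβ' 1
    rw [H13.inflateIrr_apply, QuotientGroup.mk_one, H12.irr_apply_one, H12.irr_apply_one
      (can hSM hS hM hθ), hdeg, hcan] at h1
    exact mul_right_cancel₀ (Nat.cast_ne_zero.2 (H12.irr_degree_pos θ).ne')
      (h1.symm.trans (one_mul _).symm)
  obtain ⟨f, hf⟩ := H12.exists_monoidHom_of_apply_one_eq_one (H12.isCharacter_irr β') hone
  refine ⟨θ, hθ, (f.comp (QuotientGroup.mk' _)).comp
    (Subgroup.inclusion (le_sup_right : S ≤ M0 ⊔ S)), Subtype.ext (funext fun k => ?_)⟩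
  rw [hβ' k]
  obtain ⟨m, hm, s, hs, hms⟩ := sdec hSM k.2
  show ((f (QuotientGroup.mk' _ (Subgroup.inclusion _ (proj hSM hS hM k))) : ℂˣ) : ℂ) * _ = _
  congr 1
  rw [H13.inflateIrr_apply, proj_eq hSM hS hM k hm hs hms]
  refine (congrFun hf _).trans (congrArg _ ?_)
  rw [QuotientGroup.mk'_apply, QuotientGroup.eq, Subgroup.mem_subgroupOf]
  show s⁻¹ * (k : G) ∈ M0
  rw [← hms, ← mul_assoc]
  simpa using (Subgroup.mem_normalizer_iff.1 (inv_mem (hSM hs)) m).1 hm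

theorem psi_injective {θ θ' : IrrCharacter M0} (hθ : S ≤ st (θ : M0 → ℂ))
    (hθ' : S ≤ st (θ' : M0 → ℂ)) {β β' : S →* ℂˣ}
    (h : psi hSM hS hM hθ β = psi hSM hS hM hθ' β') : θ = θ' ∧ β = β' := by
  have e : θ = θ' := irr_ext fun a ha => by
    rw [← psi_extends hSM hS hM hθ β a ha, h, psi_extends hSM hS hM hθ' β' a ha]
  subst e
  refine ⟨rfl, ?_⟩
  have hMK : M0 ≤ M0 ⊔ S := le_sup_left
  set f := ((β'.comp (proj hSM hS hM))⁻¹ * β.comp (proj hSM hS hM)) with hf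
  have hfix : lm f (can hSM hS hM hθ) = can hSM hS hM hθ := by
    refine irr_ext fun g hg => ?_
    have e1 := congrArg (fun χ : IrrCharacter ↥(M0 ⊔ S) => cf (χ : ↥(M0 ⊔ S) → ℂ) g) h
    simp only [psi, lm_apply _ _ hg] at e1
    rw [lm_apply _ _ hg, hf, MonoidHom.mul_apply, MonoidHom.inv_apply, Units.val_mul, mul_assoc,
      e1, ← mul_assoc, Units.inv_mul, one_mul]
  have h1 := lm_injective hMK (sup_le_normalizer hSM hS hM) (can_extends hSM hS hM hθ)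
    (fun d hd => by simp [hf, proj_of_mem_left hSM hS hM d hd]) hfix
  refine MonoidHom.ext fun s => ?_
  have h2 := DFunLike.congr_fun h1 (⟨s, Subgroup.mem_sup_right s.2⟩ : ↥(M0 ⊔ S))
  rw [hf, MonoidHom.mul_apply, MonoidHom.inv_apply, MonoidHom.comp_apply, MonoidHom.comp_apply,
    proj_of_mem_right hSM hS hM _ s.2, MonoidHom.one_apply, inv_mul_eq_one] at h2
  exact h2.symm

/-- Conjugation by the normalizer of `S`. -/
theorem psi_tw {θ : IrrCharacter M0} (hθ : S ≤ st (θ : M0 → ℂ)) (β : S →* ℂˣ) {x : G}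
    (hxM : x ∈ Subgroup.normalizer (M0 : Set G)) (hxS : x ∈ Subgroup.normalizer (S : Set G))
    (hxK : x ∈ Subgroup.normalizer ((M0 ⊔ S : Subgroup G) : Set G))
    {θ' : IrrCharacter M0} (hθ' : S ≤ st (θ' : M0 → ℂ)) (he : tw hxM θ = θ')
    {β' : S →* ℂˣ}
    (hβ : ∀ s : S, β' s = β ⟨x * s * x⁻¹, (Subgroup.mem_normalizer_iff.1 hxS _).1 s.2⟩) :
    tw hxK (psi hSM hS hM hθ β) = psi hSM hS hM hθ' β' := by
  have hcan : tw hxK (can hSM hS hM hθ) = can hSM hS hM hθ' := by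
    refine can_unique hSM hS hM hθ' (fun a ha => ?_) fun k hk => ?_
    · rw [tw_apply hxK _ (Subgroup.mem_sup_left ha),
        can_extends hSM hS hM hθ _ ((Subgroup.mem_normalizer_iff.1 hxM a).1 ha), ← he,
        tw_apply hxM θ ha]
    · show detChar ((can hSM hS hM hθ : ↥(M0 ⊔ S) → ℂ) ∘ _) k = 1
      rw [detChar_comp_equiv _ (can hSM hS hM hθ).2]
      exact can_det hSM hS hM hθ _ ((Subgroup.mem_normalizer_iff.1 hxS _).1 hk)
  refine irr_ext fun g hg => ?_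
  have hg' : x * g * x⁻¹ ∈ M0 ⊔ S := (Subgroup.mem_normalizer_iff.1 hxK g).1 hg
  rw [tw_apply hxK _ hg, psi, psi, lm_apply _ _ hg', lm_apply _ _ hg, ← hcan, tw_apply hxK _ hg]
  congr 2
  obtain ⟨m, hm, s, hs, hms⟩ := sdec hSM hg
  rw [MonoidHom.comp_apply, MonoidHom.comp_apply, proj_eq hSM hS hM ⟨g, hg⟩ hm hs hms,
    proj_eq hSM hS hM ⟨x * g * x⁻¹, hg'⟩ (m := x * m * x⁻¹) (s := x * s * x⁻¹)
      ((Subgroup.mem_normalizer_iff.1 hxM m).1 hm) ((Subgroup.mem_normalizer_iff.1 hxS s).1 hs)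
      (by show _ = x * g * x⁻¹; rw [← hms]; group), hβ]

theorem psi_apply_mul {θ : IrrCharacter M0} (hθ : S ≤ st (θ : M0 → ℂ)) (β : S →* ℂˣ) {m s : G}
    (hm : m ∈ M0) (hs : s ∈ S) (hc : ∀ y ∈ M0 ⊔ S, y * s = s * y) :
    cf (psi hSM hS hM hθ β : ↥(M0 ⊔ S) → ℂ) (m * s) = (β ⟨s, hs⟩ : ℂ) * cf (θ : M0 → ℂ) m := by
  have hK : m * s ∈ M0 ⊔ S := mul_mem (Subgroup.mem_sup_left hm) (Subgroup.mem_sup_right hs)
  rw [psi, lm_apply _ _ hK, MonoidHom.comp_apply, proj_eq hSM hS hM ⟨m * s, hK⟩ hm hs rfl,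
    can_mul_central hSM hS hM hθ (Subgroup.mem_sup_left hm) hs hc,
    can_extends hSM hS hM hθ m hm]

end H87.McKay
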