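import Cfsg.Agent.H87.McKay.Orbit

/-!
# The Clifford correspondence for subgroups of one group
-/

set_option autoImplicit false
set_option linter.unusedSectionVars false
set_option linter.unusedVariables false
set_option linter.style.haveILetI false

open Cfsg
open scoped ComplexConjugate

namespace H87.McKay

attribute [local instance high] Fintype.ofFinite

universe u

variable {G : Type u} [Group G] [Finite G] {p : ℕ} [hp : Fact p.Prime]
variable {A D L X T S : Subgroup G}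

theorem classInner_lift_fun (h : A ≤ D) (f : G → ℂ) (θ : IrrCharacter A) :
    classInner (fun n : A.subgroupOf D => f ((n : D) : G)) (lift h θ : A.subgroupOf D → ℂ) =
      ip A f (cf (θ : A → ℂ)) := by
  rw [ip, ← H12.classInner_comp_equiv (Subgroup.subgroupOfEquivOfLe h) (fun a : A => f a)]
  congr 1
  funext n
  exact lift_apply h θ n

theorem st_inf_eq_inertia (hLX : L ≤ X) (hX : X ≤ Subgroup.normalizer (L : Set G))
    (ν : IrrCharacter L) [(L.subgroupOf X).Normal] :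
    (X ⊓ st (ν : L → ℂ)).subgroupOf X =
      H13.inertia (L.subgroupOf X) (lift hLX ν : L.subgroupOf X → ℂ) := by
  ext y
  rw [H13.mem_inertia, Subgroup.mem_subgroupOf, Subgroup.mem_inf]
  constructor
  · rintro ⟨-, -, hy⟩
    funext n
    rw [H13.twist_apply, lift_apply, lift_apply]
    exact hy _ n.2
  · intro hy
    refine ⟨y.2, hX y.2, fun a ha => ?_⟩
    have := congrFun hy ⟨⟨a, hLX ha⟩, ha⟩
    rw [H13.twist_apply, lift_apply, lift_apply] at this
    exact this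

/-- Induction from the stabiliser. -/
theorem clifford_equiv (hLX : L ≤ X) (hX : X ≤ Subgroup.normalizer (L : Set G))
    (ν : IrrCharacter L) (hT : T = X ⊓ st (ν : L → ℂ)) :
    ∃ e : {φ : IrrCharacter T // mlt (φ : T → ℂ) (ν : L → ℂ) ≠ 0} ≃
        {χ : IrrCharacter X // mlt (χ : X → ℂ) (ν : L → ℂ) ≠ 0},
      ∀ φ, H12.degree ((e φ).1 : X → ℂ) = T.relIndex X * H12.degree (φ.1 : T → ℂ) := by
  haveI := normal_of_le hX
  have hTX : T ≤ X := hT ▸ inf_le_left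
  have hLT : L ≤ T := hT ▸ le_inf hLX (le_st ν)
  have hi : T.subgroupOf X = H13.inertia (L.subgroupOf X) (lift hLX ν : L.subgroupOf X → ℂ) :=
    hT ▸ st_inf_eq_inertia hLX hX ν
  have h' : L.subgroupOf X ≤ T.subgroupOf X := fun y hy => hLT hy
  let E := H12.irrCongr (Subgroup.subgroupOfEquivOfLe hTX)
  have hne : ∀ φ : IrrCharacter T,
      classInner (H13.resTo h' (E φ : T.subgroupOf X → ℂ)) (lift hLX ν : L.subgroupOf X → ℂ) =
        (mlt (φ : T → ℂ) (ν : L → ℂ) : ℂ) := fun φ => by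
    rw [← mlt_spec hLT, ← classInner_lift_fun hLX]
    congr 1
    funext n
    exact (cf_apply (φ : T → ℂ) (hLT n.2)).symm
  have hcor := fun φ : {φ : IrrCharacter T // mlt (φ : T → ℂ) (ν : L → ℂ) ≠ 0} =>
    H13.clifford_correspondence (L.subgroupOf X) (lift hLX ν).2 hi h' (E φ.1).2
      (by rw [hne]; exact_mod_cast φ.2)
  have hmem : ∀ φ : {φ : IrrCharacter T // mlt (φ : T → ℂ) (ν : L → ℂ) ≠ 0},
      mlt ((⟨_, (hcor φ).1⟩ : IrrCharacter X) : X → ℂ) (ν : L → ℂ) ≠ 0 := fun φ h0 => by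
    have h1 := classInner_lift hLX (⟨_, (hcor φ).1⟩ : IrrCharacter X) ν
    rw [h0, Nat.cast_zero] at h1
    have h2 := (hcor φ).2
    rw [h1, hne] at h2
    exact φ.2 (by exact_mod_cast h2.symm)
  refine ⟨Equiv.ofBijective (fun φ => (⟨⟨_, (hcor φ).1⟩, hmem φ⟩ :
    {χ : IrrCharacter X // mlt (χ : X → ℂ) (ν : L → ℂ) ≠ 0})) ⟨fun a b h => ?_, fun χ => ?_⟩,
    fun φ => ?_⟩
  · refine Subtype.ext (E.injective (Subtype.ext ?_))
    exact H13.clifford_correspondence_inj (L.subgroupOf X) (lift hLX ν).2 hi h' (E a.1).2 (E b.1).2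
      (by rw [hne]; exact_mod_cast a.2) (by rw [hne]; exact_mod_cast b.2)
      (congrArg (fun z : {χ : IrrCharacter X // mlt (χ : X → ℂ) (ν : L → ℂ) ≠ 0} =>
        (z.1 : X → ℂ)) h)
  · obtain ⟨ψ, hψ, hψne, hind⟩ := H13.clifford_correspondence_exists (L.subgroupOf X)
      (lift hLX ν).2 hi h' χ.1.2 (by rw [classInner_lift]; exact_mod_cast χ.2)
    have hE : E (E.symm ⟨ψ, hψ⟩) = ⟨ψ, hψ⟩ := E.apply_symm_apply _
    refine ⟨⟨E.symm ⟨ψ, hψ⟩, fun h0 => hψne ?_⟩, Subtype.ext (Subtype.ext ?_)⟩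
    · have := hne (E.symm ⟨ψ, hψ⟩)
      rw [hE, h0, Nat.cast_zero] at this
      exact this
    · show indFun (T.subgroupOf X) (E (E.symm ⟨ψ, hψ⟩) : T.subgroupOf X → ℂ) = _
      rw [hE]
      exact hind
  · have h1 : (indFun (T.subgroupOf X) (E φ.1 : T.subgroupOf X → ℂ)) 1 =
        ((T.relIndex X * H12.degree (φ.1 : T → ℂ) : ℕ) : ℂ) := by
      rw [H12.indFun_one, Subgroup.relIndex, Nat.cast_mul, ← H12.irr_apply_one φ.1]
      congr 1
    show ⌊((indFun (T.subgroupOf X) (E φ.1 : T.subgroupOf X → ℂ)) 1).re⌋₊ = _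
    rw [h1, Complex.natCast_re, Nat.floor_natCast]

theorem cnt_stab (hLX : L ≤ X) (hX : X ≤ Subgroup.normalizer (L : Set G)) (ν : IrrCharacter L)
    (hS : IsSyl p S X) (hν : S ≤ st (ν : L → ℂ)) :
    cnt p X (ν : L → ℂ) = cnt p (X ⊓ st (ν : L → ℂ)) (ν : L → ℂ) := by
  obtain ⟨e, he⟩ := clifford_equiv hLX hX ν rfl
  have hi := hS.index_le (T := X ⊓ st (ν : L → ℂ)) (le_inf hS.le hν) inf_le_left
  have hiff : ∀ φ, ¬ p ∣ H12.degree (φ.1 : (X ⊓ st (ν : L → ℂ) : Subgroup G) → ℂ) ↔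
      ¬ p ∣ H12.degree ((e φ).1 : X → ℂ) := fun φ => by
    rw [he, hp.out.dvd_mul]
    tauto
  symm
  refine Nat.card_congr
    { toFun := fun z => ⟨(e ⟨z.1, z.2.2⟩).1, (hiff _).1 z.2.1, (e ⟨z.1, z.2.2⟩).2⟩
      invFun := fun w => ⟨(e.symm ⟨w.1, w.2.2⟩).1,
        (hiff _).2 (by rw [Equiv.apply_symm_apply]; exact w.2.1), (e.symm ⟨w.1, w.2.2⟩).2⟩
      left_inv := fun z => Subtype.ext ?_
      right_inv := fun w => Subtype.ext ?_ }
  · show (e.symm ⟨(e ⟨z.1, z.2.2⟩).1, _⟩).1 = z.1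
    rw [Subtype.coe_eta, Equiv.symm_apply_apply]
  · show (e ⟨(e.symm ⟨w.1, w.2.2⟩).1, _⟩).1 = w.1
    rw [Subtype.coe_eta, Equiv.apply_symm_apply]

theorem card_over_stab (hLX : L ≤ X) (hX : X ≤ Subgroup.normalizer (L : Set G))
    (ν : IrrCharacter L) :
    Nat.card {χ : IrrCharacter X // mlt (χ : X → ℂ) (ν : L → ℂ) ≠ 0} =
      Nat.card {φ : IrrCharacter (X ⊓ st (ν : L → ℂ) : Subgroup G) //
        mlt (φ : (X ⊓ st (ν : L → ℂ) : Subgroup G) → ℂ) (ν : L → ℂ) ≠ 0} := by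
  obtain ⟨e, -⟩ := clifford_equiv hLX hX ν rfl
  exact (Nat.card_congr e).symm

end H87.McKay
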