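import Cfsg.Agent.H87.McKay.Coset

/-!
# Counting the characters over an invariant character by commuting pairs

For `M ⊴ X = M H` and `θ` invariant in `X`, the number of irreducible characters of `X` over `θ`
is `#{(g, x) ∈ H × H : [g, x] ∈ M, g good} / (|H| |M ∩ H|)`.
-/

set_option autoImplicit false
set_option linter.unusedSectionVars false
set_option linter.unusedVariables false
set_option linter.style.haveILetI false

open Cfsg
open scoped ComplexConjugate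

namespace H87.McKay

attribute [local instance high] Fintype.ofFinite

universe u

variable {G : Type u} [Group G] [Finite G]

/-- `θ` extends to every subgroup generated over `M` by `g` and an element commuting with it
modulo `M`. -/
def GoodEl {M : Subgroup G} (θ : M → ℂ) (H : Subgroup G) (g : G) : Prop :=
  ∀ x ∈ H, g * x * g⁻¹ * x⁻¹ ∈ M → ExtTo θ (M ⊔ Subgroup.closure {g, x})

open scoped Classical in
theorem column_count {X : Subgroup G} {u v : G} (hu : u ∈ X) (hv : v ∈ X) :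
    ∑ χ : IrrCharacter X, cf (χ : X → ℂ) u * conj (cf (χ : X → ℂ) v) =
      ∑ x : X, if (x : G) * u * (x : G)⁻¹ = v then (1 : ℂ) else 0 := by
  simp only [cf_apply _ hu, cf_apply _ hv]
  rw [H12.column_orthogonality, Finset.sum_boole]
  by_cases h : IsConj (⟨u, hu⟩ : X) ⟨v, hv⟩
  · rw [if_pos h]
    obtain ⟨c, hc⟩ := isConj_iff.1 h
    norm_cast
    rw [← Fintype.card_coe, ← Nat.card_eq_fintype_card]
    have hc' : (c : G) * u * (c : G)⁻¹ = v := congrArg Subtype.val hc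
    refine Nat.card_congr
      { toFun := fun z => ⟨c * z, Finset.mem_filter.2 ⟨Finset.mem_univ _, ?_⟩⟩
        invFun := fun w => ⟨c⁻¹ * w.1, ?_⟩
        left_inv := fun z => Subtype.ext (by simp)
        right_inv := fun w => Subtype.ext (by simp) }
    · have hz := congrArg Subtype.val (Subgroup.mem_centralizer_singleton_iff.1 z.2)
      push_cast at hz ⊢
      calc (c : G) * (z : X) * u * ((c : G) * (z : X))⁻¹
          = (c : G) * ((z : X) * u) * ((z : X) : G)⁻¹ * (c : G)⁻¹ := by group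
        _ = (c : G) * u * (c : G)⁻¹ := by rw [hz]; group
        _ = v := hc'
    · rw [Subgroup.mem_centralizer_singleton_iff]
      have hw : (w.1 : G) * u * (w.1 : G)⁻¹ = v := by simpa using (Finset.mem_filter.1 w.2).2
      apply Subtype.ext
      push_cast
      calc (c : G)⁻¹ * (w.1 : G) * u = (c : G)⁻¹ * ((w.1 : G) * u * (w.1 : G)⁻¹) * w.1 := by group
        _ = (c : G)⁻¹ * ((c : G) * u * (c : G)⁻¹) * w.1 := by rw [hw, hc']
        _ = u * ((c : G)⁻¹ * w.1) := by group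
  · rw [if_neg h]
    norm_cast
    symm
    rw [Finset.card_eq_zero, Finset.filter_eq_empty_iff]
    exact fun x _ hx => h (isConj_iff.2 ⟨x, Subtype.ext hx⟩)

section CountFormula

variable {M X H : Subgroup G} {θ : IrrCharacter M} (hMX : M ≤ X) (hX : X ≤ st (θ : M → ℂ))
  (hHX : H ≤ X) (hcov : ∀ t ∈ X, ∃ h ∈ H, ∃ m ∈ M, h * m = t)

include hMX hX hHX hcov

theorem sum_norm_coef {c : IrrCharacter X → H → ℂ}
    {η : ∀ g : H, IrrCharacter (M ⊔ Subgroup.zpowers (g : G) : Subgroup G)}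
    (hη : ∀ g : H, Extends (η g : ↥(M ⊔ Subgroup.zpowers (g : G)) → ℂ) (θ : M → ℂ))
    (hc : ∀ χ (g : H), c χ g = coef (χ : X → ℂ) (η g : ↥(M ⊔ Subgroup.zpowers (g : G)) → ℂ))
    (χ : IrrCharacter X) (hne : mlt (χ : X → ℂ) (θ : M → ℂ) ≠ 0) :
    ∑ g : H, c χ g * conj (c χ g) = Nat.card H := by
  have hM0 : (Nat.card M : ℂ) ≠ 0 := by exact_mod_cast Nat.card_pos.ne'
  have h1 := sum_mul_fibre hHX hMX hcov (fun t => cf (χ : X → ℂ) t * conj (cf (χ : X → ℂ) t))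
  have h2 : ∀ g : H, ∑ m : M, cf (χ : X → ℂ) (g * m) * conj (cf (χ : X → ℂ) (g * m)) =
      c χ g * conj (c χ g) * Nat.card M := by
    intro g
    have e := (coef_spec hMX hX (hHX g.2) (hη g) χ).1 hne
    rw [← (coset_inner (hX (hHX g.2)) (hη g) (η g)).2 rfl, Finset.mul_sum]
    refine Finset.sum_congr rfl fun m _ => ?_
    rw [e m m.2, hc, map_mul]
    ring
  have h3 : ∑ t : X, cf (χ : X → ℂ) t * conj (cf (χ : X → ℂ) t) = Nat.card X := by
    simp only [cf_coe]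
    rw [H12.sum_mul_conj_eq_card_mul, H12.classInner_irr_self, mul_one]
  simp only [h2, h3, ← Finset.sum_mul] at h1
  have h4 : ((Nat.card (H ⊓ M : Subgroup G) * Nat.card X : ℕ) : ℂ) =
      ((Nat.card H * Nat.card M : ℕ) : ℂ) := by rw [card_mul_fibre hHX hMX hcov]
  push_cast at h4
  rw [h4] at h1
  exact (mul_right_cancel₀ hM0 h1).symm

theorem coef_eq_zero_of_not_good {g : H} {η : IrrCharacter (M ⊔ Subgroup.zpowers (g : G) : Subgroup G)}
    (hη : Extends (η : ↥(M ⊔ Subgroup.zpowers (g : G)) → ℂ) (θ : M → ℂ))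
    (hg : ¬ GoodEl (θ : M → ℂ) H g) (χ : IrrCharacter X) :
    coef (χ : X → ℂ) (η : ↥(M ⊔ Subgroup.zpowers (g : G)) → ℂ) = 0 := by
  simp only [GoodEl, not_forall] at hg
  obtain ⟨x, hx, hcm, hne⟩ := hg
  by_cases hχ : mlt (χ : X → ℂ) (θ : M → ℂ) = 0
  · exact (coef_spec hMX hX (hHX g.2) hη χ).2 hχ
  by_contra hc0
  apply hne
  have hgs := hX (hHX g.2)
  have hxs := hX (hHX hx)
  have hD2st : M ⊔ Subgroup.closure {(g : G), x} ≤ st (θ : M → ℂ) :=
    sup_le (le_st θ) ((Subgroup.closure_le _).2 (by rintro y (rfl | rfl) <;> assumption))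
  have hxn := st_le _ hxs
  have hxD : x ∈ Subgroup.normalizer ((M ⊔ Subgroup.zpowers (g : G) : Subgroup G) : Set G) := by
    refine Subgroup.mem_normalizer_fintype ?_
    have key : (M ⊔ Subgroup.zpowers (g : G)).map (MulAut.conj x).toMonoidHom ≤
        M ⊔ Subgroup.zpowers (g : G) := by
      rw [Subgroup.map_sup, MonoidHom.map_zpowers]
      refine sup_le ?_ (Subgroup.zpowers_le.2 ?_)
      · rintro _ ⟨a, ha, rfl⟩
        exact Subgroup.mem_sup_left ((Subgroup.mem_normalizer_iff.1 hxn a).1 ha)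
      · show x * (g : G) * x⁻¹ ∈ _
        rw [show x * (g : G) * x⁻¹ = ((g : G) * x * (g : G)⁻¹ * x⁻¹)⁻¹ * g by group]
        exact mul_mem (Subgroup.mem_sup_left (inv_mem hcm)) (mem_cyc M g)
    intro y hy
    exact key ⟨y, hy, rfl⟩
  have hext : Extends (tw hxD η : ↥(M ⊔ Subgroup.zpowers (g : G)) → ℂ) (θ : M → ℂ) := fun a ha => by
    rw [tw_apply hxD η (Subgroup.mem_sup_left ha),
      hη _ ((Subgroup.mem_normalizer_iff.1 hxn a).1 ha), hxs.2 a ha]
  obtain ⟨f, hfM, hf⟩ := gallagher_abelian le_sup_left ((le_normalizer_of_st hgs).trans (st_le _))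
    (cyc_comm hgs) hη (tw hxD η) (by rw [mlt_of_extends le_sup_left hext]; exact one_ne_zero)
  have hspec := (coef_spec hMX hX (hHX g.2) hη χ).1 hχ
  obtain ⟨a, ha⟩ : ∃ a : M, cf (η : ↥(M ⊔ Subgroup.zpowers (g : G)) → ℂ) (g * a) ≠ 0 := by
    by_contra hcon
    push Not at hcon
    have := (coset_inner hgs hη η).2 rfl
    simp only [hcon, zero_mul, Finset.sum_const_zero] at this
    exact Nat.card_pos.ne' (Nat.cast_eq_zero.1 this.symm)
  have hga : (g : G) * a ∈ M ⊔ Subgroup.zpowers (g : G) :=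
    mul_mem (mem_cyc M g) (Subgroup.mem_sup_left a.2)
  obtain ⟨b, hb, hgb⟩ : ∃ b ∈ M, x * ((g : G) * a) * x⁻¹ = g * b := by
    refine ⟨(g : G)⁻¹ * ((g : G) * x * (g : G)⁻¹ * x⁻¹)⁻¹ * g * (x * a * x⁻¹), mul_mem ?_
      ((Subgroup.mem_normalizer_iff.1 hxn _).1 a.2), by group⟩
    have := (Subgroup.mem_normalizer_iff.1 (inv_mem (st_le _ hgs)) _).1 (inv_mem hcm)
    simpa using this
  have e1 : cf (χ : X → ℂ) ((g : G) * b) = cf (χ : X → ℂ) ((g : G) * a) := by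
    rw [← hgb, cf_conj χ (hHX hx) (mul_mem (hHX g.2) (hMX a.2))]
  rw [hspec b hb, hspec a a.2] at e1
  have e2 := mul_left_cancel₀ hc0 e1
  rw [← hgb, ← tw_apply hxD η hga, hf, lm_apply f η hga,
    show (⟨(g : G) * a, hga⟩ : ↥(M ⊔ Subgroup.zpowers (g : G))) =
      ⟨g, mem_cyc M g⟩ * ⟨a, Subgroup.mem_sup_left a.2⟩ from rfl, map_mul,
    hfM ⟨a, Subgroup.mem_sup_left a.2⟩ a.2, mul_one, mul_eq_right₀ ha] at e2
  -- the linear character is trivial, so the extension is invariant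
  have hf1 : ∀ d : ↥(M ⊔ Subgroup.zpowers (g : G)), f d = 1 := by
    intro d
    have hd : (d : G) ∈ ((M ⊔ Subgroup.zpowers (g : G) : Subgroup G) : Set G) := d.2
    rw [Subgroup.coe_mul_of_right_le_normalizer_left _ _
      (Subgroup.zpowers_le.2 (st_le _ hgs))] at hd
    obtain ⟨m, hm, _, ⟨k, rfl⟩, he⟩ := hd
    rw [show d = ⟨m, Subgroup.mem_sup_left hm⟩ * (⟨g, mem_cyc M g⟩ : ↥(M ⊔ Subgroup.zpowers (g : G))) ^ k
      from Subtype.ext (by simpa using he.symm), map_mul, hfM ⟨m, Subgroup.mem_sup_left hm⟩ hm,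
      map_zpow, show f ⟨g, mem_cyc M g⟩ = 1 from Units.ext e2, one_zpow, one_mul]
  have htwη : tw hxD η = η := by
    rw [hf]
    exact Subtype.ext (funext fun d => by
      show (f d : ℂ) * _ = _
      rw [hf1 d, Units.val_one, one_mul])
  have hle : M ⊔ Subgroup.zpowers (g : G) ≤ M ⊔ Subgroup.closure {(g : G), x} :=
    sup_le le_sup_left (Subgroup.zpowers_le.2 (Subgroup.mem_sup_right
      (Subgroup.subset_closure (Or.inl rfl))))
  obtain ⟨E, hE⟩ := exists_extend_cyclic (θ := η) hle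
    (sup_le (le_sup_left.trans (le_st η)) ((Subgroup.closure_le _).2 (by
      rintro y (rfl | rfl)
      · exact le_st η (mem_cyc M g)
      · exact (tw_eq_iff hxD η).1 htwη)))
    (g := x)
    (sup_le (le_sup_left.trans le_sup_left) ((Subgroup.closure_le _).2 (by
      rintro y (rfl | rfl)
      · exact Subgroup.mem_sup_left (mem_cyc M g)
      · exact mem_cyc _ y)))
    (Subgroup.mem_sup_right (Subgroup.subset_closure (Or.inr rfl)))
  exact ⟨E, fun m hm => by rw [hE m (Subgroup.mem_sup_left hm), hη m hm]⟩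

theorem eta_invariant {g : H} {η : IrrCharacter (M ⊔ Subgroup.zpowers (g : G) : Subgroup G)}
    (hη : Extends (η : ↥(M ⊔ Subgroup.zpowers (g : G)) → ℂ) (θ : M → ℂ))
    (hg : GoodEl (θ : M → ℂ) H g) {x : G} (hx : x ∈ X) (hcm : (g : G) * x * (g : G)⁻¹ * x⁻¹ ∈ M)
    {a : G} (ha : a ∈ M) :
    cf (η : ↥(M ⊔ Subgroup.zpowers (g : G)) → ℂ) (x * (g * a) * x⁻¹) =
      cf (η : ↥(M ⊔ Subgroup.zpowers (g : G)) → ℂ) (g * a) := by
  obtain ⟨h, hh, m, hm, rfl⟩ := hcov x hx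
  have hgs := hX (hHX g.2)
  have hMn : ∀ y ∈ X, y ∈ Subgroup.normalizer (M : Set G) := fun y hy => st_le _ (hX hy)
  have hcm' : (g : G) * h * (g : G)⁻¹ * h⁻¹ ∈ M := by
    have h1 : h * ((g : G) * m⁻¹ * (g : G)⁻¹) * h⁻¹ ∈ M :=
      (Subgroup.mem_normalizer_iff.1 (hMn _ (hHX hh)) _).1
        ((Subgroup.mem_normalizer_iff.1 (hMn _ (hHX g.2)) _).1 (inv_mem hm))
    have h2 : h * m * h⁻¹ ∈ M := (Subgroup.mem_normalizer_iff.1 (hMn _ (hHX hh)) _).1 hm
    rw [show (g : G) * h * (g : G)⁻¹ * h⁻¹ =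
      ((g : G) * (h * m) * (g : G)⁻¹ * (h * m)⁻¹) * (h * m * h⁻¹) *
        (h * ((g : G) * m⁻¹ * (g : G)⁻¹) * h⁻¹) by group]
    exact mul_mem (mul_mem hcm h2) h1
  have hD := (le_normalizer_of_st hgs).trans (st_le _)
  have hmD : m ∈ M ⊔ Subgroup.zpowers (g : G) := Subgroup.mem_sup_left hm
  have hgaD : (g : G) * a ∈ M ⊔ Subgroup.zpowers (g : G) :=
    mul_mem (mem_cyc M g) (Subgroup.mem_sup_left ha)
  obtain ⟨b, hb, hgb⟩ : ∃ b ∈ M, m * ((g : G) * a) * m⁻¹ = g * b := by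
    refine ⟨((g : G)⁻¹ * m * g) * a * m⁻¹, mul_mem (mul_mem ?_ ha) (inv_mem hm), by group⟩
    simpa using (Subgroup.mem_normalizer_iff.1 (inv_mem (hMn _ (hHX g.2))) m).1 hm
  rw [show h * m * ((g : G) * a) * (h * m)⁻¹ = h * (m * ((g : G) * a) * m⁻¹) * h⁻¹ by group]
  rw [← cf_conj η hmD hgaD, hgb]
  -- now only `h` acts
  obtain ⟨E, hE⟩ := hg h hh hcm'
  have hDE : M ⊔ Subgroup.zpowers (g : G) ≤ M ⊔ Subgroup.closure {(g : G), h} :=
    sup_le le_sup_left (Subgroup.zpowers_le.2 (Subgroup.mem_sup_right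
      (Subgroup.subset_closure (Or.inl rfl))))
  have hEst : M ⊔ Subgroup.closure {(g : G), h} ≤ st (θ : M → ℂ) :=
    sup_le (le_st θ) ((Subgroup.closure_le _).2 (by
      rintro y (rfl | rfl)
      · exact hgs
      · exact hX (hHX hh)))
  obtain ⟨φ, hφ, hφE⟩ := res_of_extends le_sup_left hDE hEst hE
  obtain ⟨f, hfM, rfl⟩ := gallagher_abelian le_sup_left hD (cyc_comm hgs) hη φ
    (by rw [mlt_of_extends le_sup_left hφ]; exact one_ne_zero)
  have hgb' : h * ((g : G) * b) * h⁻¹ ∈ M ⊔ Subgroup.zpowers (g : G) := by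
    rw [show h * ((g : G) * b) * h⁻¹ = ((g : G) * h * (g : G)⁻¹ * h⁻¹)⁻¹ * g * (h * b * h⁻¹) by
      group]
    exact mul_mem (mul_mem (Subgroup.mem_sup_left (inv_mem hcm')) (mem_cyc M g))
      (Subgroup.mem_sup_left ((Subgroup.mem_normalizer_iff.1 (hMn _ (hHX hh)) b).1 hb))
  have hgb0 : (g : G) * b ∈ M ⊔ Subgroup.zpowers (g : G) :=
    mul_mem (mem_cyc M g) (Subgroup.mem_sup_left hb)
  have key : cf (lm f η : ↥(M ⊔ Subgroup.zpowers (g : G)) → ℂ) (h * ((g : G) * b) * h⁻¹) =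
      cf (lm f η : ↥(M ⊔ Subgroup.zpowers (g : G)) → ℂ) ((g : G) * b) := by
    rw [← hφE _ hgb', ← hφE _ hgb0]
    exact cf_conj E (Subgroup.mem_sup_right (Subgroup.subset_closure (Or.inr rfl))) (hDE hgb0)
  have hfeq : f ⟨h * ((g : G) * b) * h⁻¹, hgb'⟩ = f ⟨(g : G) * b, hgb0⟩ := by
    have hk : ((g : G) * h * (g : G)⁻¹ * h⁻¹)⁻¹ ∈ M := inv_mem hcm'
    have hk2 : h * b * h⁻¹ ∈ M := (Subgroup.mem_normalizer_iff.1 (hMn _ (hHX hh)) b).1 hb
    rw [show (⟨h * ((g : G) * b) * h⁻¹, hgb'⟩ : ↥(M ⊔ Subgroup.zpowers (g : G))) =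
        ⟨_, Subgroup.mem_sup_left hk⟩ * ⟨g, mem_cyc M g⟩ * ⟨_, Subgroup.mem_sup_left hk2⟩ from
      Subtype.ext (by push_cast; group),
      show (⟨(g : G) * b, hgb0⟩ : ↥(M ⊔ Subgroup.zpowers (g : G))) =
        ⟨g, mem_cyc M g⟩ * ⟨b, Subgroup.mem_sup_left hb⟩ from rfl, map_mul, map_mul, map_mul,
      hfM ⟨_, Subgroup.mem_sup_left hk⟩ hk, hfM ⟨_, Subgroup.mem_sup_left hk2⟩ hk2,
      hfM ⟨b, Subgroup.mem_sup_left hb⟩ hb, one_mul]
  rw [lm_apply f η hgb', lm_apply f η hgb0, hfeq] at key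
  exact mul_left_cancel₀ (Units.ne_zero _) key

open scoped Classical in
theorem sum_coef_good {g : H} {η : IrrCharacter (M ⊔ Subgroup.zpowers (g : G) : Subgroup G)}
    (hη : Extends (η : ↥(M ⊔ Subgroup.zpowers (g : G)) → ℂ) (θ : M → ℂ))
    (hg : GoodEl (θ : M → ℂ) H g) :
    (Nat.card (H ⊓ M : Subgroup G) : ℂ) *
      ∑ χ : IrrCharacter X, coef (χ : X → ℂ) (η : ↥(M ⊔ Subgroup.zpowers (g : G)) → ℂ) *
        conj (coef (χ : X → ℂ) (η : ↥(M ⊔ Subgroup.zpowers (g : G)) → ℂ)) =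
      ∑ x : H, if (g : G) * x * (g : G)⁻¹ * (x : G)⁻¹ ∈ M then (1 : ℂ) else 0 := by
  have hgs := hX (hHX g.2)
  have hM0 : (Nat.card M : ℂ) ≠ 0 := by exact_mod_cast Nat.card_pos.ne'
  have hgX : ∀ a : M, (g : G) * a ∈ X := fun a => mul_mem (hHX g.2) (hMX a.2)
  have hMn : ∀ y ∈ X, y ∈ Subgroup.normalizer (M : Set G) := fun y hy => st_le _ (hX hy)
  set e : M → ℂ := fun a => cf (η : ↥(M ⊔ Subgroup.zpowers (g : G)) → ℂ) (g * a) with he
  have hmove : ∀ x : X, ∀ a : M,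
      ((g : G)⁻¹ * ((x : G) * (g * a) * (x : G)⁻¹) ∈ M ↔
        (g : G) * x * (g : G)⁻¹ * (x : G)⁻¹ ∈ M) := by
    intro x a
    have e1 : (g : G)⁻¹ * ((x : G) * (g * a) * (x : G)⁻¹) =
        (g : G)⁻¹ * ((g : G) * x * (g : G)⁻¹ * (x : G)⁻¹)⁻¹ * g * ((x : G) * a * (x : G)⁻¹) := by
      group
    rw [e1, Subgroup.mul_mem_cancel_right _
      ((Subgroup.mem_normalizer_iff.1 (hMn _ x.2) _).1 a.2)]
    have := Subgroup.mem_normalizer_iff.1 (inv_mem (hMn _ (hHX g.2)))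
      (((g : G) * x * (g : G)⁻¹ * (x : G)⁻¹)⁻¹)
    rw [inv_inv] at this
    rw [← this, inv_mem_iff]
  -- the double sum
  have h1 : (Nat.card M : ℂ) * (Nat.card M : ℂ) *
      ∑ χ : IrrCharacter X, coef (χ : X → ℂ) (η : ↥(M ⊔ Subgroup.zpowers (g : G)) → ℂ) *
        conj (coef (χ : X → ℂ) (η : ↥(M ⊔ Subgroup.zpowers (g : G)) → ℂ)) =
      ∑ a : M, ∑ b : M, conj (e a) * e b *
        ∑ x : X, if (x : G) * (g * a) * (x : G)⁻¹ = g * b then (1 : ℂ) else 0 := by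
    rw [Finset.mul_sum]
    simp only [← column_count (hgX _) (hgX _), coef, map_mul, map_inv₀, map_natCast, map_sum,
      Complex.conj_conj, Finset.mul_sum, Finset.sum_mul]
    conv_rhs => rw [Finset.sum_comm]
    rw [Finset.sum_comm (γ := IrrCharacter X)]
    refine Finset.sum_congr rfl fun χ _ => ?_
    rw [Finset.sum_comm]
    refine Finset.sum_congr rfl fun b _ => ?_
    refine Finset.sum_congr rfl fun a _ => ?_
    simp only [he]
    field_simp
    try ring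
  have h2 : ∑ a : M, ∑ b : M, conj (e a) * e b *
      (∑ x : X, if (x : G) * (g * a) * (x : G)⁻¹ = g * b then (1 : ℂ) else 0) =
      (Nat.card M : ℂ) * ∑ x : X, if (g : G) * x * (g : G)⁻¹ * (x : G)⁻¹ ∈ M then (1 : ℂ) else 0 := by
    simp only [Finset.mul_sum]
    rw [Finset.sum_congr rfl fun a _ => Finset.sum_comm, Finset.sum_comm]
    refine Finset.sum_congr rfl fun x _ => ?_
    by_cases hx : (g : G) * x * (g : G)⁻¹ * (x : G)⁻¹ ∈ M
    · rw [if_pos hx, mul_one, ← (coset_inner hgs hη η).2 rfl]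
      refine Finset.sum_congr rfl fun a _ => ?_
      rw [Finset.sum_eq_single (⟨_, (hmove x a).2 hx⟩ : M)]
      · have hinv := eta_invariant hMX hX hHX hcov hη hg x.2 hx a.2
        simp only [he, mul_inv_cancel_left, hinv, if_true, mul_one]
        ring
      · intro b _ hb
        rw [if_neg fun h => hb (Subtype.ext (by simp [h])), mul_zero]
      · simp
    · rw [if_neg hx, mul_zero]
      refine Finset.sum_eq_zero fun a _ => Finset.sum_eq_zero fun b _ => ?_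
      rw [if_neg fun h => hx ((hmove x a).1 (by rw [h, inv_mul_cancel_left]; exact b.2)), mul_zero]
  rw [h2] at h1
  have h3 := sum_mul_fibre hHX hMX hcov
    (fun x => if (g : G) * x * (g : G)⁻¹ * x⁻¹ ∈ M then (1 : ℂ) else 0)
  have h4 : ∀ h : H, ∀ m : M, ((g : G) * ((h : G) * m) * (g : G)⁻¹ * ((h : G) * m)⁻¹ ∈ M ↔
      (g : G) * h * (g : G)⁻¹ * (h : G)⁻¹ ∈ M) := by
    intro h m
    rw [show (g : G) * ((h : G) * m) * (g : G)⁻¹ * ((h : G) * m)⁻¹ =
      ((g : G) * h * (g : G)⁻¹ * (h : G)⁻¹) * ((h : G) * ((g : G) * m * (g : G)⁻¹) * (h : G)⁻¹) *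
        ((h : G) * (m : G)⁻¹ * (h : G)⁻¹) by group]
    have n1 := (Subgroup.mem_normalizer_iff.1 (hMn _ (hHX h.2)) _).1
      ((Subgroup.mem_normalizer_iff.1 (hMn _ (hHX g.2)) _).1 m.2)
    have n2 := (Subgroup.mem_normalizer_iff.1 (hMn _ (hHX h.2)) _).1 (inv_mem m.2)
    rw [Subgroup.mul_mem_cancel_right _ n2, Subgroup.mul_mem_cancel_right _ n1]
  simp only [h4, Finset.sum_const, Finset.card_univ, nsmul_eq_mul, ← Finset.mul_sum] at h3
  rw [← Nat.card_eq_fintype_card] at h3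
  apply mul_left_cancel₀ (mul_ne_zero hM0 hM0)
  rw [← mul_assoc, mul_comm _ (Nat.card (H ⊓ M : Subgroup G) : ℂ), mul_assoc, h1,
    ← mul_assoc, mul_comm _ (Nat.card M : ℂ), mul_assoc, h3, ← mul_assoc]

open scoped Classical in
/-- The count. -/
theorem count_formula :
    Nat.card {χ : IrrCharacter X // mlt (χ : X → ℂ) (θ : M → ℂ) ≠ 0} * Nat.card H *
        Nat.card (H ⊓ M : Subgroup G) =
      Nat.card {z : H × H // (z.1 : G) * z.2 * (z.1 : G)⁻¹ * (z.2 : G)⁻¹ ∈ M ∧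
        GoodEl (θ : M → ℂ) H z.1} := by
  choose η hη using fun g : H => exists_eta (hX (hHX g.2))
  let c : IrrCharacter X → H → ℂ := fun χ g =>
    coef (χ : X → ℂ) (η g : ↥(M ⊔ Subgroup.zpowers (g : G)) → ℂ)
  have key : ∀ g : H, (Nat.card (H ⊓ M : Subgroup G) : ℂ) *
      ∑ χ : IrrCharacter X, c χ g * conj (c χ g) =
      ∑ x : H, if (g : G) * x * (g : G)⁻¹ * (x : G)⁻¹ ∈ M ∧ GoodEl (θ : M → ℂ) H g then (1 : ℂ)
        else 0 := by
    intro g
    by_cases hg : GoodEl (θ : M → ℂ) H g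
    · simp only [c, hg, and_true]
      exact sum_coef_good hMX hX hHX hcov (hη g) hg
    · simp only [c, coef_eq_zero_of_not_good hMX hX hHX hcov (hη g) hg, hg, and_false]
      simp
  have hL : ∑ g : H, ∑ χ : IrrCharacter X, c χ g * conj (c χ g) =
      (Nat.card {χ : IrrCharacter X // mlt (χ : X → ℂ) (θ : M → ℂ) ≠ 0} : ℂ) * Nat.card H := by
    rw [Finset.sum_comm, Nat.card_eq_fintype_card, Fintype.card_subtype]
    rw [Finset.card_filter, Nat.cast_sum, Finset.sum_mul]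
    refine Finset.sum_congr rfl fun χ _ => ?_
    by_cases hχ : mlt (χ : X → ℂ) (θ : M → ℂ) ≠ 0
    · rw [sum_norm_coef hMX hX hHX hcov hη (fun _ _ => rfl) χ hχ]
      simp [hχ]
    · rw [not_not] at hχ
      simp [c, hχ, (coef_spec hMX hX (hHX _) (hη _) χ).2 hχ]
  have hfin : ((Nat.card {χ : IrrCharacter X // mlt (χ : X → ℂ) (θ : M → ℂ) ≠ 0} * Nat.card H *
      Nat.card (H ⊓ M : Subgroup G) : ℕ) : ℂ) =
      (Nat.card {z : H × H // (z.1 : G) * z.2 * (z.1 : G)⁻¹ * (z.2 : G)⁻¹ ∈ M ∧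
        GoodEl (θ : M → ℂ) H z.1} : ℂ) := by
    push_cast
    rw [← hL, mul_comm, Finset.mul_sum]
    simp only [key]
    rw [← Finset.sum_product', Finset.sum_boole, Nat.card_eq_fintype_card, Fintype.card_subtype]
    norm_cast
    congr 1
    ext z
    simp
  exact_mod_cast hfin

end CountFormula

end H87.McKay
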