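import Cfsg.Agent.H87.McKay.Canonical
import Cfsg.Agent.H87.McKay.Clifford
import Cfsg.Agent.H87.McKay.Count
import Cfsg.Agent.H87.McKay.Glau

/-!
# The case of a normal `p'`-section with normalised Sylow product

For `Y` with normal subgroups `M0` (of order prime to `p`) and `M0 S`, the characters of degree
prime to `p` over a central linear character are counted by a formula in terms of pairs
`(θ, β)`, which is carried over to the normalizer of `S` by the Glauberman correspondence.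
-/

set_option autoImplicit false
set_option linter.unusedSectionVars false
set_option linter.unusedVariables false
set_option linter.style.haveILetI false

open Cfsg
open scoped ComplexConjugate

namespace H87.McKay

attribute [local instance high] Fintype.ofFinite

universe u

variable {G : Type u} [Group G] [Finite G] {p : ℕ} [hp : Fact p.Prime]
variable {A X M0 S Y H0 Z : Subgroup G}

theorem degree_linIrr {Z : Subgroup G} (lam : Z →* ℂˣ) :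
    H12.degree (H12.linIrr lam : Z → ℂ) = 1 := by
  simp [H12.degree, H12.linIrr_apply]

theorem central_le_st (hc : ∀ z ∈ Z, ∀ y ∈ X, y * z = z * y) (φ : Z → ℂ) : X ≤ st φ := fun y hy => by
  have e : ∀ z ∈ Z, y * z * y⁻¹ = z := fun z hz => by rw [hc z hz y hy, mul_inv_cancel_right]
  exact ⟨Subgroup.mem_normalizer_fintype fun z hz => by rw [e z hz]; exact hz,
    fun z hz => by rw [e z hz]⟩

/-- Lying over a central linear character. -/
theorem over_linear_iff (hZX : Z ≤ X) (hc : ∀ z ∈ Z, ∀ y ∈ X, y * z = z * y) (lam : Z →* ℂˣ)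
    (χ : IrrCharacter X) :
    mlt (χ : X → ℂ) (H12.linIrr lam : Z → ℂ) ≠ 0 ↔
      ∀ z : Z, cf (χ : X → ℂ) z = (H12.degree (χ : X → ℂ) : ℂ) * (lam z : ℂ) := by
  constructor
  · intro h z
    have hd := degree_eq hZX (central_le_st hc _) χ h
    rw [degree_linIrr, mul_one] at hd
    rw [res_eq_mul hZX (central_le_st hc _) χ h z.2, hd, cf_coe, H12.linIrr_apply]
  · intro h
    rw [mlt_ne_zero_iff hZX, ip_congr
      (g := fun a => (H12.degree (χ : X → ℂ) : ℂ) * cf (H12.linIrr lam : Z → ℂ) a)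
      (fun z hz => by rw [h ⟨z, hz⟩, cf_apply _ hz, H12.linIrr_apply]) (fun _ _ => rfl), ip,
      show (fun d : Z => (H12.degree (χ : X → ℂ) : ℂ) * cf (H12.linIrr lam : Z → ℂ) d) =
        (H12.degree (χ : X → ℂ) : ℂ) • (H12.linIrr lam : Z → ℂ) by funext d; simp [cf_coe],
      H12.classInner_smul_left]
    simp only [cf_coe]
    rw [H12.classInner_irr_self, mul_one, Nat.cast_ne_zero]
    exact (H12.irr_degree_pos χ).ne'

instance finiteLinearHom {A : Type u} [Group A] [Finite A] : Finite (A →* ℂˣ) :=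
  Finite.of_injective _ H12.linIrr_injective

/-- A linear character as a function. -/
def bfun {S : Subgroup G} (β : S →* ℂˣ) : S → ℂ := fun s => (β s : ℂ)

/-- The pairs. -/
abbrev Par (M0 S : Subgroup G) : Type u :=
  {θ : IrrCharacter M0 // S ≤ st (θ : M0 → ℂ)} × (S →* ℂˣ)

/-- The stabiliser of a pair in the complement. -/
def Hq (H0 : Subgroup G) (q : Par M0 S) : Subgroup G :=
  H0 ⊓ st (q.1.1 : M0 → ℂ) ⊓ st (bfun q.2)

/-- Conjugate pairs. -/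
def POrb (H0 : Subgroup G) (q q' : Par M0 S) : Prop :=
  ∃ x ∈ H0, ∃ hx : x ∈ Subgroup.normalizer (M0 : Set G), tw hx q.1.1 = q'.1.1 ∧
    ∀ (s : S) (h : x * s * x⁻¹ ∈ S), q'.2 s = q.2 ⟨_, h⟩

/-- The pairs over a central linear character. -/
def Valid (lam : Z →* ℂˣ) (q : Par M0 S) : Prop :=
  (∀ z : Z, (z : G) ∈ M0 →
      cf (q.1.1 : M0 → ℂ) z = (H12.degree (q.1.1 : M0 → ℂ) : ℂ) * (lam z : ℂ)) ∧
    ∀ (z : Z) (hz : (z : G) ∈ S), q.2 ⟨z, hz⟩ = lam z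

/-- The number of characters attached to a pair. -/
noncomputable def nq (H0 : Subgroup G) (q : Par M0 S) : ℕ :=
  Nat.card {φ : IrrCharacter (M0 ⊔ Hq H0 q : Subgroup G) //
    mlt (φ : ↥(M0 ⊔ Hq H0 q) → ℂ) (q.1.1 : M0 → ℂ) ≠ 0}

/-- The hypotheses. -/
structure Frame (p : ℕ) (M0 S Y H0 : Subgroup G) : Prop where
  leY : M0 ≤ Y
  nM : Y ≤ Subgroup.normalizer (M0 : Set G)
  cop : ¬ p ∣ Nat.card M0
  syl : IsSyl p S Y
  nK : Y ≤ Subgroup.normalizer ((M0 ⊔ S : Subgroup G) : Set G)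
  hH0 : H0 ≤ Y ⊓ Subgroup.normalizer (S : Set G)
  copH : ¬ p ∣ Nat.card H0
  cov : ∀ y ∈ Y, ∃ h ∈ H0, ∃ k ∈ M0 ⊔ S, h * k = y
  hC : M0 ⊓ Subgroup.centralizer (S : Set G) ≤ H0

namespace Frame

variable (F : Frame p M0 S Y H0)
include F

theorem hSM : S ≤ Subgroup.normalizer (M0 : Set G) := F.syl.le.trans F.nM
theorem H0Y : H0 ≤ Y := F.hH0.trans inf_le_left
theorem H0S : H0 ≤ Subgroup.normalizer (S : Set G) := F.hH0.trans inf_le_right
theorem H0M : H0 ≤ Subgroup.normalizer (M0 : Set G) := F.H0Y.trans F.nM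
theorem leK : M0 ⊔ S ≤ Y := sup_le F.leY F.syl.le

theorem H0_inf_K : H0 ⊓ (M0 ⊔ S) ≤ M0 := by
  obtain ⟨j, hj⟩ := relIndex_sup_pow F.hSM F.syl.pgroup F.cop
  exact le_of_coprime inf_le_right le_sup_left (sup_le_normalizer F.hSM F.syl.pgroup F.cop)
    (fun h => F.copH (h.trans (Subgroup.card_dvd_of_le inf_le_left))) hj

theorem H0_inf_M0 : H0 ⊓ M0 = M0 ⊓ Subgroup.centralizer (S : Set G) := by
  refine le_antisymm ?_ (le_inf F.hC inf_le_left)
  rintro x ⟨hx, hxM⟩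
  refine Subgroup.mem_inf.2 ⟨hxM, Subgroup.mem_centralizer_iff.2 fun s hs => ?_⟩
  have h1 : x * s * x⁻¹ * s⁻¹ ∈ M0 ⊓ S := by
    refine Subgroup.mem_inf.2 ⟨?_, S.mul_mem ((Subgroup.mem_normalizer_iff.1 (F.H0S hx) s).1 hs)
      (S.inv_mem hs)⟩
    rw [show x * s * x⁻¹ * s⁻¹ = x * (s * x⁻¹ * s⁻¹) by group]
    exact M0.mul_mem hxM ((Subgroup.mem_normalizer_iff.1 (F.hSM hs) _).1 (M0.inv_mem hxM))
  rw [inf_eq_bot_of_coprime F.syl.pgroup F.cop, Subgroup.mem_bot] at h1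
  have h2 := congrArg (· * (s * x)) h1
  simp only [one_mul] at h2
  rw [← h2]
  group

/-- The character of a pair. -/
noncomputable def chi (q : Par M0 S) : IrrCharacter (M0 ⊔ S : Subgroup G) :=
  psi F.hSM F.syl.pgroup F.cop q.1.2 q.2

theorem chi_injective : Function.Injective F.chi := by
  rintro ⟨⟨θ, hθ⟩, β⟩ ⟨⟨θ', hθ'⟩, β'⟩ h
  obtain ⟨rfl, rfl⟩ := psi_injective F.hSM F.syl.pgroup F.cop hθ hθ' h
  rfl

theorem chi_surjective (ψ : IrrCharacter (M0 ⊔ S : Subgroup G))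
    (h : ¬ p ∣ H12.degree (ψ : ↥(M0 ⊔ S) → ℂ)) : ∃ q, F.chi q = ψ := by
  obtain ⟨θ, hθ, β, e⟩ := psi_surjective F.hSM F.syl.pgroup F.cop ψ h
  exact ⟨(⟨θ, hθ⟩, β), e⟩

/-- The conjugate pair. -/
noncomputable def twPar (q : Par M0 S) {x : G} (hx : x ∈ H0) : Par M0 S :=
  (⟨tw (F.H0M hx) q.1.1, st_inv_tw q.1.2 (F.H0M hx) (F.H0S hx)⟩,
    MonoidHom.mk' (fun s => q.2 ⟨x * s * x⁻¹, (Subgroup.mem_normalizer_iff.1 (F.H0S hx) _).1 s.2⟩)
      fun a b => by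
        rw [← map_mul]
        congr 1
        exact Subtype.ext (by push_cast; group))

theorem porb_iff (q q' : Par M0 S) : POrb H0 q q' ↔ ∃ x, ∃ hx : x ∈ H0, F.twPar q hx = q' := by
  constructor
  · rintro ⟨x, hx, hxM, h1, h2⟩
    exact ⟨x, hx, Prod.ext (Subtype.ext h1) (MonoidHom.ext fun s => (h2 s _).symm)⟩
  · rintro ⟨x, hx, rfl⟩
    exact ⟨x, hx, F.H0M hx, rfl, fun s h => rfl⟩

theorem chi_twPar (q : Par M0 S) {x : G} (hx : x ∈ H0) :
    tw (F.nK (F.H0Y hx)) (F.chi q) = F.chi (F.twPar q hx) :=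
  psi_tw F.hSM F.syl.pgroup F.cop q.1.2 q.2 (F.H0M hx) (F.H0S hx) (F.nK (F.H0Y hx)) _ rfl
    fun s => rfl

theorem mem_Hq_iff (q : Par M0 S) {x : G} (hx : x ∈ H0) : x ∈ Hq H0 q ↔ F.twPar q hx = q := by
  rw [Hq, Subgroup.mem_inf, Subgroup.mem_inf]
  constructor
  · rintro ⟨⟨-, h1⟩, -, h2⟩
    refine Prod.ext (Subtype.ext ((tw_eq_iff (F.H0M hx) _).2 h1)) (MonoidHom.ext fun s => Units.ext ?_)
    have := h2 s s.2
    rw [cf_apply _ ((Subgroup.mem_normalizer_iff.1 (F.H0S hx) _).1 s.2), cf_apply _ s.2] at this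
    exact this
  · intro h
    refine ⟨⟨hx, (tw_eq_iff (F.H0M hx) _).1 (congrArg (fun z : Par M0 S => z.1.1) h)⟩, F.H0S hx,
      fun s hs => ?_⟩
    rw [cf_apply _ ((Subgroup.mem_normalizer_iff.1 (F.H0S hx) _).1 hs), cf_apply _ hs]
    exact congrArg Units.val (DFunLike.congr_fun (congrArg (fun z : Par M0 S => z.2) h) ⟨s, hs⟩)

theorem stab_chi (q : Par M0 S) : Y ⊓ st (F.chi q : ↥(M0 ⊔ S) → ℂ) = (M0 ⊔ S) ⊔ Hq H0 q := by
  refine le_antisymm ?_ (sup_le (le_inf F.leK (le_st _)) fun x hx => ?_)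
  · rintro y ⟨hy, hys⟩
    obtain ⟨h, hh, k, hk, rfl⟩ := F.cov y hy
    refine mul_mem (Subgroup.mem_sup_right ((F.mem_Hq_iff q hh).2 (F.chi_injective ?_)))
      (Subgroup.mem_sup_left hk)
    rw [← F.chi_twPar q hh, tw_eq_iff]
    have := (st (F.chi q : ↥(M0 ⊔ S) → ℂ)).mul_mem hys (Subgroup.inv_mem _ (le_st (F.chi q) hk))
    rwa [mul_inv_cancel_right] at this
  · have hx0 : x ∈ H0 := hx.1.1
    refine Subgroup.mem_inf.2 ⟨F.H0Y hx0, ?_⟩
    rw [← tw_eq_iff (F.nK (F.H0Y hx0)), F.chi_twPar q hx0, (F.mem_Hq_iff q hx0).1 hx]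

/-- The characters over the character of a pair. -/
theorem card_over_chi (q : Par M0 S) :
    Nat.card {χ : IrrCharacter Y // mlt (χ : Y → ℂ) (F.chi q : ↥(M0 ⊔ S) → ℂ) ≠ 0} = nq H0 q := by
  rw [card_over_stab F.leK F.nK]
  set T := Y ⊓ st (F.chi q : ↥(M0 ⊔ S) → ℂ) with hT
  have hTe : T = (M0 ⊔ S) ⊔ Hq H0 q := F.stab_chi q
  have hH : Hq H0 q ≤ H0 := inf_le_left.trans inf_le_left
  have hHn : Hq H0 q ≤ Subgroup.normalizer (M0 : Set G) := hH.trans F.H0M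
  refine card_over_restrict le_sup_left (hTe ▸ le_sup_left) ?_ ?_ ?_ inf_le_right ?_
    (psi_extends F.hSM F.syl.pgroup F.cop q.1.2 q.2)
    (sup_le_normalizer F.hSM F.syl.pgroup F.cop)
  · rw [hTe]
    exact sup_le (le_sup_left.trans le_sup_left) le_sup_right
  · refine le_antisymm ?_ (le_inf le_sup_left le_sup_left)
    rintro y ⟨hy, hyK⟩
    have hy' : y ∈ ((M0 ⊔ Hq H0 q : Subgroup G) : Set G) := hy
    rw [Subgroup.coe_mul_of_right_le_normalizer_left _ _ hHn] at hy'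
    obtain ⟨m, hm, h, hh, rfl⟩ := hy'
    refine M0.mul_mem hm (F.H0_inf_K (Subgroup.mem_inf.2 ⟨hH hh, ?_⟩))
    exact ((M0 ⊔ S).mul_mem_cancel_left (Subgroup.mem_sup_left hm)).1 hyK
  · intro t ht
    rw [hTe, sup_comm] at ht
    have hn : Hq H0 q ≤ Subgroup.normalizer ((M0 ⊔ S : Subgroup G) : Set G) :=
      (hH.trans F.H0Y).trans F.nK
    have ht' : t ∈ ((Hq H0 q ⊔ (M0 ⊔ S) : Subgroup G) : Set G) := ht
    rw [Subgroup.coe_mul_of_left_le_normalizer_right _ _ hn] at ht'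
    obtain ⟨h, hh, k, hk, rfl⟩ := ht'
    exact ⟨h, Subgroup.mem_sup_right hh, k, hk, rfl⟩
  · exact sup_le (le_st _) (inf_le_left.trans inf_le_right)

variable (hZK : Z ≤ M0 ⊔ S) (hc : ∀ z ∈ Z, ∀ y ∈ Y, y * z = z * y)
  (hdec : ∀ z ∈ Z, ∃ m ∈ Z ⊓ M0, ∃ s ∈ Z ⊓ S, m * s = z) (lam : Z →* ℂˣ)
include hZK hc hdec

theorem valid_iff (q : Par M0 S) :
    mlt (F.chi q : ↥(M0 ⊔ S) → ℂ) (H12.linIrr lam : Z → ℂ) ≠ 0 ↔ Valid lam q := by
  rw [over_linear_iff hZK fun z hz y hy => hc z hz y (F.leK hy)]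
  have hcs : ∀ s ∈ Z, ∀ y ∈ M0 ⊔ S, y * s = s * y := fun s hs y hy => hc s hs y (F.leK hy)
  have hdeg : H12.degree (F.chi q : ↥(M0 ⊔ S) → ℂ) = H12.degree (q.1.1 : M0 → ℂ) :=
    psi_degree F.hSM F.syl.pgroup F.cop q.1.2 q.2
  rw [hdeg]
  constructor
  · intro h
    refine ⟨fun z hz => ?_, fun z hz => Units.ext ?_⟩
    · rw [← h z]
      exact (psi_extends F.hSM F.syl.pgroup F.cop q.1.2 q.2 _ hz).symm
    · have h1 : cf (F.chi q : ↥(M0 ⊔ S) → ℂ) ((1 : G) * z) =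
          (q.2 ⟨z, hz⟩ : ℂ) * cf (q.1.1 : M0 → ℂ) 1 :=
        psi_apply_mul F.hSM F.syl.pgroup F.cop q.1.2 q.2 M0.one_mem hz (hcs _ z.2)
      rw [one_mul, h z, ← cast_degree, mul_comm] at h1
      exact (mul_right_cancel₀ (Nat.cast_ne_zero.2 (H12.irr_degree_pos q.1.1).ne') h1).symm
  · rintro ⟨hA, hB⟩ ⟨z, hz⟩
    obtain ⟨m, hm, s, hs, rfl⟩ := hdec z hz
    show cf (F.chi q : ↥(M0 ⊔ S) → ℂ) (m * s) = _
    rw [chi, psi_apply_mul F.hSM F.syl.pgroup F.cop q.1.2 q.2 hm.2 hs.2 (hcs _ hs.1),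
      hA ⟨m, hm.1⟩ hm.2, hB ⟨s, hs.1⟩ hs.2,
      show (⟨m * s, hz⟩ : Z) = ⟨m, hm.1⟩ * ⟨s, hs.1⟩ from rfl, map_mul, Units.val_mul]
    ring

open scoped Classical in
/-- The count by pairs. -/
theorem count :
    (cnt p Y (H12.linIrr lam : Z → ℂ) : ℚ) =
      ∑ q : {q : Par M0 S // Valid lam q}, (nq H0 q.1 : ℚ) /
        Nat.card {q' : {q : Par M0 S // Valid lam q} // POrb H0 q.1 q'.1} := by
  have hst : Y ≤ st (H12.linIrr lam : Z → ℂ) := central_le_st hc _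
  have hi : ¬ p ∣ (M0 ⊔ S).relIndex Y := F.syl.index_le le_sup_right F.leK
  rw [cnt, card_eq_sum_div (fun (χ : {χ : IrrCharacter Y // ¬ p ∣ H12.degree (χ : Y → ℂ) ∧
      mlt (χ : Y → ℂ) (H12.linIrr lam : Z → ℂ) ≠ 0}) (q : {q : Par M0 S // Valid lam q}) =>
      mlt (χ.1 : Y → ℂ) (F.chi q.1 : ↥(M0 ⊔ S) → ℂ) ≠ 0) (fun q q' => POrb H0 q.1 q'.1) ?_ ?_]
  · refine Finset.sum_congr rfl fun q _ => ?_
    congr 2
    rw [← F.card_over_chi q.1]
    exact Nat.card_congr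
      { toFun := fun z => ⟨z.1.1, z.2⟩
        invFun := fun w => ⟨⟨w.1, not_dvd_degree_of_index F.leK F.nK hi w.1 w.2
            (psi_not_dvd F.hSM F.syl.pgroup F.cop q.1.1.2 q.1.2),
          mlt_ne_zero_trans hZK F.leK w.1 w.2 ((F.valid_iff hZK hc hdec lam q.1).2 q.2)⟩, w.2⟩
        left_inv := fun z => rfl
        right_inv := fun w => rfl }
  · rintro ⟨χ, hχp, hχl⟩
    obtain ⟨ψ, hψ, hψl⟩ := exists_between hZK F.leK χ hχl
    obtain ⟨q, rfl⟩ := F.chi_surjective ψ (not_dvd_degree_of_le F.leK F.nK χ hψ hχp)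
    exact ⟨⟨q, (F.valid_iff hZK hc hdec lam q).1 hψl⟩, hψ⟩
  · rintro ⟨χ, hχp, hχl⟩ ⟨q, hq⟩ hχq ⟨q', hq'⟩
    constructor
    · intro hχq'
      obtain ⟨y, hy, he⟩ := exists_conj F.leK F.nK χ hχq hχq'
      obtain ⟨h, hh, k, hk, rfl⟩ := F.cov y hy
      refine (F.porb_iff q q').2 ⟨h, hh, F.chi_injective ?_⟩
      rw [← F.chi_twPar q hh, ← he, ← tw_tw (F.nK (F.leK hk)) (F.nK (F.H0Y hh)) (F.chi q)]
      exact ((tw_eq_iff (F.nK (F.leK hk)) _).2 (le_st _ hk)).symm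
    · intro h
      obtain ⟨x, hx, rfl⟩ := (F.porb_iff q q').1 h
      show mlt (χ : Y → ℂ) (F.chi (F.twPar q hx) : ↥(M0 ⊔ S) → ℂ) ≠ 0
      rw [← F.chi_twPar q hx, mlt_tw_self F.leK (F.H0Y hx)]
      exact hχq

end Frame

end H87.McKay
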