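import Cfsg.Agent.H87.McKay.Transfer
import Mathlib.GroupTheory.SchurZassenhaus

/-!
# The case of a central subgroup with `p'`-section and normalised Sylow product
-/

set_option autoImplicit false
set_option linter.unusedSectionVars false
set_option linter.unusedVariables false
set_option linter.style.haveILetI false

open Cfsg
open scoped ComplexConjugate

namespace H87.McKay

attribute [local instance high] Fintype.ofFinite

universe u

variable {G : Type u} [Group G] [Finite G] {p : ℕ} [hp : Fact p.Prime]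
variable {A B M M0 S T W X Y H0 Z : Subgroup G}

theorem exists_complement (hAB : A ≤ B) (hBA : B ≤ Subgroup.normalizer (A : Set G))
    (hA : IsPGroup p A) (hi : ¬ p ∣ A.relIndex B) :
    ∃ W ≤ B, ¬ p ∣ Nat.card W ∧ A ⊓ W = ⊥ ∧ ∀ b ∈ B, ∃ a ∈ A, ∃ w ∈ W, a * w = b := by
  haveI := normal_of_le hBA
  obtain ⟨k, hk⟩ := IsPGroup.iff_card.1 hA
  obtain ⟨V, hV⟩ := Subgroup.exists_right_complement'_of_coprime (N := A.subgroupOf B) (by
    rw [Nat.card_congr (Subgroup.subgroupOfEquivOfLe hAB).toEquiv, hk]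
    exact (hp.out.coprime_iff_not_dvd.2 hi).pow_left k)
  refine ⟨V.map B.subtype, Subgroup.map_subtype_le V, ?_, ?_, fun b hb => ?_⟩
  · rw [Subgroup.card_map_of_injective B.subtype_injective, ← hV.symm.index_eq_card]
    exact hi
  · rw [eq_bot_iff]
    rintro x ⟨hx, v, hv, rfl⟩
    have h1 : v ∈ A.subgroupOf B ⊓ V := ⟨hx, hv⟩
    rw [disjoint_iff.1 hV.disjoint, Subgroup.mem_bot] at h1
    rw [h1]
    simp
  · obtain ⟨⟨a, w⟩, h⟩ := hV.2 ⟨b, hb⟩
    exact ⟨_, a.2, _, ⟨w.1, w.2, rfl⟩, congrArg Subtype.val h⟩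

theorem le_of_pgroup (hAM : A ≤ M) (hWM : W ≤ M) (hMW : M ≤ Subgroup.normalizer (W : Set G))
    (hA : IsPGroup p A) (hi : ¬ p ∣ W.relIndex M) : A ≤ W := by
  haveI := normal_of_le hMW
  have hd : W.relIndex A ∣ W.relIndex M := by
    have h1 := H10.relIndex_dvd_relIndex_of_le_right (W.subgroupOf M) (M := A.subgroupOf M) (L := ⊤)
      le_top
    rwa [Subgroup.relIndex_subgroupOf hAM, Subgroup.relIndex_top_right] at h1
  obtain ⟨k, hk⟩ := IsPGroup.iff_card.1 hA
  obtain ⟨i, -, hi'⟩ := (Nat.dvd_prime_pow hp.out).1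
    (hk ▸ Subgroup.index_dvd_card (W.subgroupOf A))
  refine Subgroup.relIndex_eq_one.1 ?_
  rw [Subgroup.relIndex, hi']
  rcases Nat.eq_zero_or_pos i with rfl | hi0
  · exact pow_zero p
  · exact absurd ((dvd_pow_self p hi0.ne').trans (hi' ▸ hd)) hi

/-- The trace of a Sylow subgroup on a normalised subgroup. -/
theorem IsSyl.not_dvd_inter (hS : IsSyl p S Y) (hTY : T ≤ Y)
    (hST : S ≤ Subgroup.normalizer (T : Set G)) : ¬ p ∣ S.relIndex T := by
  have hcard := card_mul_fibre (T := T ⊔ S) (H := T) (K := S) le_sup_left le_sup_right fun t ht => by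
    have ht' : t ∈ ((T ⊔ S : Subgroup G) : Set G) := ht
    rw [Subgroup.coe_mul_of_right_le_normalizer_left _ _ hST] at ht'
    exact ht'
  have h1 := Subgroup.card_mul_index ((T ⊓ S).subgroupOf T)
  rw [Nat.card_congr (Subgroup.subgroupOfEquivOfLe (inf_le_left : T ⊓ S ≤ T)).toEquiv,
    ← Subgroup.relIndex, inf_comm T S, Subgroup.inf_relIndex_right] at h1
  have h2 := Subgroup.card_mul_index (S.subgroupOf (T ⊔ S))
  rw [Nat.card_congr (Subgroup.subgroupOfEquivOfLe (le_sup_right : S ≤ T ⊔ S)).toEquiv,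
    ← Subgroup.relIndex] at h2
  rw [inf_comm T S] at hcard
  have h3 : S.relIndex T = S.relIndex (T ⊔ S) := by
    refine Nat.eq_of_mul_eq_mul_left
      (Nat.mul_pos (Nat.card_pos (α := (S ⊓ T : Subgroup G))) (Nat.card_pos (α := S))) ?_
    calc Nat.card (S ⊓ T : Subgroup G) * Nat.card S * S.relIndex T
        = Nat.card S * Nat.card T := by rw [← h1]; ring
      _ = Nat.card (S ⊓ T : Subgroup G) * Nat.card ↥(T ⊔ S) := by rw [hcard]; ring
      _ = Nat.card (S ⊓ T : Subgroup G) * Nat.card S * S.relIndex (T ⊔ S) := by rw [← h2]; ring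
  rw [h3]
  exact (hS.mono le_sup_right (sup_le hTY hS.le)).index

theorem core (hZM : Z ≤ M) (hMY : M ≤ Y) (hYM : Y ≤ Subgroup.normalizer (M : Set G))
    (hc : ∀ z ∈ Z, ∀ y ∈ Y, y * z = z * y) (hi : ¬ p ∣ Z.relIndex M) (hS : IsSyl p S Y)
    (hK : Y ≤ Subgroup.normalizer ((M ⊔ S : Subgroup G) : Set G)) (lam : Z →* ℂˣ) :
    cnt p Y (H12.linIrr lam : Z → ℂ) =
      cnt p (Y ⊓ Subgroup.normalizer (S : Set G)) (H12.linIrr lam : Z → ℂ) := by
  have hZn : ∀ {V : Subgroup G}, V ≤ Z → Y ≤ Subgroup.normalizer (V : Set G) := fun {V} hV y hy =>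
    Subgroup.mem_normalizer_fintype fun v hv => by
      rw [hc v (hV hv) y hy, mul_inv_cancel_right]; exact hv
  have hAp : IsPGroup p (M ⊓ S : Subgroup G) := hS.pgroup.to_le inf_le_right
  have hAZ : M ⊓ S ≤ Z := le_of_pgroup inf_le_left hZM (hMY.trans (hZn le_rfl)) hAp hi
  have hAi : ¬ p ∣ (M ⊓ S).relIndex M := by
    rw [inf_comm, Subgroup.inf_relIndex_right]
    exact hS.not_dvd_inter hMY (hS.le.trans hYM)
  obtain ⟨M0, hM0M, hcop, hdisj, hsplit⟩ :=
    exists_complement (p := p) inf_le_left (hMY.trans (hZn hAZ)) hAp hAi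
  have hMn : M ≤ Subgroup.normalizer (M0 : Set G) := fun x hx => by
    obtain ⟨a, ha, w, hw, rfl⟩ := hsplit x hx
    refine mul_mem (Subgroup.mem_normalizer_fintype fun v hv => ?_) (Subgroup.le_normalizer hw)
    rw [← hc a (hAZ ha) v (hMY (hM0M hv)), mul_inv_cancel_right]
    exact hv
  obtain ⟨j, hj⟩ : ∃ j, M0.relIndex M = p ^ j := by
    obtain ⟨j, hj⟩ := IsPGroup.iff_card.1 hAp
    refine ⟨j, ?_⟩
    have h1 := card_mul_fibre inf_le_left hM0M hsplit
    rw [hdisj, Subgroup.card_bot, one_mul, hj] at h1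
    have h2 := Subgroup.card_mul_index (M0.subgroupOf M)
    rw [Nat.card_congr (Subgroup.subgroupOfEquivOfLe hM0M).toEquiv, h1, mul_comm (p ^ j)] at h2
    exact Nat.eq_of_mul_eq_mul_left Nat.card_pos h2
  have hnM : Y ≤ Subgroup.normalizer (M0 : Set G) := fun y hy => by
    have hle : M0.map (MulAut.conj y).toMonoidHom ≤ M0 := by
      refine le_of_coprime ?_ hM0M hMn ?_ hj
      · rintro _ ⟨a, ha, rfl⟩
        exact (Subgroup.mem_normalizer_iff.1 (hYM hy) a).1 (hM0M ha)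
      · rwa [Subgroup.card_map_of_injective (MulAut.conj y).injective]
    exact Subgroup.mem_normalizer_fintype fun a ha => hle ⟨a, ha, rfl⟩
  have hKe : M0 ⊔ S = M ⊔ S := by
    refine le_antisymm (sup_le_sup_right hM0M S) (sup_le (fun x hx => ?_) le_sup_right)
    obtain ⟨a, ha, w, hw, rfl⟩ := hsplit x hx
    exact mul_mem (Subgroup.mem_sup_right ha.2) (Subgroup.mem_sup_left hw)
  set N := Y ⊓ Subgroup.normalizer (S : Set G) with hN
  obtain ⟨H0, hH0N, hcopH, hdH, hsH⟩ := exists_complement (p := p)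
    (le_inf hS.le Subgroup.le_normalizer : S ≤ N) inf_le_right hS.pgroup
    (hS.mono (le_inf hS.le Subgroup.le_normalizer) inf_le_left).index
  set C := M0 ⊓ Subgroup.centralizer (S : Set G) with hC
  have hCN : C ≤ N := le_inf (inf_le_left.trans (hM0M.trans hMY))
    (inf_le_right.trans fun c hc' => Subgroup.mem_normalizer_fintype fun s hs => by
      rw [← Subgroup.mem_centralizer_iff.1 hc' s hs, mul_inv_cancel_right]
      exact hs)
  have hCn : H0 ≤ Subgroup.normalizer (C : Set G) := fun x hx =>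
    mem_normalizer_inf_centralizer (hnM (hH0N hx).1) (hH0N hx).2
  have hC0 : C ≤ H0 := by
    have hcov : ∀ t ∈ C ⊔ H0, ∃ c ∈ C, ∃ h ∈ H0, c * h = t := fun t ht => by
      have ht' : t ∈ ((C ⊔ H0 : Subgroup G) : Set G) := ht
      rw [Subgroup.coe_mul_of_right_le_normalizer_left _ _ hCn] at ht'
      exact ht'
    have hpr : ¬ p ∣ Nat.card ↥(C ⊔ H0) := fun hd => by
      have h1 := card_mul_fibre le_sup_left le_sup_right hcov
      rcases hp.out.dvd_mul.1 (h1 ▸ hd.mul_left _ :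
        p ∣ Nat.card C * Nat.card H0) with h | h
      · exact hcop (h.trans (Subgroup.card_dvd_of_le inf_le_left))
      · exact hcopH h
    intro e he
    obtain ⟨s, hs, h, hh, rfl⟩ := hsH e (hCN he)
    have h1 : s ∈ (C ⊔ H0) ⊓ S := by
      refine Subgroup.mem_inf.2 ⟨?_, hs⟩
      have := (C ⊔ H0).mul_mem (Subgroup.mem_sup_left he)
        ((C ⊔ H0).inv_mem (Subgroup.mem_sup_right hh))
      rwa [mul_inv_cancel_right] at this
    rw [inf_eq_bot_of_coprime hS.pgroup hpr, Subgroup.mem_bot] at h1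
    rw [h1, one_mul]
    exact hh
  have F : Frame p M0 S Y H0 :=
    { leY := hM0M.trans hMY
      nM := hnM
      cop := hcop
      syl := hS
      nK := hKe ▸ hK
      hH0 := hH0N
      copH := hcopH
      cov := fun y hy => by
        obtain ⟨t, ht, htn⟩ := hS.frattini (T := M0 ⊔ S) le_sup_right
          (sup_le (hM0M.trans hMY) hS.le) hy fun s hs =>
            (Subgroup.mem_normalizer_iff.1 ((hKe ▸ hK : Y ≤ _) hy) s).1 (Subgroup.mem_sup_right hs)
        have htY : t ∈ Y := sup_le (hM0M.trans hMY) hS.le ht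
        obtain ⟨s, hs, h, hh, e⟩ := hsH (t * y) ⟨mul_mem htY hy, htn⟩
        have hhn : h ∈ Subgroup.normalizer ((M0 ⊔ S : Subgroup G) : Set G) :=
          (hKe ▸ hK : Y ≤ _) (hH0N hh).1
        refine ⟨h, hh, h⁻¹ * (t⁻¹ * s) * h, ?_, ?_⟩
        · exact (Subgroup.mem_normalizer_iff''.1 hhn _).1
            (mul_mem (inv_mem ht) (Subgroup.mem_sup_right hs))
        · rw [show h * (h⁻¹ * (t⁻¹ * s) * h) = t⁻¹ * (s * h) by group, e]
          group
      hC := hC0 }
  refine F.cnt_eq (hKe ▸ hZM.trans le_sup_left) hc (fun z hz => ?_) lam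
  obtain ⟨a, ha, w, hw, rfl⟩ := hsplit z (hZM hz)
  refine ⟨w, Subgroup.mem_inf.2 ⟨?_, hw⟩, a, Subgroup.mem_inf.2 ⟨hAZ ha, ha.2⟩,
    hc a (hAZ ha) w (hMY (hM0M hw))⟩
  simpa using mul_mem (inv_mem (hAZ ha)) hz

end H87.McKay
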