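import Cfsg.Agent.H87.McKay.Basic

/-!
# Cosets: restriction to a supplement and the count of characters over an invariant one

On a coset `g A` every character over an invariant `θ` is a multiple of one extension of `θ`.
-/

set_option autoImplicit false
set_option linter.unusedSectionVars false
set_option linter.unusedVariables false
set_option linter.style.haveILetI false

open Cfsg
open scoped ComplexConjugate

namespace H87.McKay

attribute [local instance high] Fintype.ofFinite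

universe u

variable {G : Type u} [Group G] [Finite G]

variable {A B D X : Subgroup G}

theorem mlt_trans (hAB : A ≤ B) (hBD : B ≤ D) (χ : IrrCharacter D) (θ : IrrCharacter A) :
    mlt (χ : D → ℂ) (θ : A → ℂ) =
      ∑ φ : IrrCharacter B, mlt (χ : D → ℂ) (φ : B → ℂ) * mlt (φ : B → ℂ) (θ : A → ℂ) := by
  have key : ip A (cf (χ : D → ℂ)) (cf (θ : A → ℂ)) = ∑ φ : IrrCharacter B,
      (mlt (χ : D → ℂ) (φ : B → ℂ) : ℂ) * ip A (cf (φ : B → ℂ)) (cf (θ : A → ℂ)) := by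
    rw [ip_congr (fun a ha => res_eq_sum hBD χ (hAB ha)) (fun _ _ => rfl)]
    simp only [ip]
    rw [show (fun d : A => ∑ φ : IrrCharacter B,
        (mlt (χ : D → ℂ) (φ : B → ℂ) : ℂ) * cf (φ : B → ℂ) d) = ∑ φ : IrrCharacter B,
        (mlt (χ : D → ℂ) (φ : B → ℂ) : ℂ) • (fun d : A => cf (φ : B → ℂ) d) by
      funext d; simp [Finset.sum_apply], H12.classInner_sum_left]
    exact Finset.sum_congr rfl fun φ _ => H12.classInner_smul_left _ _ _
  rw [mlt_spec (hAB.trans hBD)] at key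
  simp only [mlt_spec hAB] at key
  exact_mod_cast key

/-- Restricting an extension gives an extension. -/
theorem res_of_extends (hAB : A ≤ B) (hBD : B ≤ D) {η : IrrCharacter D} {θ : IrrCharacter A} (hD : D ≤ st (θ : A → ℂ))
    (hη : Extends (η : D → ℂ) (θ : A → ℂ)) :
    ∃ φ : IrrCharacter B, Extends (φ : B → ℂ) (θ : A → ℂ) ∧
      ∀ b ∈ B, cf (η : D → ℂ) b = cf (φ : B → ℂ) b := by
  have h1 := mlt_trans hAB hBD η θ
  rw [mlt_of_extends (hAB.trans hBD) hη] at h1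
  obtain ⟨φ, -, hφ⟩ : ∃ φ ∈ (Finset.univ : Finset (IrrCharacter B)),
      mlt (η : D → ℂ) (φ : B → ℂ) * mlt (φ : B → ℂ) (θ : A → ℂ) ≠ 0 := by
    by_contra hc
    push Not at hc
    rw [Finset.sum_eq_zero hc] at h1
    exact one_ne_zero h1
  have hle : ∀ ψ : IrrCharacter B, mlt (η : D → ℂ) (ψ : B → ℂ) * mlt (ψ : B → ℂ) (θ : A → ℂ) ≤
      ∑ x : IrrCharacter B, mlt (η : D → ℂ) (x : B → ℂ) * mlt (x : B → ℂ) (θ : A → ℂ) :=
    fun ψ => Finset.single_le_sum (f := fun x : IrrCharacter B =>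
      mlt (η : D → ℂ) (x : B → ℂ) * mlt (x : B → ℂ) (θ : A → ℂ)) (fun _ _ => Nat.zero_le _)
      (Finset.mem_univ ψ)
  have hp : mlt (η : D → ℂ) (φ : B → ℂ) * mlt (φ : B → ℂ) (θ : A → ℂ) = 1 :=
    le_antisymm (h1 ▸ hle φ) (Nat.pos_of_ne_zero hφ)
  have hm1 : mlt (η : D → ℂ) (φ : B → ℂ) = 1 := Nat.eq_one_of_mul_eq_one_right hp
  have hm2 : mlt (φ : B → ℂ) (θ : A → ℂ) = 1 := Nat.eq_one_of_mul_eq_one_left hp
  have hz : ∀ ψ : IrrCharacter B, ψ ≠ φ → mlt (η : D → ℂ) (ψ : B → ℂ) = 0 := by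
    intro ψ hne
    by_contra hψ
    obtain ⟨θ', hθ'⟩ := exists_mlt_ne_zero hAB ψ
    have hθe : θ' = θ := by
      by_contra hne'
      have h2 := mlt_eq_zero_of_inv (hAB.trans hBD) hD η
        (by rw [mlt_of_extends (hAB.trans hBD) hη]; exact one_ne_zero) hne'
      rw [mlt_trans hAB hBD, Finset.sum_eq_zero_iff] at h2
      exact mul_ne_zero hψ hθ' (h2 ψ (Finset.mem_univ _))
    subst hθe
    have h2 := Finset.add_le_sum (f := fun x : IrrCharacter B =>
      mlt (η : D → ℂ) (x : B → ℂ) * mlt (x : B → ℂ) (θ' : A → ℂ))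
      (s := Finset.univ) (fun _ _ => Nat.zero_le _) (Finset.mem_univ ψ) (Finset.mem_univ φ) hne
    rw [← h1, hp] at h2
    have := Nat.mul_pos (Nat.pos_of_ne_zero hψ) (Nat.pos_of_ne_zero hθ')
    omega
  have he : ∀ b ∈ B, cf (η : D → ℂ) b = cf (φ : B → ℂ) b := fun b hb => by
    rw [res_eq_sum hBD η hb, Finset.sum_eq_single φ (fun ψ _ h => by simp [hz ψ h])
      (by simp), hm1, Nat.cast_one, one_mul]
  exact ⟨φ, fun a ha => by rw [← he a (hAB ha)]; exact hη a ha, he⟩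

/-- Sum over a coset through the linear characters of an abelian quotient. -/
theorem coset_sum [(A.subgroupOf D).Normal] (h : A ≤ D)
    (hcomm : ∀ a b : D ⧸ A.subgroupOf D, a * b = b * a) {g : G} (hg : g ∈ D) (F : G → ℂ) :
    (A.relIndex D : ℂ) * ∑ a : A, F (g * a) = ∑ β : IrrCharacter (D ⧸ A.subgroupOf D),
      conj ((H13.inflateIrr (A.subgroupOf D) β : D → ℂ) ⟨g, hg⟩) *
        ∑ d : D, (H13.inflateIrr (A.subgroupOf D) β : D → ℂ) d * F d := by
  classical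
  set gd : D := ⟨g, hg⟩
  have horth : ∀ d : D, ∑ β : IrrCharacter (D ⧸ A.subgroupOf D),
      (β : D ⧸ A.subgroupOf D → ℂ) d * conj ((β : D ⧸ A.subgroupOf D → ℂ) gd) =
      if g⁻¹ * (d : G) ∈ A then (A.relIndex D : ℂ) else 0 := by
    intro d
    rw [H12.column_orthogonality]
    have hiff : IsConj (d : D ⧸ A.subgroupOf D) (gd : D ⧸ A.subgroupOf D) ↔
        g⁻¹ * (d : G) ∈ A := by
      rw [isConj_iff]
      constructor
      · rintro ⟨c, hc⟩
        rw [hcomm c, mul_inv_cancel_right, eq_comm, QuotientGroup.eq] at hc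
        exact hc
      · intro hm
        exact ⟨1, by rw [one_mul, inv_one, mul_one, eq_comm, QuotientGroup.eq]; exact hm⟩
    have hcen : Nat.card (Subgroup.centralizer ({(d : D ⧸ A.subgroupOf D)} : Set _)) =
        A.relIndex D := by
      rw [show Subgroup.centralizer ({(d : D ⧸ A.subgroupOf D)} : Set _) = ⊤ by
        refine eq_top_iff.2 fun c _ => ?_
        rw [Subgroup.mem_centralizer_singleton_iff]
        exact hcomm _ _, Nat.card_congr Subgroup.topEquiv.toEquiv, Subgroup.relIndex,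
        Subgroup.index_eq_card]
    rw [hcen]
    simp only [hiff]
  calc (A.relIndex D : ℂ) * ∑ a : A, F (g * a)
      = ∑ d : D, (if g⁻¹ * (d : G) ∈ A then (A.relIndex D : ℂ) else 0) * F d := by
        rw [Finset.mul_sum]
        simp only [ite_mul, zero_mul, ← Finset.sum_filter]
        refine Finset.sum_bij' (fun a _ => (⟨g * a, mul_mem hg (h a.2)⟩ : D))
          (fun d hd => (⟨g⁻¹ * d, (Finset.mem_filter.1 hd).2⟩ : A)) (fun a _ => by simp)
          (fun d _ => Finset.mem_univ _) (fun a _ => Subtype.ext (by simp))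
          (fun d _ => Subtype.ext (by simp)) fun a _ => rfl
    _ = _ := by
        simp only [← horth, H13.inflateIrr_apply, Finset.sum_mul, Finset.mul_sum]
        rw [Finset.sum_comm]
        exact Finset.sum_congr rfl fun β _ => Finset.sum_congr rfl fun d _ => by ring

theorem le_normalizer_of_st {θ : IrrCharacter A} {g : G} (hg : g ∈ st (θ : A → ℂ)) :
    A ⊔ Subgroup.zpowers g ≤ st (θ : A → ℂ) :=
  sup_le (le_st θ) (Subgroup.zpowers_le.2 hg)

theorem mem_cyc (A : Subgroup G) (g : G) : g ∈ A ⊔ Subgroup.zpowers g :=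
  Subgroup.mem_sup_right (Subgroup.mem_zpowers g)

theorem cyc_abelian {θ : IrrCharacter A} {g : G} (hg : g ∈ st (θ : A → ℂ))
    [(A.subgroupOf (A ⊔ Subgroup.zpowers g)).Normal] :
    ∀ x y : (A ⊔ Subgroup.zpowers g : Subgroup G) ⧸ A.subgroupOf (A ⊔ Subgroup.zpowers g),
      x * y = y * x := by
  set D := A ⊔ Subgroup.zpowers g
  set gq : D ⧸ A.subgroupOf D := QuotientGroup.mk ⟨g, mem_cyc A g⟩
  have key : ∀ x : D ⧸ A.subgroupOf D, x ∈ Subgroup.zpowers gq := by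
    intro x
    obtain ⟨x, rfl⟩ := QuotientGroup.mk_surjective x
    have hx : (x : G) ∈ ((A ⊔ Subgroup.zpowers g : Subgroup G) : Set G) := x.2
    rw [Subgroup.coe_mul_of_right_le_normalizer_left _ _
      (Subgroup.zpowers_le.2 (st_le _ hg))] at hx
    obtain ⟨a, ha, _, ⟨k, rfl⟩, he⟩ := hx
    refine ⟨k, ?_⟩
    show gq ^ k = QuotientGroup.mk x
    rw [← QuotientGroup.mk_zpow, QuotientGroup.eq, Subgroup.mem_subgroupOf]
    push_cast
    rw [← he, ← mul_assoc]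
    simpa using (Subgroup.mem_normalizer_iff.1
      (inv_mem (zpow_mem (st_le _ hg) k)) a).1 ha
  intro x y
  obtain ⟨i, rfl⟩ := key x
  obtain ⟨j, rfl⟩ := key y
  exact (Commute.zpow_zpow_self gq i j).eq

theorem cyc_comm {θ : IrrCharacter A} {g : G} (hg : g ∈ st (θ : A → ℂ)) :
    ∀ x ∈ (A ⊔ Subgroup.zpowers g : Subgroup G), ∀ y ∈ (A ⊔ Subgroup.zpowers g : Subgroup G),
      x * y * x⁻¹ * y⁻¹ ∈ A := by
  haveI := normal_of_le ((le_normalizer_of_st hg).trans (st_le _))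
  intro x hx y hy
  have h := cyc_abelian hg (QuotientGroup.mk (⟨x, hx⟩ : ↥(A ⊔ Subgroup.zpowers g))⁻¹)
    (QuotientGroup.mk (⟨y, hy⟩ : ↥(A ⊔ Subgroup.zpowers g))⁻¹)
  rw [← QuotientGroup.mk_mul, ← QuotientGroup.mk_mul, QuotientGroup.eq] at h
  have h' := inv_mem (Subgroup.mem_subgroupOf.1 h)
  simpa [mul_assoc] using h'

/-- A chosen extension of `θ` to `A ⟨g⟩`. -/
theorem exists_eta {θ : IrrCharacter A} {g : G} (hg : g ∈ st (θ : A → ℂ)) :
    ∃ η : IrrCharacter (A ⊔ Subgroup.zpowers g : Subgroup G), Extends (η : ↥(A ⊔ Subgroup.zpowers g) → ℂ) (θ : A → ℂ) :=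
  exists_extend_cyclic le_sup_left (le_normalizer_of_st hg) le_rfl (mem_cyc A g)

theorem coset_inner {θ : IrrCharacter A} {g : G} (hg : g ∈ st (θ : A → ℂ))
    {η : IrrCharacter (A ⊔ Subgroup.zpowers g : Subgroup G)}
    (hη : Extends (η : ↥(A ⊔ Subgroup.zpowers g) → ℂ) (θ : A → ℂ))
    (φ : IrrCharacter (A ⊔ Subgroup.zpowers g : Subgroup G)) :
    (mlt (φ : ↥(A ⊔ Subgroup.zpowers g) → ℂ) (θ : A → ℂ) = 0 →
      ∑ a : A, cf (φ : ↥(A ⊔ Subgroup.zpowers g) → ℂ) (g * a) * conj (cf (η : ↥(A ⊔ Subgroup.zpowers g) → ℂ) (g * a)) = 0) ∧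
    (φ = η → ∑ a : A, cf (φ : ↥(A ⊔ Subgroup.zpowers g) → ℂ) (g * a) * conj (cf (η : ↥(A ⊔ Subgroup.zpowers g) → ℂ) (g * a)) = Nat.card A) := by
  classical
  have hDn : A ⊔ Subgroup.zpowers g ≤ Subgroup.normalizer (A : Set G) := (le_normalizer_of_st hg).trans (st_le _)
  haveI := normal_of_le hDn
  have hAD : A ≤ A ⊔ Subgroup.zpowers g := le_sup_left
  have h := coset_sum hAD (cyc_abelian hg) (mem_cyc A g)
    (fun x => cf (φ : ↥(A ⊔ Subgroup.zpowers g) → ℂ) x * conj (cf (η : ↥(A ⊔ Subgroup.zpowers g) → ℂ) x))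
  have hlin : ∀ β : IrrCharacter (↥(A ⊔ Subgroup.zpowers g) ⧸ A.subgroupOf (A ⊔ Subgroup.zpowers g)), ∃ f : ↥(A ⊔ Subgroup.zpowers g) →* ℂˣ,
      (∀ d : ↥(A ⊔ Subgroup.zpowers g), (d : G) ∈ A → f d = 1) ∧
      ∀ d : ↥(A ⊔ Subgroup.zpowers g), (H13.inflateIrr (A.subgroupOf (A ⊔ Subgroup.zpowers g)) β : ↥(A ⊔ Subgroup.zpowers g) → ℂ) d = f d := fun β => by
    obtain ⟨f, hf⟩ := H12.exists_monoidHom_of_apply_one_eq_one (H12.isCharacter_irr β)
      (H12.irr_apply_one_of_comm (cyc_abelian hg) β)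
    refine ⟨f.comp (QuotientGroup.mk' _), fun d hd => ?_, fun d => ?_⟩
    · rw [MonoidHom.comp_apply, QuotientGroup.mk'_apply,
        (QuotientGroup.eq_one_iff (N := A.subgroupOf (A ⊔ Subgroup.zpowers g)) d).2 hd, map_one]
    · rw [H13.inflateIrr_apply, ← congrFun hf]
      rfl
  choose f hfA hf using hlin
  have hsum : ∀ β, ∑ d : ↥(A ⊔ Subgroup.zpowers g), (H13.inflateIrr (A.subgroupOf (A ⊔ Subgroup.zpowers g)) β : ↥(A ⊔ Subgroup.zpowers g) → ℂ) d *
      (cf (φ : ↥(A ⊔ Subgroup.zpowers g) → ℂ) d * conj (cf (η : ↥(A ⊔ Subgroup.zpowers g) → ℂ) d)) =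
      (Nat.card ↥(A ⊔ Subgroup.zpowers g) : ℂ) * if lm (f β) φ = η then 1 else 0 := by
    intro β
    rw [← H12.classInner_irr (lm (f β) φ) η, ← H12.sum_mul_conj_eq_card_mul]
    refine Finset.sum_congr rfl fun d _ => ?_
    rw [hf β d, cf_coe, cf_coe, ← mul_assoc]
    rfl
  simp only [hsum] at h
  simp only [hf] at h
  have hn : (A.relIndex (A ⊔ Subgroup.zpowers g) : ℂ) ≠ 0 := by
    exact_mod_cast Subgroup.index_ne_zero_of_finite
  constructor
  · intro h0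
    apply mul_left_cancel₀ hn
    rw [h, mul_zero]
    refine Finset.sum_eq_zero fun β _ => ?_
    rw [if_neg, mul_zero, mul_zero]
    intro he
    have h1 : mlt (lm (f β) φ : ↥(A ⊔ Subgroup.zpowers g) → ℂ) (θ : A → ℂ) = mlt (φ : ↥(A ⊔ Subgroup.zpowers g) → ℂ) (θ : A → ℂ) := by
      rw [mlt, mlt, ip_congr (f := cf (lm (f β) φ : ↥(A ⊔ Subgroup.zpowers g) → ℂ)) (g := cf (φ : ↥(A ⊔ Subgroup.zpowers g) → ℂ))
        (fun a ha => by rw [lm_apply _ _ (hAD ha), hfA β ⟨a, hAD ha⟩ ha]; simp) (fun _ _ => rfl)]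
    rw [he, mlt_of_extends hAD hη, h0] at h1
    exact one_ne_zero h1
  · rintro rfl
    let β1 : IrrCharacter (↥(A ⊔ Subgroup.zpowers g) ⧸ A.subgroupOf (A ⊔ Subgroup.zpowers g)) := H12.linIrr 1
    have hf1 : f β1 = 1 := MonoidHom.ext fun d => Units.ext (by
      rw [← hf β1 d, H13.inflateIrr_apply]; rfl)
    apply mul_left_cancel₀ hn
    rw [h, Finset.sum_eq_single β1, hf1, if_pos]
    · simp only [MonoidHom.one_apply, Units.val_one, map_one, one_mul, mul_one]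
      rw [← Nat.cast_mul, Subgroup.relIndex, Subgroup.index_eq_card,
        Subgroup.card_eq_card_quotient_mul_card_subgroup (A.subgroupOf (A ⊔ Subgroup.zpowers g)),
        Nat.card_congr (Subgroup.subgroupOfEquivOfLe hAD).toEquiv]
    · exact Subtype.ext (funext fun d => by simp [lm, H12.InvConst.mulHom_apply])
    · intro β _ hne
      rw [if_neg, mul_zero, mul_zero]
      intro he
      apply hne
      have h1 := lm_injective hAD hDn hη (hfA β) he
      refine H13.inflateIrr_injective _ (Subtype.ext (funext fun d => ?_))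
      rw [hf β d, h1, H13.inflateIrr_apply]
      rfl
    · simp

/-- The coefficient of a character on a coset. -/
noncomputable def coef {A X : Subgroup G} {g : G} (χ : X → ℂ)
    (η : ↥(A ⊔ Subgroup.zpowers g) → ℂ) : ℂ :=
  (Nat.card A : ℂ)⁻¹ * ∑ a : A, cf χ (g * a) * conj (cf η (g * a))

theorem coef_spec {θ : IrrCharacter A} (hAX : A ≤ X) (hX : X ≤ st (θ : A → ℂ)) {g : G}
    (hg : g ∈ X) {η : IrrCharacter (A ⊔ Subgroup.zpowers g : Subgroup G)}
    (hη : Extends (η : ↥(A ⊔ Subgroup.zpowers g) → ℂ) (θ : A → ℂ)) (χ : IrrCharacter X) :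
    (mlt (χ : X → ℂ) (θ : A → ℂ) ≠ 0 → ∀ a ∈ A, cf (χ : X → ℂ) (g * a) =
        coef (χ : X → ℂ) (η : ↥(A ⊔ Subgroup.zpowers g) → ℂ) * cf (η : ↥(A ⊔ Subgroup.zpowers g) → ℂ) (g * a)) ∧
      (mlt (χ : X → ℂ) (θ : A → ℂ) = 0 → coef (χ : X → ℂ) (η : ↥(A ⊔ Subgroup.zpowers g) → ℂ) = 0) := by
  classical
  have hgs := hX hg
  have hAD : A ≤ A ⊔ Subgroup.zpowers g := le_sup_left
  have hDX : A ⊔ Subgroup.zpowers g ≤ X := sup_le hAX (Subgroup.zpowers_le.2 hg)
  have hga : ∀ a ∈ A, g * a ∈ A ⊔ Subgroup.zpowers g := fun a ha => mul_mem (mem_cyc A g) (hAD ha)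
  have hcard : (Nat.card A : ℂ) ≠ 0 := by exact_mod_cast Nat.card_pos.ne'
  have hsum : ∀ a ∈ A, cf (χ : X → ℂ) (g * a) =
      ∑ φ : IrrCharacter ↥(A ⊔ Subgroup.zpowers g), (mlt (χ : X → ℂ) (φ : ↥(A ⊔ Subgroup.zpowers g) → ℂ) : ℂ) * cf (φ : ↥(A ⊔ Subgroup.zpowers g) → ℂ) (g * a) :=
    fun a ha => res_eq_sum hDX χ (hga a ha)
  have hcoef : coef (χ : X → ℂ) (η : ↥(A ⊔ Subgroup.zpowers g) → ℂ) = (Nat.card A : ℂ)⁻¹ * ∑ φ : IrrCharacter ↥(A ⊔ Subgroup.zpowers g),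
      (mlt (χ : X → ℂ) (φ : ↥(A ⊔ Subgroup.zpowers g) → ℂ) : ℂ) *
        ∑ a : A, cf (φ : ↥(A ⊔ Subgroup.zpowers g) → ℂ) (g * a) * conj (cf (η : ↥(A ⊔ Subgroup.zpowers g) → ℂ) (g * a)) := by
    rw [coef]
    congr 1
    simp only [Finset.mul_sum, hsum _ (Subtype.prop _), Finset.sum_mul]
    rw [Finset.sum_comm]
    exact Finset.sum_congr rfl fun φ _ => Finset.sum_congr rfl fun a _ => by ring
  constructor
  · intro hne a ha
    have hover : ∀ φ : IrrCharacter ↥(A ⊔ Subgroup.zpowers g), mlt (χ : X → ℂ) (φ : ↥(A ⊔ Subgroup.zpowers g) → ℂ) ≠ 0 →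
        ∃ c : ℂ, ∀ b ∈ A, cf (φ : ↥(A ⊔ Subgroup.zpowers g) → ℂ) (g * b) = c * cf (η : ↥(A ⊔ Subgroup.zpowers g) → ℂ) (g * b) := by
      intro φ hφ
      obtain ⟨θ', hθ'⟩ := exists_mlt_ne_zero hAD φ
      have hθe : θ' = θ := by
        by_contra hne'
        have h2 := mlt_eq_zero_of_inv hAX hX χ hne hne'
        rw [mlt_trans hAD hDX, Finset.sum_eq_zero_iff] at h2
        exact mul_ne_zero hφ hθ' (h2 φ (Finset.mem_univ _))
      subst hθe
      obtain ⟨f, hfA, rfl⟩ := gallagher_abelian hAD ((le_normalizer_of_st hgs).trans (st_le _))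
        (cyc_comm hgs) hη φ hθ'
      refine ⟨f ⟨g, mem_cyc A g⟩, fun b hb => ?_⟩
      rw [lm_apply f η (hga b hb), show (⟨g * b, hga b hb⟩ : ↥(A ⊔ Subgroup.zpowers g)) = ⟨g, mem_cyc A g⟩ * ⟨b, hAD hb⟩
        from rfl, map_mul, hfA ⟨b, hAD hb⟩ hb, mul_one]
    let c : IrrCharacter ↥(A ⊔ Subgroup.zpowers g) → ℂ := fun φ =>
      if h : mlt (χ : X → ℂ) (φ : ↥(A ⊔ Subgroup.zpowers g) → ℂ) ≠ 0 then (hover φ h).choose else 0
    have hc : ∀ φ : IrrCharacter ↥(A ⊔ Subgroup.zpowers g), ∀ b ∈ A, (mlt (χ : X → ℂ) (φ : ↥(A ⊔ Subgroup.zpowers g) → ℂ) : ℂ) *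
        cf (φ : ↥(A ⊔ Subgroup.zpowers g) → ℂ) (g * b) = (mlt (χ : X → ℂ) (φ : ↥(A ⊔ Subgroup.zpowers g) → ℂ) : ℂ) * c φ *
          cf (η : ↥(A ⊔ Subgroup.zpowers g) → ℂ) (g * b) := fun φ b hb => by
      by_cases h : mlt (χ : X → ℂ) (φ : ↥(A ⊔ Subgroup.zpowers g) → ℂ) ≠ 0
      · simp only [c, dif_pos h]
        rw [(hover φ h).choose_spec b hb, mul_assoc]
      · rw [not_not] at h
        simp [h]
    have hval : ∀ b ∈ A, cf (χ : X → ℂ) (g * b) =
        (∑ φ : IrrCharacter ↥(A ⊔ Subgroup.zpowers g), (mlt (χ : X → ℂ) (φ : ↥(A ⊔ Subgroup.zpowers g) → ℂ) : ℂ) * c φ) *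
          cf (η : ↥(A ⊔ Subgroup.zpowers g) → ℂ) (g * b) := fun b hb => by
      rw [hsum b hb, Finset.sum_mul]
      exact Finset.sum_congr rfl fun φ _ => hc φ b hb
    rw [hval a ha]
    congr 1
    rw [coef]
    have h2 := (coset_inner hgs hη η).2 rfl
    simp only [hval _ (Subtype.prop _), mul_assoc, ← Finset.mul_sum]
    rw [h2, mul_comm, mul_assoc, mul_inv_cancel₀ hcard, mul_one]
  · intro h0
    rw [hcoef]
    simp only [mlt_trans hAD hDX, Finset.sum_eq_zero_iff] at h0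
    rw [Finset.sum_eq_zero fun φ _ => ?_, mul_zero]
    rcases Nat.mul_eq_zero.1 (h0 φ (Finset.mem_univ _)) with h | h
    · simp [h]
    · rw [(coset_inner hgs hη φ).1 h, mul_zero]

/-- Sums over a product of two subgroups. -/
theorem sum_mul_fibre {T H K : Subgroup G} (hH : H ≤ T) (hK : K ≤ T)
    (hcov : ∀ t ∈ T, ∃ h ∈ H, ∃ k ∈ K, h * k = t) (F : G → ℂ) :
    (Nat.card (H ⊓ K : Subgroup G) : ℂ) * ∑ t : T, F t = ∑ h : H, ∑ k : K, F (h * k) := by
  classical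
  rw [← Finset.sum_product (f := fun x : H × K => F (x.1 * x.2)), Finset.mul_sum,
    ← Finset.sum_fiberwise ((Finset.univ : Finset H) ×ˢ (Finset.univ : Finset K))
      (fun x : H × K => (⟨(x.1 : G) * x.2, mul_mem (hH x.1.2) (hK x.2.2)⟩ : T))]
  refine Finset.sum_congr rfl fun t _ => ?_
  rw [Finset.sum_congr rfl (g := fun _ => F t) fun x hx => by
    rw [← (Finset.mem_filter.1 hx).2], Finset.sum_const, nsmul_eq_mul]
  congr 2
  obtain ⟨h, hh, k, hk, hhk⟩ := hcov t t.2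
  rw [← Finset.card_univ (α := ↥(H ⊓ K : Subgroup G)) |>.trans Nat.card_eq_fintype_card.symm]
  refine Finset.card_bij'
    (fun x _ => ((⟨h * x, mul_mem hh x.2.1⟩ : H), (⟨(x : G)⁻¹ * k, mul_mem (inv_mem x.2.2) hk⟩ : K)))
    (fun x hx => ⟨h⁻¹ * x.1, Subgroup.mem_inf.2 ⟨mul_mem (inv_mem hh) x.1.2, ?_⟩⟩) ?_ ?_ ?_ ?_
  · have e : (x.1 : G) * x.2 = t := congrArg Subtype.val (Finset.mem_filter.1 hx).2
    rw [← hhk] at e
    rw [show h⁻¹ * (x.1 : G) = k * (x.2 : G)⁻¹ by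
      rw [inv_mul_eq_iff_eq_mul, ← mul_assoc, ← e]; group]
    exact mul_mem hk (inv_mem x.2.2)
  · intro x _
    refine Finset.mem_filter.2 ⟨Finset.mem_product.2 ⟨Finset.mem_univ _, Finset.mem_univ _⟩,
      Subtype.ext ?_⟩
    show h * x * ((x : G)⁻¹ * k) = t
    rw [← hhk]
    group
  · intro x _
    exact Finset.mem_univ _
  · intro x _
    exact Subtype.ext (by simp)
  · intro x hx
    have e : (x.1 : G) * x.2 = t := congrArg Subtype.val (Finset.mem_filter.1 hx).2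
    refine Prod.ext (Subtype.ext (by simp)) (Subtype.ext ?_)
    show (h⁻¹ * (x.1 : G))⁻¹ * k = x.2
    rw [_root_.mul_inv_rev, inv_inv, mul_assoc, hhk, ← e]
    group

theorem card_mul_fibre {T H K : Subgroup G} (hH : H ≤ T) (hK : K ≤ T)
    (hcov : ∀ t ∈ T, ∃ h ∈ H, ∃ k ∈ K, h * k = t) :
    Nat.card (H ⊓ K : Subgroup G) * Nat.card T = Nat.card H * Nat.card K := by
  have h := sum_mul_fibre hH hK hcov (fun _ => (1 : ℂ))
  simp [← Nat.card_eq_fintype_card] at h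
  exact_mod_cast h

theorem mlt_natCast (f : D → ℂ) (θ : A → ℂ) (n : ℕ) (h : ip A (cf f) (cf θ) = n) :
    mlt f θ = n := by
  rw [mlt, h]; simp

/-- Restriction to a supplement is a bijection of the characters over invariant characters. -/
theorem card_over_restrict {K T H : Subgroup G} (hAK : A ≤ K) (hKT : K ≤ T) (hHT : H ≤ T)
    (hHK : H ⊓ K = A) (hcov : ∀ t ∈ T, ∃ h ∈ H, ∃ k ∈ K, h * k = t) {ψ : IrrCharacter K}
    {θ : IrrCharacter A} (hT : T ≤ st (ψ : K → ℂ)) (hH : H ≤ st (θ : A → ℂ))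
    (hψ : Extends (ψ : K → ℂ) (θ : A → ℂ)) (hKA : K ≤ Subgroup.normalizer (A : Set G)) :
    Nat.card {χ : IrrCharacter T // mlt (χ : T → ℂ) (ψ : K → ℂ) ≠ 0} =
      Nat.card {φ : IrrCharacter H // mlt (φ : H → ℂ) (θ : A → ℂ) ≠ 0} := by
  classical
  have hAH : A ≤ H := hHK ▸ inf_le_left
  have hcA : (Nat.card A : ℂ) ≠ 0 := by exact_mod_cast Nat.card_pos.ne'
  have hcK : (Nat.card K : ℂ) ≠ 0 := by exact_mod_cast Nat.card_pos.ne'
  have hcard := card_mul_fibre hHT hKT hcov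
  rw [hHK] at hcard
  have hidx : K.relIndex T = A.relIndex H := by
    have h1 := Subgroup.card_mul_index (K.subgroupOf T)
    have h2 := Subgroup.card_mul_index (A.subgroupOf H)
    rw [Nat.card_congr (Subgroup.subgroupOfEquivOfLe hKT).toEquiv] at h1
    rw [Nat.card_congr (Subgroup.subgroupOfEquivOfLe hAH).toEquiv] at h2
    rw [Subgroup.relIndex, Subgroup.relIndex]
    have : Nat.card A * Nat.card K * (K.subgroupOf T).index =
        Nat.card A * Nat.card K * (A.subgroupOf H).index := by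
      calc Nat.card A * Nat.card K * (K.subgroupOf T).index
          = Nat.card A * Nat.card T := by rw [mul_assoc, h1]
        _ = Nat.card H * Nat.card K := hcard
        _ = _ := by rw [← h2]; ring
    exact Nat.eq_of_mul_eq_mul_left (Nat.mul_pos Nat.card_pos Nat.card_pos) this
  -- agreement of the inner products
  have hc : ∀ χ χ' : IrrCharacter T, mlt (χ : T → ℂ) (ψ : K → ℂ) ≠ 0 →
      mlt (χ' : T → ℂ) (ψ : K → ℂ) ≠ 0 →
      classInner (fun h : H => cf (χ : T → ℂ) h) (fun h : H => cf (χ' : T → ℂ) h) =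
        classInner (χ : T → ℂ) (χ' : T → ℂ) := by
    intro χ χ' hχ hχ'
    let F : G → ℂ := fun t => cf (χ : T → ℂ) t * conj (cf (χ' : T → ℂ) t)
    have key : ∀ h : H, ∑ k : K, F (h * k) =
        (Nat.card K : ℂ) * (Nat.card A : ℂ)⁻¹ * ∑ a : A, F (h * a) := by
      intro h
      obtain ⟨η, hη⟩ := exists_eta (hT (hHT h.2))
      obtain ⟨φ, hφ, hφη⟩ := res_of_extends (A := A)
        (B := A ⊔ Subgroup.zpowers (h : G)) le_sup_left
        (sup_le (hAK.trans le_sup_left) le_sup_right)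
        (η := η) (θ := θ) (sup_le (mem_st_of_extends hAK hKA hψ) (Subgroup.zpowers_le.2 (hH h.2))) (fun a ha => by rw [hη a (hAK ha)]; exact hψ a ha)
      have hχ1 := (coef_spec hKT hT (hHT h.2) hη χ).1 hχ
      have hχ1' := (coef_spec hKT hT (hHT h.2) hη χ').1 hχ'
      have e1 := (coset_inner (hT (hHT h.2)) hη η).2 rfl
      have e2 := (coset_inner (hH h.2) hφ φ).2 rfl
      have eK : ∑ k : K, F (h * k) = coef (χ : T → ℂ) (η : ↥(K ⊔ Subgroup.zpowers (h : G)) → ℂ) *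
          conj (coef (χ' : T → ℂ) (η : ↥(K ⊔ Subgroup.zpowers (h : G)) → ℂ)) * Nat.card K := by
        rw [← e1, Finset.mul_sum]
        refine Finset.sum_congr rfl fun k _ => ?_
        simp only [F, hχ1 k k.2, hχ1' k k.2, map_mul]
        ring
      have eA : ∑ a : A, F (h * a) = coef (χ : T → ℂ) (η : ↥(K ⊔ Subgroup.zpowers (h : G)) → ℂ) *
          conj (coef (χ' : T → ℂ) (η : ↥(K ⊔ Subgroup.zpowers (h : G)) → ℂ)) * Nat.card A := by
        rw [← e2, Finset.mul_sum]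
        refine Finset.sum_congr rfl fun a _ => ?_
        simp only [F, hχ1 a (hAK a.2), hχ1' a (hAK a.2), map_mul,
          hφη _ (mul_mem (mem_cyc A (h : G)) (Subgroup.mem_sup_left a.2))]
        ring
      rw [eK, eA]
      field_simp
    have h2 := sum_mul_fibre hHT hKT hcov F
    rw [hHK] at h2
    simp only [key, ← Finset.mul_sum] at h2
    have h3 : ∑ h : H, ∑ a : A, F (h * a) = (Nat.card A : ℂ) * ∑ h : H, F h := by
      have := sum_mul_fibre (T := H) (H := H) (K := A) le_rfl hAH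
        (fun t ht => ⟨t, ht, 1, A.one_mem, mul_one t⟩) F
      rw [inf_eq_right.2 hAH] at this
      exact this.symm
    rw [h3] at h2
    have hT0 : (Nat.card T : ℂ) ≠ 0 := by exact_mod_cast Nat.card_pos.ne'
    have hH0 : (Nat.card H : ℂ) ≠ 0 := by exact_mod_cast Nat.card_pos.ne'
    have hcardC : (Nat.card A : ℂ) * Nat.card T = Nat.card H * Nat.card K := by
      exact_mod_cast hcard
    rw [H12.classInner_def, H12.classInner_def]
    have hsT : ∑ t : T, F t = ∑ t : T, (χ : T → ℂ) t * conj ((χ' : T → ℂ) t) := by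
      simp only [F, cf_coe]
    rw [hsT] at h2
    have hsH : ∑ h : H, F h = ∑ h : H, cf (χ : T → ℂ) h * conj (cf (χ' : T → ℂ) h) := rfl
    rw [hsH] at h2
    generalize ∑ t : T, (χ : T → ℂ) t * conj ((χ' : T → ℂ) t) = ST at h2 ⊢
    generalize ∑ h : H, cf (χ : T → ℂ) h * conj (cf (χ' : T → ℂ) h) = SH at h2 ⊢
    field_simp at h2 ⊢
    apply mul_left_cancel₀ hcA
    linear_combination SH * hcardC - (Nat.card H : ℂ) * h2
  have hdeg : ∀ χ : IrrCharacter T, IsCharacter H (fun h : H => cf (χ : T → ℂ) h) := fun χ =>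
    isCharacter_res hHT (H12.isCharacter_irr χ)
  let r : {χ : IrrCharacter T // mlt (χ : T → ℂ) (ψ : K → ℂ) ≠ 0} → IrrCharacter H := fun χ =>
    ⟨_, H12.isIrrCharacter_of_classInner_self_eq_one (hdeg χ.1)
      (by rw [hc χ.1 χ.1 χ.2 χ.2, H12.classInner_irr_self])⟩
  have hr : Function.Injective r := by
    intro χ χ' he
    by_contra hne
    have h1 := hc χ.1 χ'.1 χ.2 χ'.2
    have he' : (r χ : H → ℂ) = (r χ' : H → ℂ) := by rw [he]
    change classInner (r χ : H → ℂ) (r χ' : H → ℂ) = _ at h1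
    rw [he', H12.classInner_irr_self, H12.classInner_irr_ne fun h => hne (Subtype.ext h)] at h1
    exact one_ne_zero h1
  have hmlt : ∀ χ, mlt (r χ : H → ℂ) (θ : A → ℂ) = mlt (χ.1 : T → ℂ) (ψ : K → ℂ) := by
    intro χ
    refine mlt_natCast _ _ _ ?_
    have e : ∀ a ∈ A, cf (r χ : H → ℂ) a =
        (mlt (χ.1 : T → ℂ) (ψ : K → ℂ) : ℂ) * cf (θ : A → ℂ) a := fun a ha => by
      rw [cf_apply _ (hAH ha)]
      show cf (χ.1 : T → ℂ) a = _
      rw [res_eq_mul hKT hT χ.1 χ.2 (hAK ha), hψ a ha]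
    rw [ip_congr e (fun _ _ => rfl), ip,
      show (fun d : A => (mlt (χ.1 : T → ℂ) (ψ : K → ℂ) : ℂ) * cf (θ : A → ℂ) d) =
        (mlt (χ.1 : T → ℂ) (ψ : K → ℂ) : ℂ) • (θ : A → ℂ) by funext d; simp [cf_coe],
      H12.classInner_smul_left]
    simp only [cf_coe]
    rw [H12.classInner_irr_self, mul_one]
  have himg : ∀ φ : IrrCharacter H, mlt (φ : H → ℂ) (θ : A → ℂ) ≠ 0 → ∃ χ, r χ = φ := by
    intro φ hφ
    by_contra hcon
    push Not at hcon
    have h1 := sum_mlt_sq hKT hT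
    have h2 := sum_mlt_sq hAH hH
    rw [← hidx, ← h1, ← Finset.sum_add_sum_compl (Finset.univ.image r),
      Finset.sum_image fun x _ y _ h => hr h] at h2
    simp only [hmlt] at h2
    have hL : ∑ χ : IrrCharacter T, mlt (χ : T → ℂ) (ψ : K → ℂ) * mlt (χ : T → ℂ) (ψ : K → ℂ) =
        ∑ χ : {χ : IrrCharacter T // mlt (χ : T → ℂ) (ψ : K → ℂ) ≠ 0},
          mlt (χ.1 : T → ℂ) (ψ : K → ℂ) * mlt (χ.1 : T → ℂ) (ψ : K → ℂ) := by
      rw [← Finset.sum_filter_of_ne (p := fun χ : IrrCharacter T =>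
        mlt (χ : T → ℂ) (ψ : K → ℂ) ≠ 0) fun χ _ h => left_ne_zero_of_mul h]
      exact Finset.sum_subtype _ (by simp) _
    rw [hL, add_eq_left, Finset.sum_eq_zero_iff] at h2
    have := h2 φ (by simp [hcon])
    exact hφ (mul_self_eq_zero.1 this)
  refine Nat.card_congr (Equiv.ofBijective
    (fun χ => (⟨r χ, (hmlt χ).symm ▸ χ.2⟩ : {φ : IrrCharacter H // mlt (φ : H → ℂ) (θ : A → ℂ) ≠ 0}))
    ⟨fun a b h => hr (congrArg Subtype.val h), fun φ => ?_⟩)
  obtain ⟨χ, hχ⟩ := himg φ.1 φ.2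
  exact ⟨χ, Subtype.ext hχ⟩

end H87.McKay
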