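import Cfsg.Agent.H87.McKay.Core
import Cfsg.Agent.H10.PSolvable
import Cfsg.Agent.H18.CentralChar

/-!
# Replacing an invariant character by a central linear character
-/

set_option autoImplicit false
set_option linter.unusedSectionVars false
set_option linter.unusedVariables false
set_option linter.style.haveILetI false

open Cfsg
open scoped ComplexConjugate

namespace H87.McKay

attribute [local instance high] Fintype.ofFinite

universe u

/-- A character trivial on the kernel comes from the image. -/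
theorem exists_descend {A B : Type u} [Group A] [Finite A] [Group B] [Finite B] (f : A →* B)
    (hf : Function.Surjective f) (χ : IrrCharacter A)
    (h : ∀ k, f k = 1 → (χ : A → ℂ) k = (χ : A → ℂ) 1) :
    ∃ ψ : IrrCharacter B, ∀ a, (ψ : B → ℂ) (f a) = (χ : A → ℂ) a := by
  obtain ⟨ψ, hψ⟩ := H12.exists_inflate_eq f.ker χ fun k hk => h k hk
  refine ⟨H12.irrCongr (QuotientGroup.quotientKerEquivOfSurjective f hf).symm ψ, fun a => ?_⟩
  rw [H12.irrCongr_apply, ← hψ, H12.inflate_apply,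
    show (QuotientGroup.quotientKerEquivOfSurjective f hf).symm (f a) = (a : A ⧸ f.ker) from
      (MulEquiv.symm_apply_eq _).2 rfl]

variable {G : Type u} [Group G] [Finite G] {p : ℕ} [hp : Fact p.Prime]
variable {L X H S : Subgroup G}

section Count

variable {E : Type u} [Group E] [Finite E] (π : E →* G) (A : Subgroup E) [A.Normal]

/-- The subgroup of the quotient over a subgroup. -/
def tl (H : Subgroup G) : Subgroup (E ⧸ A) := (H.comap π).map (QuotientGroup.mk' A)

theorem tl_relIndex (hAL : A ≤ L.comap π) {U V : Subgroup G} (hLU : L ≤ U) (hUV : U ≤ V)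
    (hV : V ≤ π.range) : (tl π A U).relIndex (tl π A V) = U.relIndex V := by
  rw [tl, tl, Subgroup.relIndex_map_map, QuotientGroup.ker_mk',
    sup_eq_left.2 (hAL.trans (Subgroup.comap_mono hLU)),
    sup_eq_left.2 (hAL.trans (Subgroup.comap_mono (hLU.trans hUV))), Subgroup.relIndex_comap,
    Subgroup.map_comap_eq, inf_eq_right.2 hV]

variable {η : E → ℂ} {ν : IrrCharacter L} {c : π.ker →* ℂˣ} {lam : tl π A L →* ℂˣ}
  (hη : IsCharacter E η) (hinj : ∀ a ∈ A, π a = 1 → a = 1) (hAL : A ≤ L.comap π)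
  (honto : ∀ l ∈ L, ∃ a ∈ A, π a = l) (hηA : ∀ a ∈ A, η a = cf (ν : L → ℂ) (π a))
  (hc : ∀ (x : E) (k : π.ker), η (x * k) = (c k : ℂ) * η x)
  (hlam : ∀ (k : π.ker) (hk : QuotientGroup.mk' A (k : E) ∈ tl π A L),
    (lam ⟨_, hk⟩ : ℂ) * (c k : ℂ) = 1)
  (hZK : ∀ z ∈ tl π A L, ∃ k : π.ker, QuotientGroup.mk' A (k : E) = z)
  (hcen : ∀ z ∈ tl π A L, ∀ q : E ⧸ A, q * z = z * q)

include hη hinj hAL honto hηA hc hlam hZK hcen

theorem cover_count (hν : ¬ p ∣ H12.degree (ν : L → ℂ)) (hLH : L ≤ H) (hH : H ≤ π.range) :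
    cnt p H (ν : L → ℂ) = cnt p (tl π A H) (H12.linIrr lam : tl π A L → ℂ) := by
  classical
  set D := H.comap π with hD
  have hAD : A ≤ D := hAL.trans (Subgroup.comap_mono hLH)
  let f : D →* H := (π.comp D.subtype).codRestrict H fun d => d.2
  have hf : Function.Surjective f := fun h => by
    obtain ⟨d, hd⟩ := hH h.2
    exact ⟨⟨d, Subgroup.mem_comap.2 (hd.symm ▸ h.2)⟩, Subtype.ext hd⟩
  let g : D →* tl π A H := (QuotientGroup.mk' A).subgroupMap D
  have hg : Function.Surjective g := (QuotientGroup.mk' A).subgroupMap_surjective D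
  have hgA : ∀ d : D, g d = 1 ↔ (d : E) ∈ A := fun d => by
    rw [Subtype.ext_iff]
    exact QuotientGroup.eq_one_iff (d : E)
  haveI : (A.subgroupOf D).Normal := inferInstance
  let e : A ≃* L := MulEquiv.ofBijective ((π.comp A.subtype).codRestrict L fun a => hAL a.2)
    ⟨fun a b hab => by
      have : π (a : E) = π (b : E) := congrArg Subtype.val hab
      refine Subtype.ext (inv_mul_eq_one.1 (hinj _ (A.mul_mem (A.inv_mem a.2) b.2) ?_))
      rw [map_mul, map_inv, this, inv_mul_cancel],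
    fun l => by
      obtain ⟨a, ha, hal⟩ := honto l l.2
      exact ⟨⟨a, ha⟩, Subtype.ext hal⟩⟩
  let θA : IrrCharacter A := H12.irrCongr e ν
  have hθA : ∀ a ∈ A, cf (θA : A → ℂ) a = cf (ν : L → ℂ) (π a) := fun a ha => by
    rw [cf_apply _ ha, cf_apply (g := π a) _ (hAL ha)]
    rfl
  let ηD : D → ℂ := fun d => η d
  have hηD : IsCharacter D ηD := H12.IsCharacter.comp hη D.subtype
  have hres : (fun n : A.subgroupOf D => ηD n) = (lift hAD θA : A.subgroupOf D → ℂ) := funext fun n => by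
    rw [lift_apply]
    exact (hηA _ n.2).trans (hθA _ n.2).symm
  have hirr : IsIrrCharacter (A.subgroupOf D) (fun n : A.subgroupOf D => ηD n) :=
    hres ▸ (lift hAD θA).2
  have hη1 : η 1 = (H12.degree (ν : L → ℂ) : ℂ) := by
    rw [hηA 1 A.one_mem, map_one, cast_degree]
  have hZH : tl π A L ≤ tl π A H := Subgroup.map_mono (Subgroup.comap_mono hLH)
  have hcH : ∀ z ∈ tl π A L, ∀ y ∈ tl π A H, y * z = z * y := fun z hz y _ => hcen z hz y
  have hd0 : (H12.degree (ν : L → ℂ) : ℂ) ≠ 0 :=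
    Nat.cast_ne_zero.2 (H12.irr_degree_pos ν).ne'
  -- products with a character of the quotient
  have hprod : ∀ β : IrrCharacter (tl π A H), ∃ γ : IrrCharacter (D ⧸ A.subgroupOf D),
      ∀ d : D, (H13.inflateIrr (A.subgroupOf D) γ : D → ℂ) d = (β : tl π A H → ℂ) (g d) := by
    intro β
    obtain ⟨γ, hγ⟩ := exists_descend (QuotientGroup.mk' (A.subgroupOf D))
      (QuotientGroup.mk'_surjective _)
      ⟨(β : tl π A H → ℂ) ∘ g, H12.IsIrrCharacter.comp_surjective β.2 hg⟩ (fun d hd => by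
        show (β : tl π A H → ℂ) (g d) = (β : tl π A H → ℂ) (g 1)
        rw [(hgA d).2 ((QuotientGroup.eq_one_iff (N := A.subgroupOf D) d).1 hd), map_one])
    exact ⟨γ, fun d => by rw [H13.inflateIrr_apply]; exact hγ d⟩
  choose γ hγ using hprod
  have hmk : ∀ k : π.ker, QuotientGroup.mk' A (k : E) ∈ tl π A L := fun k =>
    ⟨k, Subgroup.mem_comap.2 (by rw [MonoidHom.mem_ker.1 k.2]; exact L.one_mem), rfl⟩
  have hdesc : ∀ β : {β : IrrCharacter (tl π A H) //
      mlt (β : tl π A H → ℂ) (H12.linIrr lam : tl π A L → ℂ) ≠ 0},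
      ∃ χ : IrrCharacter H, ∀ d : D, (χ : H → ℂ) (f d) =
        (β.1 : tl π A H → ℂ) (g d) * η d := by
    intro β
    obtain ⟨χ, hχ⟩ := exists_descend f hf ⟨_, H13.gallagher_isIrr (A.subgroupOf D) hηD hirr (γ β.1)⟩
      (fun d hd => by
        have hdk : π (d : E) = 1 := congrArg Subtype.val hd
        have hval := (over_linear_iff hZH hcH lam β.1).1 β.2
          ⟨_, hmk ⟨d, MonoidHom.mem_ker.2 hdk⟩⟩
        rw [cf_apply _ (hZH (hmk ⟨d, MonoidHom.mem_ker.2 hdk⟩))] at hval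
        show (H13.inflateIrr _ (γ β.1) : D → ℂ) d * η d =
          (H13.inflateIrr _ (γ β.1) : D → ℂ) 1 * η 1
        rw [hγ, hγ, map_one, H12.irr_apply_one]
        have hck : η d = (c ⟨d, MonoidHom.mem_ker.2 hdk⟩ : ℂ) * η 1 := by
          have := hc 1 ⟨d, MonoidHom.mem_ker.2 hdk⟩
          rwa [one_mul] at this
        rw [hck]
        calc (β.1 : tl π A H → ℂ) (g d) * ((c ⟨d, MonoidHom.mem_ker.2 hdk⟩ : ℂ) * η 1)
            = (H12.degree (β.1 : tl π A H → ℂ) : ℂ) *
              (lam ⟨_, hmk ⟨d, MonoidHom.mem_ker.2 hdk⟩⟩ : ℂ) *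
              ((c ⟨d, MonoidHom.mem_ker.2 hdk⟩ : ℂ) * η 1) := by
                rw [← hval]; rfl
          _ = _ := by
                rw [mul_assoc, ← mul_assoc (lam _ : ℂ), hlam ⟨d, MonoidHom.mem_ker.2 hdk⟩, one_mul])
    refine ⟨χ, fun d => (hχ d).trans ?_⟩
    show (H13.inflateIrr _ (γ β.1) : D → ℂ) d * η d = _
    rw [hγ]
  choose Ψ hΨ using hdesc
  have hΨdeg : ∀ β, H12.degree (Ψ β : H → ℂ) =
      H12.degree (β.1 : tl π A H → ℂ) * H12.degree (ν : L → ℂ) := by
    intro β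
    have h1 := hΨ β 1
    rw [map_one, map_one, H12.irr_apply_one, H12.irr_apply_one, OneMemClass.coe_one, hη1] at h1
    exact_mod_cast h1
  have hΨν : ∀ β, mlt (Ψ β : H → ℂ) (ν : L → ℂ) ≠ 0 := by
    intro β
    have hval : ∀ l ∈ L, cf (Ψ β : H → ℂ) l =
        (H12.degree (β.1 : tl π A H → ℂ) : ℂ) * cf (ν : L → ℂ) l := by
      intro l hl
      obtain ⟨a, ha, rfl⟩ := honto l hl
      rw [cf_apply _ (hLH hl), ← hηA a ha,
        show (⟨π a, hLH hl⟩ : H) = f ⟨a, hAD ha⟩ from rfl, hΨ,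
        (hgA ⟨a, hAD ha⟩).2 ha, H12.irr_apply_one]
    rw [mlt_ne_zero_iff hLH, ip_congr
      (g := fun l => (H12.degree (β.1 : tl π A H → ℂ) : ℂ) * cf (ν : L → ℂ) l) hval
      (fun _ _ => rfl), ip,
      show (fun d : L => (H12.degree (β.1 : tl π A H → ℂ) : ℂ) * cf (ν : L → ℂ) d) =
        (H12.degree (β.1 : tl π A H → ℂ) : ℂ) • (ν : L → ℂ) by funext d; simp [cf_coe],
      H12.classInner_smul_left]
    simp only [cf_coe]
    rw [H12.classInner_irr_self, mul_one, Nat.cast_ne_zero]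
    exact (H12.irr_degree_pos β.1).ne'
  have hΨinj : Function.Injective Ψ := by
    intro β β' h
    have h1 : γ β.1 = γ β'.1 := H13.gallagher_injective (A.subgroupOf D) hηD hirr (funext fun d => by
      show (H13.inflateIrr _ (γ β.1) : D → ℂ) d * η d = (H13.inflateIrr _ (γ β'.1) : D → ℂ) d * η d
      rw [hγ, hγ, ← hΨ β d, ← hΨ β' d, h])
    refine Subtype.ext (Subtype.ext (funext fun q => ?_))
    obtain ⟨d, rfl⟩ := hg q
    rw [← hγ, ← hγ, h1]
  have hΨsurj : ∀ χ : IrrCharacter H, mlt (χ : H → ℂ) (ν : L → ℂ) ≠ 0 → ∃ β, Ψ β = χ := by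
    intro χ hχ
    let φ : IrrCharacter D := ⟨(χ : H → ℂ) ∘ f, H12.IsIrrCharacter.comp_surjective χ.2 hf⟩
    have hne : classInner (fun n : A.subgroupOf D => (φ : D → ℂ) n)
        (fun n : A.subgroupOf D => ηD n) ≠ 0 := by
      rw [hres, show (fun n : A.subgroupOf D => (φ : D → ℂ) n) =
          fun n : A.subgroupOf D => (fun x => cf (χ : H → ℂ) (π x)) ((n : D) : E) from
        funext fun n => (cf_apply (χ : H → ℂ) (n : D).2).symm]
      have key : classInner (fun n : A.subgroupOf D => (fun x => cf (χ : H → ℂ) (π x)) ((n : D) : E))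
          (lift hAD θA : A.subgroupOf D → ℂ) = ip L (cf (χ : H → ℂ)) (cf (ν : L → ℂ)) := by
        rw [ip, ← H12.classInner_comp_equiv ((Subgroup.subgroupOfEquivOfLe hAD).trans e)
          (fun l : L => cf (χ : H → ℂ) l)]
        congr 1
        funext n
        rw [lift_apply, hθA ((n : D) : E) n.2]
        rfl
      rw [key]
      exact (mlt_ne_zero_iff hLH χ ν).1 hχ
    obtain ⟨δ, hδ⟩ := H13.gallagher_exists (A.subgroupOf D) hηD hirr φ.2 hne
    obtain ⟨β, hβ⟩ := exists_descend g hg (H13.inflateIrr (A.subgroupOf D) δ) (fun d hd => by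
      rw [H13.inflateIrr_apply, H13.inflateIrr_apply,
        (QuotientGroup.eq_one_iff (N := A.subgroupOf D) d).2 ((hgA d).1 hd), QuotientGroup.mk_one])
    have hval : ∀ d : D, (χ : H → ℂ) (f d) = (β : tl π A H → ℂ) (g d) * η d := fun d => by
      rw [hβ]; exact congrFun hδ d
    have hover : mlt (β : tl π A H → ℂ) (H12.linIrr lam : tl π A L → ℂ) ≠ 0 := by
      rw [over_linear_iff hZH hcH]
      rintro ⟨z, hz⟩
      obtain ⟨k, rfl⟩ := hZK z hz
      have hkD : (k : E) ∈ D :=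
        Subgroup.mem_comap.2 (by rw [MonoidHom.mem_ker.1 k.2]; exact H.one_mem)
      have h1 := hval ⟨k, hkD⟩
      have h2 := hval 1
      rw [show f ⟨k, hkD⟩ = 1 from Subtype.ext (MonoidHom.mem_ker.1 k.2)] at h1
      rw [map_one, map_one, H12.irr_apply_one β] at h2
      have hck : η (k : E) = (c k : ℂ) * η 1 := by
        have := hc 1 k
        rwa [one_mul] at this
      rw [hck, h2, OneMemClass.coe_one, hη1] at h1
      show cf (β : tl π A H → ℂ) _ = (H12.degree (β : tl π A H → ℂ) : ℂ) * (lam ⟨_, hz⟩ : ℂ)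
      rw [cf_apply _ (hZH hz)]
      have h3 : (H12.degree (β : tl π A H → ℂ) : ℂ) =
          (β : tl π A H → ℂ) (g ⟨k, hkD⟩) * (c k : ℂ) := by
        refine mul_right_cancel₀ hd0 ?_
        rw [h1]
        show (β : tl π A H → ℂ) (g ⟨k, hkD⟩) * ((c k : ℂ) * _) = _
        ring
      have h4 := hlam k hz
      show (β : tl π A H → ℂ) (g ⟨k, hkD⟩) = _
      calc (β : tl π A H → ℂ) (g ⟨k, hkD⟩)
          = (β : tl π A H → ℂ) (g ⟨k, hkD⟩) * ((lam ⟨_, hz⟩ : ℂ) * (c k : ℂ)) := by rw [h4, mul_one]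
        _ = _ := by rw [h3]; ring
    refine ⟨⟨β, hover⟩, Subtype.ext (funext fun h => ?_)⟩
    obtain ⟨d, rfl⟩ := hf h
    rw [hΨ, hval]
  have hiff : ∀ β, ¬ p ∣ H12.degree (Ψ β : H → ℂ) ↔ ¬ p ∣ H12.degree (β.1 : tl π A H → ℂ) :=
    fun β => by
      rw [hΨdeg, hp.out.dvd_mul]
      tauto
  refine (Nat.card_congr (Equiv.ofBijective
    (fun z : {β : IrrCharacter (tl π A H) // ¬ p ∣ H12.degree (β : tl π A H → ℂ) ∧
        mlt (β : tl π A H → ℂ) (H12.linIrr lam : tl π A L → ℂ) ≠ 0} =>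
      (⟨Ψ ⟨z.1, z.2.2⟩, (hiff _).2 z.2.1, hΨν _⟩ :
        {χ : IrrCharacter H // ¬ p ∣ H12.degree (χ : H → ℂ) ∧ mlt (χ : H → ℂ) (ν : L → ℂ) ≠ 0}))
    ⟨fun a b h => Subtype.ext (Subtype.mk.inj (hΨinj (congrArg Subtype.val h))),
      fun χ => ?_⟩)).symm
  obtain ⟨β, hβ⟩ := hΨsurj χ.1 χ.2.2
  exact ⟨⟨β.1, (hiff β).1 (hβ.symm ▸ χ.2.1), β.2⟩, Subtype.ext hβ⟩

end Count

/-- An invariant character may be replaced by a central linear character. -/
theorem exists_central_cover (hLX : L ≤ X) (hXL : X ≤ Subgroup.normalizer (L : Set G))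
    (ν : IrrCharacter L) (hν : X ≤ st (ν : L → ℂ)) (hνp : ¬ p ∣ H12.degree (ν : L → ℂ))
    (hS : IsSyl p S X) (hsol : IsPSolvable p X) :
    ∃ (Q : Type u) (_ : Group Q) (_ : Finite Q) (Z S' : Subgroup Q) (lam : Z →* ℂˣ),
      IsPSolvable p Q ∧ (∀ z ∈ Z, ∀ q : Q, q * z = z * q) ∧
      Z.relIndex ⊤ = L.relIndex X ∧ IsSyl p S' ⊤ ∧
      cnt p X (ν : L → ℂ) = cnt p (⊤ : Subgroup Q) (H12.linIrr lam : Z → ℂ) ∧
      cnt p (X ⊓ Subgroup.normalizer ((L ⊔ S : Subgroup G) : Set G)) (ν : L → ℂ) =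
        cnt p ((⊤ : Subgroup Q) ⊓ Subgroup.normalizer ((Z ⊔ S' : Subgroup Q) : Set Q))
          (H12.linIrr lam : Z → ℂ) := by
  classical
  haveI := normal_of_le hXL
  obtain ⟨n, ρ, hρ, hρχ⟩ := (lift hLX ν).2
  haveI := hρ
  obtain ⟨E, instE, finE, π0, ι, η, hπ0, hπι, hnorm, hcent, hη⟩ :=
    H15.exists_cover (ρ := ρ) (R := L.subgroupOf X) (fun x r => by
      rw [hρχ, lift_apply, lift_apply]
      have e : ((MulAut.conjNormal x r : L.subgroupOf X) : X) = x * r * x⁻¹ := by simp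
      rw [e]
      exact (hν x.2).2 _ r.2)
  letI := instE
  haveI := finE
  haveI := hnorm
  set π : E →* G := X.subtype.comp π0 with hπ
  set A : Subgroup E := ι.range with hA
  have hrange : X ≤ π.range := fun x hx => by
    obtain ⟨e, he⟩ := hπ0 ⟨x, hx⟩
    exact ⟨e, congrArg Subtype.val he⟩
  have hπA : ∀ r, π (ι r) = ((r : X) : G) := fun r => congrArg Subtype.val (hπι r)
  have hAL : A ≤ L.comap π := by
    rintro _ ⟨r, rfl⟩
    rw [Subgroup.mem_comap, hπA]
    exact r.2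
  have hinj : ∀ a ∈ A, π a = 1 → a = 1 := by
    rintro _ ⟨r, rfl⟩ h
    rw [hπA] at h
    rw [show r = 1 from Subtype.ext (Subtype.ext h), map_one]
  have honto : ∀ l ∈ L, ∃ a ∈ A, π a = l := fun l hl =>
    ⟨ι ⟨⟨l, hLX hl⟩, hl⟩, ⟨_, rfl⟩, hπA _⟩
  have hker : ∀ k : π.ker, (k : E) ∈ Subgroup.center E := fun k =>
    hcent k (Subtype.ext (MonoidHom.mem_ker.1 k.2))
  haveI : η.IsIrreducible := H15.isIrreducible_of_res (ρ := ρ) ι η hη
  obtain ⟨ω, hω⟩ := H18.exists_central_scalar (H12.irrOf η)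
  let inc : π.ker →* Subgroup.center E :=
    (π.ker.subtype).codRestrict _ hker
  let c : π.ker →* ℂˣ := ω.comp inc
  have hc : ∀ (x : E) (k : π.ker), η.character (x * k) = (c k : ℂ) * η.character x := fun x k =>
    hω (inc k) x
  have hηA : ∀ a ∈ A, η.character a = cf (ν : L → ℂ) (π a) := by
    rintro _ ⟨r, rfl⟩
    rw [hπA, Representation.character, hη, ← Representation.character, hρχ, lift_apply]
  have hmem : ∀ k : π.ker, QuotientGroup.mk' A (k : E) ∈ tl π A L := fun k =>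
    ⟨k, Subgroup.mem_comap.2 (by rw [MonoidHom.mem_ker.1 k.2]; exact L.one_mem), rfl⟩
  let j : π.ker →* tl π A L := ((QuotientGroup.mk' A).comp π.ker.subtype).codRestrict _ hmem
  have hZK : ∀ z ∈ tl π A L, ∃ k : π.ker, QuotientGroup.mk' A (k : E) = z := by
    rintro _ ⟨x, hx, rfl⟩
    obtain ⟨a, ha, hax⟩ := honto _ hx
    refine ⟨⟨a⁻¹ * x, MonoidHom.mem_ker.2 (by rw [map_mul, map_inv, hax, inv_mul_cancel])⟩, ?_⟩
    rw [QuotientGroup.mk'_apply, QuotientGroup.mk'_apply, QuotientGroup.eq,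
      show (a⁻¹ * x)⁻¹ * x = x⁻¹ * a * x by group]
    exact (inferInstance : A.Normal).conj_mem' a ha x
  have hj : Function.Bijective j := by
    refine ⟨fun k k' h => ?_, fun z => ?_⟩
    · have h1 : (k : E)⁻¹ * k' ∈ A := QuotientGroup.eq.1 (congrArg Subtype.val h)
      refine Subtype.ext (inv_mul_eq_one.1 (hinj _ h1 ?_))
      rw [map_mul, map_inv, MonoidHom.mem_ker.1 k.2, MonoidHom.mem_ker.1 k'.2, inv_one, one_mul]
    · obtain ⟨k, hk⟩ := hZK z z.2
      exact ⟨k, Subtype.ext hk⟩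
  let lam : tl π A L →* ℂˣ := (c.comp (MulEquiv.ofBijective j hj).symm.toMonoidHom)⁻¹
  have hlam : ∀ (k : π.ker) (hk : QuotientGroup.mk' A (k : E) ∈ tl π A L),
      (lam ⟨_, hk⟩ : ℂ) * (c k : ℂ) = 1 := fun k hk => by
    have e : (MulEquiv.ofBijective j hj).symm ⟨_, hk⟩ = k := (MulEquiv.symm_apply_eq _).2 rfl
    show (((c.comp (MulEquiv.ofBijective j hj).symm.toMonoidHom) ⟨_, hk⟩)⁻¹ : ℂˣ).1 * _ = 1
    rw [MonoidHom.comp_apply, MulEquiv.coe_toMonoidHom, e, Units.inv_mul]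
  have hcen : ∀ z ∈ tl π A L, ∀ q : E ⧸ A, q * z = z * q := by
    intro z hz q
    obtain ⟨k, rfl⟩ := hZK z hz
    obtain ⟨y, rfl⟩ := QuotientGroup.mk'_surjective A q
    rw [← map_mul, ← map_mul, Subgroup.mem_center_iff.1 (hker k) y]
  have hcount : ∀ {H : Subgroup G}, L ≤ H → H ≤ X →
      cnt p H (ν : L → ℂ) = cnt p (tl π A H) (H12.linIrr lam : tl π A L → ℂ) := fun h1 h2 =>
    cover_count π A (H12.isCharacter_character η) hinj hAL honto hηA hc hlam hZK hcen hνp h1
      (h2.trans hrange)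
  have htop : tl π A X = ⊤ := by
    rw [eq_top_iff]
    intro q _
    obtain ⟨y, rfl⟩ := QuotientGroup.mk'_surjective A q
    exact ⟨y, Subgroup.mem_comap.2 (π0 y).2, rfl⟩
  set P := L ⊔ S with hP
  have hPX : P ≤ X := sup_le hLX hS.le
  obtain ⟨S'⟩ : Nonempty (Sylow p (tl π A P)) := inferInstance
  set T : Subgroup (E ⧸ A) := (S' : Subgroup (tl π A P)).map (tl π A P).subtype with hT
  have hTP : T ≤ tl π A P := Subgroup.map_subtype_le _
  have hTi : ¬ p ∣ T.relIndex (tl π A P) := by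
    rw [Subgroup.relIndex, Subgroup.subgroupOf,
      Subgroup.comap_map_eq_self_of_injective (tl π A P).subtype_injective]
    exact S'.not_dvd_index
  have hT' : IsSyl p T (⊤ : Subgroup (E ⧸ A)) := by
    refine ⟨le_top, S'.isPGroup'.map _, ?_⟩
    rw [← Subgroup.relIndex_mul_relIndex T (tl π A P) ⊤ hTP le_top, hp.out.dvd_mul]
    rintro (h | h)
    · exact hTi h
    · rw [← htop, tl_relIndex π A hAL le_sup_left hPX hrange] at h
      exact hS.index_le le_sup_right hPX h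
  have hPeq : tl π A L ⊔ T = tl π A P := by
    have hLP : tl π A L ≤ tl π A P := Subgroup.map_mono (Subgroup.comap_mono le_sup_left)
    refine le_antisymm (sup_le hLP hTP) (Subgroup.relIndex_eq_one.1 ?_)
    have h1 := Subgroup.relIndex_dvd_of_le_left (tl π A P)
      (le_sup_left : tl π A L ≤ tl π A L ⊔ T)
    have h2 := Subgroup.relIndex_dvd_of_le_left (tl π A P)
      (le_sup_right : T ≤ tl π A L ⊔ T)
    rw [tl_relIndex π A hAL le_rfl le_sup_left (hPX.trans hrange)] at h1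
    obtain ⟨k, hk⟩ : ∃ k, L.relIndex P = p ^ k := by
      have hSL : S ≤ Subgroup.normalizer (L : Set G) := hS.le.trans hXL
      have hcov : ∀ t ∈ L ⊔ S, ∃ l ∈ L, ∃ s ∈ S, l * s = t := fun t ht => by
        have ht' : t ∈ ((L ⊔ S : Subgroup G) : Set G) := ht
        rw [Subgroup.coe_mul_of_right_le_normalizer_left _ _ hSL] at ht'
        exact ht'
      have e1 := card_mul_fibre le_sup_left le_sup_right hcov
      have e2 := Subgroup.card_mul_index (L.subgroupOf P)
      rw [Nat.card_congr (Subgroup.subgroupOfEquivOfLe (le_sup_left : L ≤ P)).toEquiv,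
        ← Subgroup.relIndex] at e2
      have e3 : L.relIndex P ∣ Nat.card S := by
        refine Nat.dvd_of_mul_dvd_mul_left (Nat.card_pos (α := L)) ?_
        rw [e2, ← e1]
        exact dvd_mul_left _ _
      obtain ⟨i, hi⟩ := IsPGroup.iff_card.1 hS.pgroup
      obtain ⟨k, -, hk⟩ := (Nat.dvd_prime_pow hp.out).1 (hi ▸ e3)
      exact ⟨k, hk⟩
    rw [hk] at h1
    obtain ⟨i, -, hi⟩ := (Nat.dvd_prime_pow hp.out).1 h1
    rw [hi] at h2 ⊢
    rcases Nat.eq_zero_or_pos i with rfl | hi0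
    · exact pow_zero p
    · exact absurd ((dvd_pow_self p hi0.ne').trans h2) hTi
  have hN : Subgroup.normalizer ((tl π A P : Subgroup (E ⧸ A)) : Set (E ⧸ A)) =
      tl π A (X ⊓ Subgroup.normalizer ((P : Subgroup G) : Set G)) := by
    have hAP : A ≤ P.comap π := hAL.trans (Subgroup.comap_mono le_sup_left)
    refine Subgroup.comap_injective (QuotientGroup.mk'_surjective A) ?_
    rw [Subgroup.comap_normalizer_eq_of_surjective _ (QuotientGroup.mk'_surjective A), tl, tl,
      Subgroup.comap_map_eq, Subgroup.comap_map_eq, QuotientGroup.ker_mk', sup_eq_left.2 hAP,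
      sup_eq_left.2 (hAL.trans (Subgroup.comap_mono (le_inf hLX
        (le_sup_left.trans Subgroup.le_normalizer))))]
    refine Subgroup.ext fun y => ?_
    rw [Subgroup.mem_comap, Subgroup.mem_inf, Subgroup.mem_normalizer_iff, Subgroup.mem_normalizer_iff]
    refine ⟨fun h => ⟨(π0 y).2, fun z => ?_⟩, fun h x => ?_⟩
    · constructor
      · intro hz
        obtain ⟨x, rfl⟩ := hrange (hPX hz)
        have := (h x).1 hz
        rwa [Subgroup.mem_comap, map_mul, map_mul, map_inv] at this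
      · intro hz
        obtain ⟨x, hx⟩ := hrange (hPX hz)
        have := (h (y⁻¹ * x * y)).2 (by
          rw [Subgroup.mem_comap, show y * (y⁻¹ * x * y) * y⁻¹ = x by group, hx]
          exact hz)
        rw [Subgroup.mem_comap, map_mul, map_mul, map_inv, hx] at this
        simpa [mul_assoc] using this
    · rw [Subgroup.mem_comap, Subgroup.mem_comap, map_mul, map_mul, map_inv]
      exact h.2 (π x)
  refine ⟨E ⧸ A, inferInstance, inferInstance, tl π A L, T, lam, ?_, hcen, ?_, hT', ?_, ?_⟩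
  · refine H10.isPSolvable_quotient ?_ A
    haveI : Group.IsSolvable π0.ker := Group.isSolvable_of_comm fun a b =>
      Subtype.ext (Subgroup.mem_center_iff.1 (hcent b (MonoidHom.mem_ker.1 b.2)) a)
    exact H10.isPSolvable_of_normal π0.ker H10.isPSolvable_of_isSolvable
      (H10.isPSolvable_of_equiv hsol (QuotientGroup.quotientKerEquivOfSurjective π0 hπ0).symm)
  · rw [← htop, tl_relIndex π A hAL le_rfl hLX hrange]
  · rw [← htop]
    exact hcount hLX le_rfl
  · rw [hPeq, hN, top_inf_eq]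
    exact hcount (le_inf hLX (le_sup_left.trans Subgroup.le_normalizer)) inf_le_left

end H87.McKay
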