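import Cfsg.Agent.H87.McKay.CoreMain
import Cfsg.Agent.H87.McKay.Cover

/-!
# The relative McKay count for `p`-solvable groups
-/

set_option autoImplicit false
set_option linter.unusedSectionVars false
set_option linter.unusedVariables false
set_option linter.style.haveILetI false

open Cfsg
open scoped ComplexConjugate

namespace H87.McKay

attribute [local instance high] Fintype.ofFinite

universe u

variable {p : ℕ} [hp : Fact p.Prime]

/-- The count at index `n`. -/
def McKayAt (p n : ℕ) : Prop :=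
  ∀ (G : Type u) [Group G] [Finite G] (L X S : Subgroup G), L.relIndex X = n → L ≤ X →
    X ≤ Subgroup.normalizer (L : Set G) → IsSyl p S X → IsPSolvable p X →
    ∀ ν : IrrCharacter L, S ≤ st (ν : L → ℂ) →
      cnt p X (ν : L → ℂ) =
        cnt p (X ⊓ Subgroup.normalizer ((L ⊔ S : Subgroup G) : Set G)) (ν : L → ℂ)

variable {G : Type u} [Group G] [Finite G] {A B L M X X' S : Subgroup G}

theorem mem_normalizer_sup {x : G} (ha : x ∈ Subgroup.normalizer (A : Set G))
    (hb : x ∈ Subgroup.normalizer (B : Set G)) :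
    x ∈ Subgroup.normalizer ((A ⊔ B : Subgroup G) : Set G) := by
  have key : (A ⊔ B).map (MulAut.conj x).toMonoidHom ≤ A ⊔ B := by
    rw [Subgroup.map_sup]
    refine sup_le ?_ ?_
    · rintro _ ⟨a, h, rfl⟩
      exact Subgroup.mem_sup_left ((Subgroup.mem_normalizer_iff.1 ha a).1 h)
    · rintro _ ⟨a, h, rfl⟩
      exact Subgroup.mem_sup_right ((Subgroup.mem_normalizer_iff.1 hb a).1 h)
  exact Subgroup.mem_normalizer_fintype fun y hy => key ⟨y, hy, rfl⟩

open scoped Classical in
/-- Two groups with the same Sylow normalizer agree once they agree over each fixed character of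
an intermediate normal subgroup. -/
theorem cnt_congr_of_layer (hLM : L ≤ M) (hMX' : M ≤ X') (hX'X : X' ≤ X)
    (hXM : X ≤ Subgroup.normalizer (M : Set G)) (hS : IsSyl p S X) (hSX' : S ≤ X')
    (hN : X ⊓ Subgroup.normalizer (S : Set G) = X' ⊓ Subgroup.normalizer (S : Set G))
    {ν : IrrCharacter L} (hν : X ≤ st (ν : L → ℂ))
    (h : ∀ θ : IrrCharacter M, S ≤ st (θ : M → ℂ) →
      cnt p X (θ : M → ℂ) = cnt p X' (θ : M → ℂ)) :
    cnt p X (ν : L → ℂ) = cnt p X' (ν : L → ℂ) := by
  have he : (cnt p X (ν : L → ℂ) : ℚ) = (cnt p X' (ν : L → ℂ) : ℚ) := by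
    rw [cnt_sum hLM (hMX'.trans hX'X) hXM hS hν,
      cnt_sum hLM hMX' (hX'X.trans hXM) (hS.mono hSX' hX'X) (hX'X.trans hν)]
    refine Finset.sum_congr rfl fun θ _ => ?_
    rw [h θ.1 θ.2.1]
    congr 2
    exact Nat.card_congr (Equiv.subtypeEquivRight fun θ' => sconj_congr hN θ.1 θ'.1)
  exact_mod_cast he

theorem central_step {n : ℕ} (ih : ∀ m < n, McKayAt.{u} p m) {Q : Type u} [Group Q] [Finite Q]
    {Z S : Subgroup Q} (hn : Z.relIndex ⊤ = n) (hcen : ∀ z ∈ Z, ∀ q : Q, q * z = z * q)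
    (hS : IsSyl p S ⊤) (hsol : IsPSolvable p Q) (lam : Z →* ℂˣ) :
    cnt p (⊤ : Subgroup Q) (H12.linIrr lam : Z → ℂ) =
      cnt p ((⊤ : Subgroup Q) ⊓ Subgroup.normalizer ((Z ⊔ S : Subgroup Q) : Set Q))
        (H12.linIrr lam : Z → ℂ) := by
  by_cases hZ : Z = ⊤
  · have e : (⊤ : Subgroup Q) ⊓ Subgroup.normalizer ((Z ⊔ S : Subgroup Q) : Set Q) = ⊤ := by
      rw [top_inf_eq, hZ, top_sup_eq, eq_top_iff]
      exact Subgroup.le_normalizer
    rw [e]
  haveI : Z.Normal := ⟨fun z hz q => by rw [hcen z hz q, mul_inv_cancel_right]; exact hz⟩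
  haveI : Nontrivial (Q ⧸ Z) := QuotientGroup.nontrivial_iff.2 hZ
  have hsolq := H10.isPSolvable_quotient hsol Z
  have hsolT : IsPSolvable p (⊤ : Subgroup Q) := H10.isPSolvable_subgroup hsol ⊤
  obtain ⟨N0, hN0, hne, hsize⟩ : ∃ N0 : Subgroup (Q ⧸ Z), N0.Normal ∧ N0 ≠ ⊥ ∧
      ((∃ k, Nat.card N0 = p ^ k) ∨ ¬ p ∣ Nat.card N0) := by
    rcases H10.pCore_or_pPrimeCore_ne_bot hsolq with h | h
    · exact ⟨_, inferInstance, h, Or.inl (IsPGroup.iff_card.1 H10.pCore_isPGroup)⟩
    · exact ⟨_, inferInstance, h, Or.inr fun hd => hp.out.one_lt.ne'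
        (Nat.eq_one_of_dvd_coprimes H10.pPrimeCore_coprime hd dvd_rfl)⟩
  set M : Subgroup Q := N0.comap (QuotientGroup.mk' Z) with hMdef
  haveI : M.Normal := hN0.comap _
  have hZM : Z ≤ M := fun z hz => by
    show QuotientGroup.mk' Z z ∈ N0
    rw [QuotientGroup.mk'_apply, (QuotientGroup.eq_one_iff z).2 hz]
    exact one_mem _
  have hZMi : Z.relIndex M = Nat.card N0 := by
    conv_lhs => rw [← QuotientGroup.ker_mk' Z]
    rw [Subgroup.relIndex_ker, Subgroup.map_comap_eq_self_of_surjective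
      (QuotientGroup.mk'_surjective Z)]
  have hlt : M.relIndex ⊤ < n := by
    rw [← hn, ← Subgroup.relIndex_mul_relIndex Z M ⊤ hZM le_top, hZMi]
    refine lt_mul_of_one_lt_left (Nat.pos_of_ne_zero Subgroup.index_ne_zero_of_finite) ?_
    exact (Subgroup.one_lt_card_iff_ne_bot N0).2 hne
  have hXM : (⊤ : Subgroup Q) ≤ Subgroup.normalizer (M : Set Q) :=
    (Subgroup.normalizer_eq_top (H := M)).ge
  have hXZ : ∀ x : Q, x ∈ Subgroup.normalizer (Z : Set Q) := fun x =>
    (Subgroup.normalizer_eq_top (H := Z)).ge trivial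
  have hst : (⊤ : Subgroup Q) ≤ st (H12.linIrr lam : Z → ℂ) :=
    central_le_st (fun z hz y _ => hcen z hz y) _
  have hM := ih _ hlt Q M ⊤ S rfl le_top hXM hS hsolT
  have hNS : ∀ {V : Subgroup Q}, (∀ x : Q, x ∈ Subgroup.normalizer (V : Set Q)) →
      (⊤ : Subgroup Q) ⊓ Subgroup.normalizer (S : Set Q) =
        ((⊤ : Subgroup Q) ⊓ Subgroup.normalizer ((V ⊔ S : Subgroup Q) : Set Q)) ⊓
          Subgroup.normalizer (S : Set Q) := fun {V} hV =>
    le_antisymm (le_inf (le_inf inf_le_left fun x hx => mem_normalizer_sup (hV x) hx.2) inf_le_right)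
      (inf_le_inf_right _ inf_le_left)
  have hSV : ∀ {V : Subgroup Q}, S ≤ (⊤ : Subgroup Q) ⊓
      Subgroup.normalizer ((V ⊔ S : Subgroup Q) : Set Q) := fun {V} =>
    le_inf le_top (le_sup_right.trans Subgroup.le_normalizer)
  rcases hsize with ⟨k, hk⟩ | hp'
  · have hMP : M ≤ Z ⊔ S := by
      refine Subgroup.relIndex_eq_one.1 ?_
      have h1 := Subgroup.relIndex_dvd_of_le_left M (le_sup_left : Z ≤ Z ⊔ S)
      rw [hZMi, hk] at h1
      have h2 := Subgroup.relIndex_dvd_of_le_left M (le_sup_right : S ≤ Z ⊔ S)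
      have h3 := hS.not_dvd_inter (T := M) le_top (le_top.trans hXM)
      obtain ⟨i, -, hi⟩ := (Nat.dvd_prime_pow hp.out).1 h1
      rw [hi] at h2 ⊢
      rcases Nat.eq_zero_or_pos i with rfl | hi0
      · exact pow_zero p
      · exact absurd ((dvd_pow_self p hi0.ne').trans h2) h3
    have hMS : M ⊔ S = Z ⊔ S := le_antisymm (sup_le hMP le_sup_right) (sup_le_sup_right hZM S)
    refine cnt_congr_of_layer hZM (le_inf le_top (hMP.trans Subgroup.le_normalizer)) inf_le_left
      hXM hS hSV (hNS hXZ) hst fun θ hθ => ?_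
    rw [hM θ hθ, hMS]
  · set Y : Subgroup Q := (⊤ : Subgroup Q) ⊓ Subgroup.normalizer ((M ⊔ S : Subgroup Q) : Set Q)
    have hMY : M ≤ Y := le_inf le_top (le_sup_left.trans Subgroup.le_normalizer)
    have h1 : cnt p (⊤ : Subgroup Q) (H12.linIrr lam : Z → ℂ) =
        cnt p Y (H12.linIrr lam : Z → ℂ) :=
      cnt_congr_of_layer hZM hMY inf_le_left hXM hS hSV (hNS fun x => hXM trivial) hst
        fun θ hθ => hM θ hθ
    have h2 := core hZM hMY (le_top.trans hXM) (fun z hz y _ => hcen z hz y) (hZMi ▸ hp')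
      (hS.mono hSV le_top) inf_le_right lam
    have e : Subgroup.normalizer ((Z ⊔ S : Subgroup Q) : Set Q) =
        Subgroup.normalizer (S : Set Q) := by
      refine le_antisymm (fun x hx => ?_) fun x hx => mem_normalizer_sup (hXZ x) hx
      have hPS : Z ⊔ S ≤ Subgroup.normalizer (S : Set Q) :=
        sup_le (fun z hz => Subgroup.mem_normalizer_fintype fun s hs => by
          rw [← hcen z hz s, mul_inv_cancel_right]; exact hs) Subgroup.le_normalizer
      obtain ⟨t, ht, htx⟩ := hS.frattini (T := Z ⊔ S) le_sup_right le_top (x := x) trivial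
        fun s hs => (Subgroup.mem_normalizer_iff.1 hx s).1 (Subgroup.mem_sup_right hs)
      exact ((Subgroup.normalizer (S : Set Q)).mul_mem_cancel_left (hPS ht)).1 htx
    rw [h1, h2, e, ← hNS fun x => hXM trivial]

theorem mcKayAt (p : ℕ) [Fact p.Prime] : ∀ n, McKayAt.{u} p n := by
  intro n
  induction n using Nat.strong_induction_on with
  | _ n ih =>
    intro G _ _ L X S hn hLX hXL hS hsol ν hν
    set N := X ⊓ Subgroup.normalizer ((L ⊔ S : Subgroup G) : Set G) with hN
    have hLN : L ≤ N := le_inf hLX (le_sup_left.trans Subgroup.le_normalizer)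
    have hSN : S ≤ N := le_inf hS.le (le_sup_right.trans Subgroup.le_normalizer)
    by_cases hX : X ≤ st (ν : L → ℂ)
    · by_cases hd : p ∣ H12.degree (ν : L → ℂ)
      · have hz : ∀ {H : Subgroup G}, L ≤ H → H ≤ X → cnt p H (ν : L → ℂ) = 0 := fun h1 h2 => by
          refine Nat.card_eq_zero.2 (Or.inl ⟨fun χ => χ.2.1 ?_⟩)
          exact hd.trans (degree_dvd h1 (h2.trans hXL) χ.1 χ.2.2).1
        rw [hz hLX le_rfl, hz hLN inf_le_left]
      · obtain ⟨Q, _, _, Z, S', lam, hsQ, hcen, hidx, hS', e1, e2⟩ :=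
          exists_central_cover hLX hXL ν hX hd hS hsol
        rw [e1, e2]
        exact central_step ih (hidx.trans hn) hcen hS' hsQ lam
    · set T := X ⊓ st (ν : L → ℂ) with hT
      have hLT : L ≤ T := le_inf hLX (le_st ν)
      have hST : S ≤ T := le_inf hS.le hν
      have hlt : L.relIndex T < n := by
        rw [← hn, ← Subgroup.relIndex_mul_relIndex L T X hLT inf_le_left]
        refine lt_mul_of_one_lt_right (Nat.pos_of_ne_zero Subgroup.index_ne_zero_of_finite) ?_
        rcases Nat.lt_or_ge 1 (T.relIndex X) with h | h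
        · exact h
        · exfalso
          have h0 : T.relIndex X = 1 :=
            le_antisymm h (Nat.pos_of_ne_zero Subgroup.index_ne_zero_of_finite)
          exact hX ((Subgroup.relIndex_eq_one.1 h0).trans inf_le_right)
      have hIH := ih _ hlt G L T S rfl hLT (inf_le_left.trans hXL) (hS.mono hST inf_le_left)
        (H10.isPSolvable_of_injective hsol (Subgroup.inclusion (inf_le_left : T ≤ X))
          (Subgroup.inclusion_injective _)) ν hν
      rw [cnt_stab hLX hXL ν hS hν, cnt_stab hLN (inf_le_left.trans hXL) ν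
        (hS.mono hSN inf_le_left) hν, hIH, hN, inf_right_comm X]

end H87.McKay
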