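import Cfsg.Agent.H87.McKay.Core

/-!
# Transport of the pair formula to the normalizer of the Sylow subgroup
-/

set_option autoImplicit false
set_option linter.unusedSectionVars false
set_option linter.unusedVariables false
set_option linter.style.haveILetI false

open Cfsg
open scoped ComplexConjugate

namespace H87.McKay

attribute [local instance high] Fintype.ofFinite

universe u

variable {G : Type u} [Group G] [Finite G] {p : ℕ} [hp : Fact p.Prime]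
variable {M0 S Y H0 Z : Subgroup G}

/-- Two elements commuting modulo `C` generate over `C` a subgroup abelian modulo `C`. -/
theorem comm_closure {C : Subgroup G} {g x : G} (hg : g ∈ Subgroup.normalizer (C : Set G))
    (hx : x ∈ Subgroup.normalizer (C : Set G)) (hgx : g * x * g⁻¹ * x⁻¹ ∈ C) :
    ∀ a ∈ C ⊔ Subgroup.closure {g, x}, ∀ b ∈ C ⊔ Subgroup.closure {g, x},
      a * b * a⁻¹ * b⁻¹ ∈ C := by
  set N := Subgroup.normalizer (C : Set G) with hN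
  haveI : (C.subgroupOf N).Normal := normal_of_le le_rfl
  set E := C ⊔ Subgroup.closure {g, x} with hE
  have hEN : E ≤ N := sup_le Subgroup.le_normalizer ((Subgroup.closure_le _).2 (by
    rintro y (rfl | rfl) <;> assumption))
  let φ := QuotientGroup.mk' (C.subgroupOf N)
  set K := Subgroup.closure ({φ ⟨g, hg⟩, φ ⟨x, hx⟩} : Set (N ⧸ C.subgroupOf N)) with hK
  have hcomm : φ ⟨g, hg⟩ * φ ⟨x, hx⟩ = φ ⟨x, hx⟩ * φ ⟨g, hg⟩ := by
    rw [← commutatorElement_eq_one_iff_mul_comm, ← map_commutatorElement]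
    exact (QuotientGroup.eq_one_iff _).2 (by
      rw [Subgroup.mem_subgroupOf, commutatorElement_def]; exact hgx)
  have hab : ∀ a ∈ K, ∀ b ∈ K, a * b = b * a := by
    have h1 : K ≤ Subgroup.centralizer ({φ ⟨g, hg⟩, φ ⟨x, hx⟩} : Set (N ⧸ C.subgroupOf N)) := by
      rw [hK, Subgroup.closure_le]
      rintro y (rfl | rfl) <;> rw [SetLike.mem_coe, Subgroup.mem_centralizer_iff] <;>
        rintro z (rfl | rfl) <;> first | rfl | exact hcomm | exact hcomm.symm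
    intro a ha b hb
    have h2 : Subgroup.centralizer ({φ ⟨g, hg⟩, φ ⟨x, hx⟩} : Set (N ⧸ C.subgroupOf N)) ≤
        Subgroup.centralizer (K : Set (N ⧸ C.subgroupOf N)) := by
      rw [hK, Subgroup.centralizer_closure]
    exact (Subgroup.mem_centralizer_iff.1 (h2 (h1 ha)) b hb).symm
  have hEK : E ≤ (K.comap φ).map N.subtype := by
    refine sup_le (fun c hc => ⟨⟨c, Subgroup.le_normalizer hc⟩, ?_, rfl⟩)
      ((Subgroup.closure_le _).2 ?_)
    · show φ ⟨c, _⟩ ∈ K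
      rw [show φ ⟨c, Subgroup.le_normalizer hc⟩ = 1 from (QuotientGroup.eq_one_iff _).2 hc]
      exact one_mem _
    · rintro y (rfl | rfl)
      · exact ⟨⟨y, hg⟩, Subgroup.subset_closure (Or.inl rfl), rfl⟩
      · exact ⟨⟨y, hx⟩, Subgroup.subset_closure (Or.inr rfl), rfl⟩
  intro a ha b hb
  obtain ⟨a, ha', rfl⟩ := hEK ha
  obtain ⟨b, hb', rfl⟩ := hEK hb
  have h := hab _ ha' _ hb'
  rw [← commutatorElement_eq_one_iff_mul_comm, ← map_commutatorElement] at h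
  have h2 := (QuotientGroup.eq_one_iff _).1 h
  rw [Subgroup.mem_subgroupOf, commutatorElement_def] at h2
  exact h2

namespace Frame

variable (F : Frame p M0 S Y H0)
include F

theorem sub : Frame p (M0 ⊓ Subgroup.centralizer (S : Set G)) S
    (Y ⊓ Subgroup.normalizer (S : Set G)) H0 where
  leY := le_inf (inf_le_left.trans F.leY)
    (inf_le_right.trans fun c hc => Subgroup.mem_normalizer_fintype fun s hs => by
      rw [← Subgroup.mem_centralizer_iff.1 hc s hs, mul_inv_cancel_right]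
      exact hs)
  nM := fun y hy => mem_normalizer_inf_centralizer (F.nM hy.1) hy.2
  cop := fun h => F.cop (h.trans (Subgroup.card_dvd_of_le inf_le_left))
  syl := F.syl.mono (le_inf F.syl.le Subgroup.le_normalizer) inf_le_left
  nK := fun y hy => by
    refine Subgroup.mem_normalizer_fintype fun k hk => ?_
    have key : ((M0 ⊓ Subgroup.centralizer (S : Set G)) ⊔ S).map (MulAut.conj y).toMonoidHom ≤
        (M0 ⊓ Subgroup.centralizer (S : Set G)) ⊔ S := by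
      rw [Subgroup.map_sup]
      refine sup_le ?_ ?_
      · rintro _ ⟨a, ha, rfl⟩
        exact Subgroup.mem_sup_left ((Subgroup.mem_normalizer_iff.1
          (mem_normalizer_inf_centralizer (F.nM hy.1) hy.2) a).1 ha)
      · rintro _ ⟨a, ha, rfl⟩
        exact Subgroup.mem_sup_right ((Subgroup.mem_normalizer_iff.1 hy.2 a).1 ha)
    exact key ⟨k, hk, rfl⟩
  hH0 := le_inf F.hH0 F.H0S
  copH := F.copH
  cov := fun y hy => by
    obtain ⟨h, hh, k, hk, rfl⟩ := F.cov y hy.1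
    refine ⟨h, hh, k, ?_, rfl⟩
    have hkn : k ∈ Subgroup.normalizer (S : Set G) :=
      ((Subgroup.normalizer (S : Set G)).mul_mem_cancel_left (F.H0S hh)).1 hy.2
    obtain ⟨m, hm, s, hs, rfl⟩ := sdec F.hSM hk
    refine mul_mem (Subgroup.mem_sup_left (Subgroup.mem_inf.2 ⟨hm,
      Subgroup.mem_centralizer_iff.2 fun t ht => ?_⟩)) (Subgroup.mem_sup_right hs)
    have hmn : m ∈ Subgroup.normalizer (S : Set G) :=
      ((Subgroup.normalizer (S : Set G)).mul_mem_cancel_right (Subgroup.le_normalizer hs)).1 hkn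
    have h1 : m * t * m⁻¹ * t⁻¹ ∈ M0 ⊓ S := by
      refine Subgroup.mem_inf.2 ⟨?_, S.mul_mem ((Subgroup.mem_normalizer_iff.1 hmn t).1 ht)
        (S.inv_mem ht)⟩
      rw [show m * t * m⁻¹ * t⁻¹ = m * (t * m⁻¹ * t⁻¹) by group]
      exact M0.mul_mem hm ((Subgroup.mem_normalizer_iff.1 (F.hSM ht) _).1 (M0.inv_mem hm))
    rw [inf_eq_bot_of_coprime F.syl.pgroup F.cop, Subgroup.mem_bot] at h1
    have h2 := congrArg (· * (t * m)) h1
    simp only [one_mul] at h2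
    rw [← h2]
    group
  hC := inf_le_left.trans F.hC

theorem cent_st (β : (M0 ⊓ Subgroup.centralizer (S : Set G) : Subgroup G) → ℂ) : S ≤ st β :=
  central_le_st (Z := M0 ⊓ Subgroup.centralizer (S : Set G))
    (fun z hz y hy => Subgroup.mem_centralizer_iff.1 (Subgroup.mem_inf.1 hz).2 y hy) β

/-- The correspondent. -/
noncomputable def cor (θ : {θ : IrrCharacter M0 // S ≤ st (θ : M0 → ℂ)}) :
    {θ' : IrrCharacter (M0 ⊓ Subgroup.centralizer (S : Set G) : Subgroup G) //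
      S ≤ st (θ' : ↥(M0 ⊓ Subgroup.centralizer (S : Set G)) → ℂ)} :=
  ⟨(sg_exists F.hSM rfl F.syl.pgroup F.cop θ.2).choose, F.cent_st _⟩

theorem cor_spec (θ : {θ : IrrCharacter M0 // S ≤ st (θ : M0 → ℂ)}) :
    GCor p (θ.1 : M0 → ℂ) ((F.cor θ).1 : ↥(M0 ⊓ Subgroup.centralizer (S : Set G)) → ℂ) :=
  (sg_exists F.hSM rfl F.syl.pgroup F.cop θ.2).choose_spec

theorem cor_bijective : Function.Bijective F.cor := by
  refine ⟨fun a b h => Subtype.ext ?_, fun β => ?_⟩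
  · exact sg_injective F.hSM rfl F.syl.pgroup F.cop a.2 b.2 (F.cor_spec a) (by
      rw [h]; exact F.cor_spec b)
  · obtain ⟨θ, h1, h2⟩ := sg_surjective F.hSM rfl F.syl.pgroup F.cop β.1
    exact ⟨⟨θ, h1⟩, Subtype.ext
      (sg_unique F.hSM rfl F.syl.pgroup F.cop h1 (F.cor_spec ⟨θ, h1⟩) h2)⟩

/-- The correspondence of pairs. -/
noncomputable def corPar :
    Par M0 S ≃ Par (M0 ⊓ Subgroup.centralizer (S : Set G)) S :=
  Equiv.prodCongr (Equiv.ofBijective F.cor F.cor_bijective) (Equiv.refl _)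

theorem corPar_twPar (q : Par M0 S) {x : G} (hx : x ∈ H0) :
    F.corPar (F.twPar q hx) = F.sub.twPar (F.corPar q) hx := by
  refine Prod.ext (Subtype.ext ?_) (MonoidHom.ext fun s => rfl)
  exact sg_unique F.hSM rfl F.syl.pgroup F.cop (F.twPar q hx).1.2 (F.cor_spec (F.twPar q hx).1)
    (gcor_tw (F.H0M hx) (F.sub.H0M hx) inf_le_left (F.cor_spec q.1))

theorem porb_cor (q q' : Par M0 S) :
    POrb H0 q q' ↔ POrb H0 (F.corPar q) (F.corPar q') := by
  rw [F.porb_iff, F.sub.porb_iff]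
  refine exists_congr fun x => exists_congr fun hx => ?_
  rw [← F.corPar_twPar q hx, F.corPar.apply_eq_iff_eq]

theorem hq_cor (q : Par M0 S) : Hq H0 (F.corPar q) = Hq H0 q := by
  refine Subgroup.ext fun x => ?_
  by_cases hx : x ∈ H0
  · rw [F.mem_Hq_iff q hx, F.sub.mem_Hq_iff _ hx, ← F.corPar_twPar q hx,
      F.corPar.apply_eq_iff_eq]
  · exact ⟨fun h => absurd h.1.1 hx, fun h => absurd h.1.1 hx⟩

theorem good_cor (q : Par M0 S) {g : G} (hg : g ∈ Hq H0 q) :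
    GoodEl (q.1.1 : M0 → ℂ) (Hq H0 q) g ↔
      GoodEl ((F.cor q.1).1 : ↥(M0 ⊓ Subgroup.centralizer (S : Set G)) → ℂ) (Hq H0 q) g := by
  set C := M0 ⊓ Subgroup.centralizer (S : Set G) with hC
  have hH : Hq H0 q ≤ H0 := inf_le_left.trans inf_le_left
  have hmem : ∀ x ∈ Hq H0 q, (g * x * g⁻¹ * x⁻¹ ∈ M0 ↔ g * x * g⁻¹ * x⁻¹ ∈ C) := by
    intro x hx
    refine ⟨fun h => ?_, fun h => h.1⟩
    have hm : g * x * g⁻¹ * x⁻¹ ∈ H0 ⊓ M0 := Subgroup.mem_inf.2 ⟨mul_mem (mul_mem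
      (mul_mem (hH hg) (hH hx)) (inv_mem (hH hg))) (inv_mem (hH hx)), h⟩
    rwa [F.H0_inf_M0] at hm
  have key : ∀ x ∈ Hq H0 q, g * x * g⁻¹ * x⁻¹ ∈ C →
      (ExtTo (q.1.1 : M0 → ℂ) (M0 ⊔ Subgroup.closure {g, x}) ↔
        ExtTo ((F.cor q.1).1 : C → ℂ) (C ⊔ Subgroup.closure {g, x})) := by
    intro x hx hgx
    have hEH : C ⊔ Subgroup.closure {g, x} ≤ H0 := sup_le F.hC ((Subgroup.closure_le _).2 (by
      rintro y (rfl | rfl)
      · exact hH hg
      · exact hH hx))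
    have h := ext_iff (p := p) (E := C ⊔ Subgroup.closure {g, x}) F.syl.pgroup F.cop
      (fun h => F.copH (h.trans (Subgroup.card_dvd_of_le hEH))) F.hSM (hEH.trans F.H0M)
      (hEH.trans F.H0S) hC
      (le_antisymm ((inf_le_inf_right _ hEH).trans F.H0_inf_M0.le)
        (le_inf le_sup_left inf_le_left))
      (comm_closure (F.sub.H0M (hH hg)) (F.sub.H0M (hH hx)) hgx) q.1.2
      (sup_le (inf_le_left.trans (le_st _)) ((Subgroup.closure_le _).2 (by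
        rintro y (rfl | rfl)
        · exact hg.1.2
        · exact hx.1.2)))
      (F.cor_spec q.1)
    rwa [← sup_assoc, sup_eq_left.2 (inf_le_left : C ≤ M0)] at h
  constructor
  · intro h x hx hgx
    exact (key x hx hgx).1 (h x hx ((hmem x hx).2 hgx))
  · intro h x hx hgx
    exact (key x hx ((hmem x hx).1 hgx)).2 (h x hx ((hmem x hx).1 hgx))

theorem nq_formula (q : Par M0 S) :
    nq H0 q * Nat.card (Hq H0 q) * Nat.card (Hq H0 q ⊓ M0 : Subgroup G) =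
      Nat.card {z : Hq H0 q × Hq H0 q // (z.1 : G) * z.2 * (z.1 : G)⁻¹ * (z.2 : G)⁻¹ ∈ M0 ∧
        GoodEl (q.1.1 : M0 → ℂ) (Hq H0 q) z.1} := by
  have hH : Hq H0 q ≤ H0 := inf_le_left.trans inf_le_left
  refine count_formula le_sup_left (sup_le (le_st _) (inf_le_left.trans inf_le_right))
    le_sup_right fun t ht => ?_
  rw [sup_comm] at ht
  have ht' : t ∈ ((Hq H0 q ⊔ M0 : Subgroup G) : Set G) := ht
  rw [Subgroup.coe_mul_of_left_le_normalizer_right _ _ (hH.trans F.H0M)] at ht'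
  obtain ⟨h, hh, m, hm, rfl⟩ := ht'
  exact ⟨h, hh, m, hm, rfl⟩

theorem nq_cor (q : Par M0 S) : nq H0 (F.corPar q) = nq H0 q := by
  have hH : Hq H0 q ≤ H0 := inf_le_left.trans inf_le_left
  have h1 := F.nq_formula q
  have h2 := F.sub.nq_formula (F.corPar q)
  rw [F.hq_cor q] at h2
  have e1 : Hq H0 q ⊓ (M0 ⊓ Subgroup.centralizer (S : Set G)) = Hq H0 q ⊓ M0 := by
    rw [← F.H0_inf_M0, ← inf_assoc, inf_eq_left.2 hH]
  rw [e1] at h2
  have e2 : Nat.card {z : Hq H0 q × Hq H0 q //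
      (z.1 : G) * z.2 * (z.1 : G)⁻¹ * (z.2 : G)⁻¹ ∈ M0 ∧
        GoodEl (q.1.1 : M0 → ℂ) (Hq H0 q) z.1} =
      Nat.card {z : Hq H0 q × Hq H0 q //
      (z.1 : G) * z.2 * (z.1 : G)⁻¹ * (z.2 : G)⁻¹ ∈ M0 ⊓ Subgroup.centralizer (S : Set G) ∧
        GoodEl ((F.corPar q).1.1 : ↥(M0 ⊓ Subgroup.centralizer (S : Set G)) → ℂ) (Hq H0 q)
          z.1} := by
    refine Nat.card_congr (Equiv.subtypeEquivRight fun z => and_congr ?_ (F.good_cor q z.1.2))
    refine ⟨fun h => ?_, fun h => h.1⟩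
    rw [← F.H0_inf_M0]
    exact Subgroup.mem_inf.2 ⟨mul_mem (mul_mem (mul_mem (hH z.1.2) (hH z.2.2))
      (inv_mem (hH z.1.2))) (inv_mem (hH z.2.2)), h⟩
  rw [e2, ← h2] at h1
  exact (Nat.eq_of_mul_eq_mul_right Nat.card_pos (Nat.eq_of_mul_eq_mul_right Nat.card_pos h1)).symm

variable (hZK : Z ≤ M0 ⊔ S) (hc : ∀ z ∈ Z, ∀ y ∈ Y, y * z = z * y)
  (hdec : ∀ z ∈ Z, ∃ m ∈ Z ⊓ M0, ∃ s ∈ Z ⊓ S, m * s = z) (lam : Z →* ℂˣ)
include hZK hc hdec

theorem valid_cor (q : Par M0 S) : Valid lam q ↔ Valid lam (F.corPar q) := by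
  refine and_congr ?_ Iff.rfl
  set C := M0 ⊓ Subgroup.centralizer (S : Set G) with hC
  have hZC : ∀ z ∈ Z, z ∈ M0 → z ∈ C := fun z hz hzM => Subgroup.mem_inf.2
    ⟨hzM, Subgroup.mem_centralizer_iff.2 fun s hs => hc z hz s (F.syl.le hs)⟩
  have hAM : Z ⊓ M0 ≤ M0 := inf_le_right
  have hAC : Z ⊓ M0 ≤ C := fun z hz => hZC z hz.1 hz.2
  have hcM : ∀ z ∈ Z ⊓ M0, ∀ y ∈ M0, y * z = z * y := fun z hz y hy => hc z hz.1 y (F.leY hy)
  have hcC : ∀ z ∈ Z ⊓ M0, ∀ y ∈ C, y * z = z * y := fun z hz y hy => hcM z hz y hy.1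
  let lam0 : ↥(Z ⊓ M0) →* ℂˣ := lam.comp (Subgroup.inclusion inf_le_left)
  have hL : (∀ z : Z, (z : G) ∈ M0 →
        cf (q.1.1 : M0 → ℂ) z = (H12.degree (q.1.1 : M0 → ℂ) : ℂ) * (lam z : ℂ)) ↔
      mlt (q.1.1 : M0 → ℂ) (H12.linIrr lam0 : ↥(Z ⊓ M0) → ℂ) ≠ 0 := by
    rw [over_linear_iff hAM hcM]
    exact ⟨fun h z => h ⟨z, z.2.1⟩ z.2.2, fun h z hz => h ⟨z, Subgroup.mem_inf.2 ⟨z.2, hz⟩⟩⟩
  have hR : (∀ z : Z, (z : G) ∈ C → cf ((F.cor q.1).1 : C → ℂ) z =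
        (H12.degree ((F.cor q.1).1 : C → ℂ) : ℂ) * (lam z : ℂ)) ↔
      mlt ((F.cor q.1).1 : C → ℂ) (H12.linIrr lam0 : ↥(Z ⊓ M0) → ℂ) ≠ 0 := by
    rw [over_linear_iff hAC hcC]
    exact ⟨fun h z => h ⟨z, z.2.1⟩ (hAC z.2),
      fun h z hz => h ⟨z, Subgroup.mem_inf.2 ⟨z.2, hz.1⟩⟩⟩
  show _ ↔ (∀ z : Z, (z : G) ∈ C → cf ((F.cor q.1).1 : C → ℂ) z =
        (H12.degree ((F.cor q.1).1 : C → ℂ) : ℂ) * (lam z : ℂ))
  rw [hL, hR]
  have key : ∀ α : IrrCharacter ↥(Z ⊓ M0), mlt (q.1.1 : M0 → ℂ) (α : ↥(Z ⊓ M0) → ℂ) ≠ 0 →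
      mlt ((F.cor q.1).1 : C → ℂ) (α : ↥(Z ⊓ M0) → ℂ) ≠ 0 := by
    intro α hα h0
    have h1 := sg_chain F.hSM hC F.syl.pgroup F.cop hAC q.1.2 (F.cor_spec q.1) α
    rw [h0, Nat.cast_zero, mul_zero, ZMod.natCast_eq_zero_iff] at h1
    have h2 := degree_eq hAM (central_le_st hcM _) q.1.1 hα
    exact F.cop ((h2 ▸ dvd_mul_of_dvd_left h1 _).trans (H12.irr_degree_dvd_card q.1.1))
  refine ⟨key _, fun h => ?_⟩
  obtain ⟨α, hα⟩ := exists_mlt_ne_zero hAM q.1.1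
  by_contra hne
  have hαne : α ≠ H12.linIrr lam0 := fun e => hα (e.symm ▸ hne)
  exact key α hα (mlt_eq_zero_of_inv hAC (central_le_st hcC _) _ h hαne)

open scoped Classical in
/-- The count is the same in the normalizer of `S`. -/
theorem cnt_eq :
    cnt p Y (H12.linIrr lam : Z → ℂ) =
      cnt p (Y ⊓ Subgroup.normalizer (S : Set G)) (H12.linIrr lam : Z → ℂ) := by
  have hdec' : ∀ z ∈ Z, ∃ m ∈ Z ⊓ (M0 ⊓ Subgroup.centralizer (S : Set G)),
      ∃ s ∈ Z ⊓ S, m * s = z := fun z hz => by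
    obtain ⟨m, hm, s, hs, e⟩ := hdec z hz
    exact ⟨m, Subgroup.mem_inf.2 ⟨hm.1, Subgroup.mem_inf.2 ⟨hm.2,
      Subgroup.mem_centralizer_iff.2 fun t ht => hc m hm.1 t (F.syl.le ht)⟩⟩, s, hs, e⟩
  have hZK' : Z ≤ (M0 ⊓ Subgroup.centralizer (S : Set G)) ⊔ S := fun z hz => by
    obtain ⟨m, hm, s, hs, rfl⟩ := hdec' z hz
    exact mul_mem (Subgroup.mem_sup_left hm.2) (Subgroup.mem_sup_right hs.2)
  have h : (cnt p Y (H12.linIrr lam : Z → ℂ) : ℚ) =
      (cnt p (Y ⊓ Subgroup.normalizer (S : Set G)) (H12.linIrr lam : Z → ℂ) : ℚ) := by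
    rw [F.count hZK hc hdec lam, F.sub.count hZK' (fun z hz y hy => hc z hz y hy.1) hdec' lam]
    let e := F.corPar.subtypeEquiv (F.valid_cor hZK hc hdec lam)
    refine Fintype.sum_equiv e _ _ fun q => ?_
    congr 1
    · exact_mod_cast (F.nq_cor q.1).symm
    · exact_mod_cast Nat.card_congr (e.subtypeEquiv fun q' => F.porb_cor q.1 q'.1)
  exact_mod_cast h

end Frame

end H87.McKay
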